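import Cfsg.Agent.BZ.L.K3.Defs

/-!
# BZ / L / K3 : common reductions for the lattice lemmas (helper27)

* `ca_of`, `conj_md` : the `l`-elements of `Γ`; `md_dvd` : `Md` for eigenvectors;
* `ka`, `kb`, `Kf` : the Killing maps and the Killing form; `perp_of`.
-/

set_option autoImplicit false
set_option linter.unusedSectionVars false

namespace Cfsg.Agent.BZ.K3.Rd

open Cfsg Subgroup Matrix Cfsg.Agent.KM Cfsg.Agent.BZ.L Cfsg.Agent.DL Cfsg.Agent.KM.Tor Cfsg.Agent.DL.PP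

section pure

variable {R : Type} [Fintype R] [DecidableEq R] {A : Matrix R R ℤ} {n : ℕ} {Q : ℤ}

theorem ud_one {y : R → ℤ} : Ud 1 A y ↔ A *ᵥ y = y := by
  rw [Ud, Polynomial.cyclotomic_one, map_sub, Polynomial.aeval_X, map_one, sub_mulVec, one_mulVec, sub_eq_zero]

theorem ud_two {y : R → ℤ} : Ud 2 A y ↔ A *ᵥ y = -y := by
  rw [Ud, Polynomial.cyclotomic_two, map_add, Polynomial.aeval_X, map_one, add_mulVec, one_mulVec, add_eq_zero_iff_eq_neg]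

theorem ud_four {y : R → ℤ} : Ud 4 A y ↔ A *ᵥ (A *ᵥ y) = -y := by
  have h : Polynomial.cyclotomic 4 ℤ = Polynomial.X ^ 2 + 1 := by
    have := Polynomial.cyclotomic_prime_pow_eq_geom_sum (R := ℤ) (p := 2) (n := 1) Nat.prime_two
    simpa [Finset.sum_range_succ, add_comm] using this
  rw [Ud, h, map_add, map_pow, Polynomial.aeval_X, map_one, add_mulVec, one_mulVec, add_eq_zero_iff_eq_neg, pow_two, mulVec_mulVec]

theorem inj (hA : A ^ n = 1) (hQ : Q ^ n ≠ 1) {u : R → ℤ} (h : u ᵥ* (Q • A - 1) = 0) : u = 0 := by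
  have h1 : u ᵥ* ((Q • A - 1) * ∑ i ∈ Finset.range n, (Q • A) ^ i) = 0 := by rw [← vecMul_vecMul, h, zero_vecMul]
  rw [mul_geom_sum, smul_pow, hA, vecMul_sub, vecMul_smul, vecMul_one] at h1
  have h2 : (Q ^ n - 1) • u = 0 := by rw [sub_smul, one_smul, h1]
  exact (smul_eq_zero.1 h2).resolve_left (sub_ne_zero.2 hQ)

theorem mulVec_inj (hn : 0 < n) (hA : A ^ n = 1) {u v : R → ℤ} (h : A *ᵥ u = A *ᵥ v) : u = v := by
  obtain ⟨n, rfl⟩ := Nat.exists_eq_succ_of_ne_zero hn.ne'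
  rw [← one_mulVec u, ← one_mulVec v, ← hA, pow_succ, ← mulVec_mulVec, ← mulVec_mulVec, h]

/-- an eigenvector which is trivial on the `l`-part of the torus is divisible by `l` -/
theorem md_dvd {l : ℕ} (hl : l.Prime) (h2 : l ≠ 2) (hn : 0 < n) (hA : A ^ n = 1) {ε : ℤ} (hε : ε = 1 ∨ ε = -1)
    (hQ : (l : ℤ) ∣ ε * Q - 1) {z : R → ℤ} (hz : z ᵥ* A = ε • z) (h : Md l Q A z) (r : R) : (l : ℤ) ∣ z r := by
  obtain ⟨c, hc, x, hx⟩ := h
  have hlp : Prime (l : ℤ) := Nat.prime_iff_prime_int.1 hl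
  have hee : ε * ε = 1 := by rcases hε with rfl | rfl <;> norm_num
  refine (hlp.dvd_or_dvd (a := c) ?_).resolve_left hc
  by_cases h1 : Q ^ (2 * n) = 1
  · have h3 : ε * Q = 1 := by
      have h4 : Q = 1 ∨ Q = -1 := Int.isUnit_iff.1 (IsUnit.of_pow_eq_one h1 (by omega))
      by_contra h5
      have h6 : ε * Q - 1 = -2 := by rcases hε with rfl | rfl <;> rcases h4 with rfl | rfl <;> simp_all
      rw [h6, dvd_neg] at hQ
      exact h2 ((Nat.prime_dvd_prime_iff_eq hl Nat.prime_two).1 (Int.natCast_dvd_natCast.1 hQ))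
    have h4 : z ᵥ* (Q • A) = z := by rw [vecMul_smul, hz, smul_smul, mul_comm, h3, one_smul]
    have h5 : ∀ j : ℕ, z ᵥ* ∑ i ∈ Finset.range j, (Q • A) ^ i = (j : ℤ) • z ∧ z ᵥ* (Q • A) ^ j = z := fun j => by
      induction j with
      | zero => simp
      | succ j ih =>
        rw [Finset.sum_range_succ, vecMul_add, ih.1, ih.2, pow_succ, ← vecMul_vecMul, ih.2, h4, Nat.cast_succ, add_smul, one_smul]
        exact ⟨rfl, rfl⟩
    have h6 := congrArg (· ᵥ* ∑ i ∈ Finset.range (2 * n), (Q • A) ^ i) hx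
    simp only [vecMul_vecMul, mul_geom_sum] at h6
    rw [smul_vecMul, (h5 _).1, smul_pow, h1, mul_comm 2, pow_mul, hA, one_pow, one_smul, sub_self, vecMul_zero, smul_comm,
      smul_eq_zero] at h6
    have h7 : c * z r = 0 := congrFun (h6.resolve_left (by exact_mod_cast (by omega : n * 2 ≠ 0))) r
    rw [h7]
    exact dvd_zero _
  · have h3 : x ᵥ* A - ε • x = 0 := inj (n := 2 * n) (by rw [mul_comm, pow_mul, hA, one_pow]) h1 (by
      rw [sub_vecMul, smul_vecMul, ← hx, vecMul_vecMul, show A * (Q • A - 1) = (Q • A - 1) * A by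
        rw [mul_sub, sub_mul, mul_smul_comm, smul_mul_assoc, mul_one, one_mul], ← vecMul_vecMul, ← hx, smul_vecMul, hz,
        smul_comm, sub_self])
    rw [vecMul_sub, vecMul_smul, vecMul_one, sub_eq_zero.1 h3] at hx
    have h4 : c * z r = Q * (ε * x r) - x r := congrFun hx r
    rw [h4, show Q * (ε * x r) - x r = (ε * Q - 1) * x r by ring]
    exact hQ.mul_right _

end pure

variable {p : ℕ} [Fact p.Prime] {k : Type} [Field k] [CharP k p] {Y : Type} [Group Y] {N : Type} [Fintype N]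
  [DecidableEq N] {ρ : Y →* GL N k} {F : MulAut Y} {G : Subgroup Y} [IsAlgClosed k] {X : Datum p ρ F G}
  {l d q n c : ℕ} {Q : ℤ} {A : Matrix X.R X.R ℤ} {Γ : Subgroup X.W}

theorem ca_of (hl : l.Prime) (h : ∀ g ∈ Γ, (∃ j : ℕ, g ^ l ^ j = 1) → Tv X d A g) : CA X l d A Γ := by
  have : Fact l.Prime := ⟨hl⟩
  obtain ⟨P⟩ : Nonempty (Sylow l Γ) := inferInstance
  refine ⟨(P : Subgroup Γ).map Γ.subtype, map_subtype_le _, ?_, ?_⟩
  · rw [relIndex, subgroupOf, comap_map_eq_self_of_injective (subtype_injective Γ)]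
    exact P.not_dvd_index
  · rintro _ ⟨u, hu, rfl⟩
    obtain ⟨j, hj⟩ := P.2 ⟨u, hu⟩
    exact h u u.2 ⟨j, congrArg (fun x : (P : Subgroup Γ) => ((x : Γ) : X.W)) hj⟩

theorem conj_mem (hl : l.Prime) {Δ : Subgroup X.W} (h : ¬ l ∣ Δ.relIndex Γ) {g : X.W} (hg : g ∈ Γ) {j : ℕ} (hj : g ^ l ^ j = 1) :
    ∃ w ∈ Γ, w⁻¹ * g * w ∈ Δ := by
  have : Fact l.Prime := ⟨hl⟩
  have h1 : IsPGroup l (zpowers (⟨g, hg⟩ : Γ)) := by
    rintro ⟨_, i, rfl⟩
    refine ⟨j, Subtype.ext (Subtype.ext ?_)⟩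
    show (g ^ i) ^ l ^ j = 1
    rw [← zpow_natCast, ← _root_.zpow_mul, mul_comm, _root_.zpow_mul, zpow_natCast, hj, _root_.one_zpow]
  obtain ⟨x, hx⟩ := h1.nonempty_fixed_point_of_prime_not_dvd_card (Γ ⧸ Δ.subgroupOf Γ) h
  obtain ⟨w, rfl⟩ := QuotientGroup.mk_surjective x
  have h2 : ((w : Γ) : Γ ⧸ Δ.subgroupOf Γ) = ((⟨g, hg⟩ * w : Γ) : Γ ⧸ Δ.subgroupOf Γ) := (hx ⟨_, mem_zpowers _⟩).symm
  exact ⟨w, w.2, by simpa [mul_assoc, mem_subgroupOf] using QuotientGroup.eq.1 h2⟩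

/-- a conjugate of an `l`-element fixes the test vector -/
theorem conj_md (hl : l.Prime) (h : Lt X l d Q A Γ) {g : X.W} (hg : g ∈ Γ) {j : ℕ} (hj : g ^ l ^ j = 1) (β : X.I → ℤ)
    (hβ : ∀ a ∈ PL X d A, X.wt β ⬝ᵥ X.cor a = 0) : ∃ w ∈ Γ, Md l Q A (X.wt β ᵥ* X.Wm (w⁻¹ * g * w) - X.wt β) := by
  obtain ⟨Δ, -, h1, h2⟩ := h.orb β hβ
  obtain ⟨w, hw, h3⟩ := conj_mem hl h1 hg hj
  exact ⟨w, hw, h2 _ h3⟩

variable (X A) in
/-- the normalised Frobenius map -/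
structure Nf (n : ℕ) : Prop where
  n0 : 0 < n
  pow : A ^ n = 1
  cor : ∀ a, X.Rt a → A *ᵥ X.cor a = X.cor (X.g a)
  wt : ∀ a, X.Rt a → X.wt (X.g a) ᵥ* A = X.wt a

theorem nf (hq : 0 < q) (h : Cs X q n c) (hA : X.Mx = (q : ℤ) • A) : Nf X A n := by
  have h0 : (q : ℤ) ≠ 0 := by exact_mod_cast hq.ne'
  have h1 : ∀ a, X.Rt a → (p : ℤ) ^ X.ex a = q := fun a ha => by rw [← h.ex a ha, Nat.cast_pow]
  obtain ⟨B, h2, h3⟩ := h.mat 1
  rw [X.Wm_one, one_mul, hA] at h2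
  refine ⟨h.n0, smul_right_injective _ h0 h2 ▸ h3, fun a ha => smul_right_injective _ h0 ?_, fun a ha => smul_right_injective _ h0 ?_⟩
  · have := X.Mx_cor ha
    rwa [hA, smul_mulVec, h1 a ha] at this
  · have := X.wt_ψ (X.g a)
    rw [X.ψ_g ha, hA, vecMul_smul, map_zsmul, h1 a ha] at this
    exact this.symm

theorem sum_g {M : Type*} [AddCommMonoid M] (f : (X.I → ℤ) → M) : ∑ c ∈ Phi X, f (X.g c) = ∑ c ∈ Phi X, f c :=
  Finset.sum_bij (fun c _ => X.g c) (fun _ hc => (mem_Phi X).2 (X.g_root _ ((mem_Phi X).1 hc)))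
    (fun _ ha _ hb e => X.g_inj ((mem_Phi X).1 ha) ((mem_Phi X).1 hb) e)
    (fun _ hb => let ⟨a, ha, e⟩ := X.g_surj ((mem_Phi X).1 hb); ⟨a, (mem_Phi X).2 ha, e⟩) fun _ _ => rfl

variable (X) in
/-- the Killing map from the characters to the cocharacters -/
noncomputable def ka : (X.R → ℤ) →+ (X.R → ℤ) := AddMonoidHom.mk' (fun x => ∑ c ∈ Phi X, (x ⬝ᵥ X.cor c) • X.cor c) fun x y => by
  simp only [add_dotProduct, add_smul, Finset.sum_add_distrib]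

variable (X) in
/-- the Killing map from the cocharacters to the root lattice -/
noncomputable def kb : (X.R → ℤ) →+ (X.I → ℤ) := AddMonoidHom.mk' (fun y => ∑ a ∈ Phi X, (X.wt a ⬝ᵥ y) • a) fun x y => by
  simp only [dotProduct_add, add_smul, Finset.sum_add_distrib]

theorem ka_apply (x : X.R → ℤ) : ka X x = ∑ c ∈ Phi X, (x ⬝ᵥ X.cor c) • X.cor c := rfl

theorem wt_kb (y : X.R → ℤ) : X.wt (kb X y) = ∑ a ∈ Phi X, (X.wt a ⬝ᵥ y) • X.wt a := by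
  rw [show kb X y = ∑ a ∈ Phi X, (X.wt a ⬝ᵥ y) • a from rfl, map_sum]
  exact Finset.sum_congr rfl fun a _ => map_zsmul _ _ _

theorem dot_ka (x x' : X.R → ℤ) : x' ⬝ᵥ ka X x = ∑ c ∈ Phi X, (x ⬝ᵥ X.cor c) * (x' ⬝ᵥ X.cor c) := by
  rw [ka_apply, dotProduct_sum]
  exact Finset.sum_congr rfl fun c _ => by rw [dotProduct_smul, smul_eq_mul]

theorem ka_symm (x x' : X.R → ℤ) : x' ⬝ᵥ ka X x = x ⬝ᵥ ka X x' := by
  rw [dot_ka, dot_ka]
  exact Finset.sum_congr rfl fun c _ => mul_comm _ _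

theorem ka_nonneg (x : X.R → ℤ) : 0 ≤ x ⬝ᵥ ka X x := by
  rw [dot_ka]
  exact Finset.sum_nonneg fun c _ => mul_self_nonneg _

theorem ka_zero {x : X.R → ℤ} (h : x ⬝ᵥ ka X x = 0) {c : X.I → ℤ} (hc : X.Rt c) : x ⬝ᵥ X.cor c = 0 := by
  rw [dot_ka, Finset.sum_eq_zero_iff_of_nonneg fun c _ => mul_self_nonneg _] at h
  exact mul_self_eq_zero.1 (h c ((mem_Phi X).2 hc))

theorem kb_zero (ss : ∀ v, Pp X {a | X.Rt a} v → v = 0) {y : X.R → ℤ} (h : X.wt (kb X y) ⬝ᵥ y = 0) : y = 0 := by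
  rw [wt_kb, sum_dotProduct] at h
  simp only [smul_dotProduct, smul_eq_mul] at h
  rw [Finset.sum_eq_zero_iff_of_nonneg fun c _ => mul_self_nonneg _] at h
  exact ss y fun a ha => mul_self_eq_zero.1 (h a ((mem_Phi X).2 ha))

theorem Wm_ka (w : X.W) (x : X.R → ℤ) : X.Wm w *ᵥ ka X (x ᵥ* X.Wm w) = ka X x := by
  rw [ka_apply, ka_apply, mulVec_sum, ← sum_act X w fun c => (x ⬝ᵥ X.cor c) • X.cor c]
  exact Finset.sum_congr rfl fun c hc => by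
    rw [mulVec_smul, X.cor_act w ((mem_Phi X).1 hc), dotProduct_mulVec]

theorem Nf.ka (h : Nf X A n) (x : X.R → ℤ) : A *ᵥ ka X (x ᵥ* A) = ka X x := by
  rw [ka_apply, ka_apply, mulVec_sum, ← sum_g fun c => (x ⬝ᵥ X.cor c) • X.cor c]
  exact Finset.sum_congr rfl fun c hc => by
    rw [mulVec_smul, ← h.cor c ((mem_Phi X).1 hc), dotProduct_mulVec]

theorem Nf.kb (h : Nf X A n) (y : X.R → ℤ) : X.wt (kb X (A *ᵥ y)) ᵥ* A = X.wt (kb X y) := by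
  rw [wt_kb, wt_kb, ← sum_g fun a => (X.wt a ⬝ᵥ A *ᵥ y) • X.wt a, sum_vecMul]
  exact Finset.sum_congr rfl fun c hc => by
    rw [smul_vecMul, dotProduct_mulVec, h.wt c ((mem_Phi X).1 hc)]

theorem form_Wm (w : X.W) (x x' : X.R → ℤ) : (x' ᵥ* X.Wm w) ⬝ᵥ ka X (x ᵥ* X.Wm w) = x' ⬝ᵥ ka X x := by
  rw [← dotProduct_mulVec, Wm_ka]

theorem Nf.form (h : Nf X A n) (x x' : X.R → ℤ) : (x' ᵥ* A) ⬝ᵥ Rd.ka X (x ᵥ* A) = x' ⬝ᵥ Rd.ka X x := by
  rw [← dotProduct_mulVec, h.ka]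

/-- test vectors -/
theorem perp_of {x : X.R → ℤ} (h : Ud d A (ka X x)) : ∀ a ∈ PL X d A, x ⬝ᵥ X.cor a = 0 := fun a ha => by
  have h1 := two_sum' X x ha.1
  have h2 := ha.2 _ h
  rw [dot_ka, Finset.sum_congr rfl fun c hc => by rw [wt_dot_cor X a ((mem_Phi X).1 hc)]] at h2
  rw [h2, mul_zero] at h1
  exact (mul_eq_zero.1 h1.symm).resolve_left (sum_sq_pos' X ha.1).ne'

theorem Nf.ka_eig (h : Nf X A n) {ε : ℤ} (hε : ε * ε = 1) {x : X.R → ℤ} (hx : x ᵥ* A = ε • x) : A *ᵥ Rd.ka X x = ε • Rd.ka X x := by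
  have h1 := h.ka x
  rw [hx, map_zsmul, mulVec_smul] at h1
  rw [← h1, smul_smul, hε, one_smul, h1]

theorem Nf.kb_eig (h : Nf X A n) {ε : ℤ} (hε : ε * ε = 1) {y : X.R → ℤ} (hy : A *ᵥ y = ε • y) :
    X.wt (Rd.kb X y) ᵥ* A = ε • X.wt (Rd.kb X y) := by
  have h1 := h.kb y
  rw [hy, map_zsmul, map_zsmul, smul_vecMul] at h1
  rw [← h1, smul_smul, hε, one_smul, h1]

end Cfsg.Agent.BZ.K3.Rd
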