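import Cfsg.Agent.BH.RowO.Ad6L

/-!
# BZ / L / K3 : the lattice `D₄` (helper68)
-/

set_option autoImplicit false

namespace Cfsg.Agent.BZ.K3.LS

open Matrix Cfsg.Agent.BH.RO.A6

theorem ax {u : Fin 4 → ℤ} (h0 : u 0 = 0) (h : u ⬝ᵥ u = 4) :
    ∃ j : Fin 4, j ≠ 0 ∧ ∃ ε : ℤ, (ε = 2 ∨ ε = -2) ∧ ∀ z, z ⬝ᵥ u = z j * ε := by
  simp only [dotProduct, Fin.sum_univ_four, h0] at h ⊢
  have h1 : -2 ≤ u 1 ∧ u 1 ≤ 2 := abs_le_of_sq_le_sq' (by nlinarith [sq_nonneg (u 2), sq_nonneg (u 3)]) (by norm_num)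
  have h2 : -2 ≤ u 2 ∧ u 2 ≤ 2 := abs_le_of_sq_le_sq' (by nlinarith [sq_nonneg (u 1), sq_nonneg (u 3)]) (by norm_num)
  have h3 : -2 ≤ u 3 ∧ u 3 ≤ 2 := abs_le_of_sq_le_sq' (by nlinarith [sq_nonneg (u 1), sq_nonneg (u 2)]) (by norm_num)
  have h4 : (u 2 = 0 ∧ u 3 = 0 ∧ (u 1 = 2 ∨ u 1 = -2)) ∨ (u 1 = 0 ∧ u 3 = 0 ∧ (u 2 = 2 ∨ u 2 = -2)) ∨
      (u 1 = 0 ∧ u 2 = 0 ∧ (u 3 = 2 ∨ u 3 = -2)) := by
    generalize u 1 = a at *
    generalize u 2 = b at *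
    generalize u 3 = c at *
    obtain ⟨_, _⟩ := h1
    obtain ⟨_, _⟩ := h2
    obtain ⟨_, _⟩ := h3
    interval_cases a <;> interval_cases b <;> interval_cases c <;> simp_all
  rcases h4 with ⟨e1, e2, e3⟩ | ⟨e1, e2, e3⟩ | ⟨e1, e2, e3⟩
  exacts [⟨1, by decide, _, e3, fun z => by rw [e1, e2]; ring⟩, ⟨2, by decide, _, e3, fun z => by rw [e1, e2]; ring⟩,
    ⟨3, by decide, _, e3, fun z => by rw [e1, e2]; ring⟩]

/-- three vectors on the axes which are permuted and have the same product with a root -/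
theorem tri {u v w z : Fin 4 → ℤ} (u0 : u 0 = 0) (v0 : v 0 = 0) (w0 : w 0 = 0) (hu : u ⬝ᵥ u = 4) (hv : v ⬝ᵥ v = 4) (hw : w ⬝ᵥ w = 4)
    (h1 : u ⬝ᵥ v = v ⬝ᵥ w) (h2 : v ⬝ᵥ w = w ⬝ᵥ u) (hz : z ⬝ᵥ z = 2) (h3 : z ⬝ᵥ u = z ⬝ᵥ v) (h4 : z ⬝ᵥ v = z ⬝ᵥ w) : u ⬝ᵥ v = 4 := by
  obtain ⟨i, i0, a, ha, ka⟩ := ax u0 hu
  obtain ⟨j, j0, b, hb, kb⟩ := ax v0 hv
  obtain ⟨k, k0, c, hc, kc⟩ := ax w0 hw
  have e1 : ∀ m, u m = if m = i then a else 0 := fun m => by simpa [Pi.single_apply, eq_comm] using ka (Pi.single m 1)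
  have e2 : ∀ m, v m = if m = j then b else 0 := fun m => by simpa [Pi.single_apply, eq_comm] using kb (Pi.single m 1)
  have e3 : ∀ m, w m = if m = k then c else 0 := fun m => by simpa [Pi.single_apply, eq_comm] using kc (Pi.single m 1)
  rw [ka, kb] at h3
  rw [kb, kc] at h4
  rw [kb, kc, e1, e2] at h1
  rw [kc, ka, e2, e3] at h2
  rw [kb, e1]
  have e4 : ∀ t : ℤ, z 0 * z 0 + 3 * (t * t) ≠ 2 := fun t e => by
    have := Int.emod_emod_of_dvd (z 0 * z 0) (dvd_refl 3)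
    have h5 : z 0 % 3 = 0 ∨ z 0 % 3 = 1 ∨ z 0 % 3 = 2 := by omega
    have h6 := Int.mul_emod (z 0) (z 0) 3
    rcases h5 with h5 | h5 | h5 <;> rw [h5] at h6 <;> omega
  simp only [dotProduct, Fin.sum_univ_four] at hz
  clear ka kb kc e1 e2 e3 hu hv hw u0 v0 w0
  have e5 : z i * z i = z j * z j := mul_self_eq_mul_self_iff.2 (by rcases ha with rfl | rfl <;> rcases hb with rfl | rfl <;> omega)
  have e6 : z j * z j = z k * z k := mul_self_eq_mul_self_iff.2 (by rcases hc with rfl | rfl <;> rcases hb with rfl | rfl <;> omega)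
  have e7 : j ≠ i → k ≠ j → i ≠ k → False := fun _ _ _ => by
    refine e4 (z j) ?_
    clear h1 h2 h3 h4 ha hb hc e4
    fin_cases i <;> fin_cases j <;> fin_cases k <;> simp only [Fin.reduceFinMk, ne_eq, not_true_eq_false] at * <;> omega
  rcases ha with rfl | rfl <;> rcases hb with rfl | rfl <;> rcases hc with rfl | rfl <;> split_ifs at h1 h2 ⊢ <;>
    first | omega | exact (e7 ‹_› ‹_› ‹_›).elim

/-- **the lattice `D₄`** -/
theorem d4 {Γ M : Type} [Group Γ] [AddCommGroup M] (a : Γ →* (M ≃ₗ[ℤ] M)) (c : M →ₗ[ℤ] Fin 4 → ℤ) (inj : ∀ x, c x = 0 → x = 0)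
    (inv : ∀ g x y, c (a g x) ⬝ᵥ c (a g y) = c x ⬝ᵥ c y) (ev : ∀ x, 2 ∣ c x ⬝ᵥ c x) (sur : ∀ j, ∃ v, c v = Pi.single j 2)
    (rt : ∃ z, c z ⬝ᵥ c z = 2) {g : Γ} (h3 : a (g ^ 3) = 1) (H : ∀ x, ∃ s y, a (s * g * s⁻¹) x = x + (3 : ℤ) • y) : a g = 1 := by
  let B : M →ₗ[ℤ] M →ₗ[ℤ] ℤ := (dotProductBilin ℤ ℤ).compl₁₂ c c
  have hB : ∀ x y, B x y = c x ⬝ᵥ c y := fun _ _ => rfl
  have h : Fm a B := ⟨fun x y => dotProduct_comm (c x) (c y), fun x hx => lt_of_le_of_ne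
    (Finset.sum_nonneg (s := Finset.univ) fun i _ => mul_self_nonneg (c x i)) fun e => hx (inj x (dotProduct_self_eq_zero.1 (e.trans (hB x x)).symm)), inv⟩
  have k1 : ∀ x, B x x ≤ 4 → ∃ s, a (s * g * s⁻¹) x = x := fun x hx => by
    obtain ⟨s, y, hy⟩ := H x
    refine ⟨s, by_contra fun k => ?_⟩
    have e1 := h.pos y fun k' => k (by rw [hy, k', smul_zero, add_zero])
    have e2 := h.nn (a (s * g * s⁻¹) x + x)
    have e3 := h.sym x (a (s * g * s⁻¹) x)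
    have e4 := h.nine hy
    have e5 : 2 ∣ B y y := ev y
    simp only [map_add, LinearMap.add_apply, h.inv] at e2
    omega
  choose v hv using sur
  have v4 : ∀ j x, B x (v j) = c x j * 2 := fun j x => by rw [hB, hv, dotProduct_single]
  obtain ⟨s, hs⟩ := k1 (v 0) (by simp [v4, hv])
  obtain ⟨z₀, hz⟩ := rt
  obtain ⟨t, ht⟩ := k1 z₀ (by rw [hB, hz]; norm_num)
  have am : ∀ s t x, a s (a t x) = a (s * t) x := fun s t x => by rw [map_mul]; rfl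
  have z1 : a (s * g * s⁻¹) (a (s * t⁻¹) z₀) = a (s * t⁻¹) z₀ := by
    conv_rhs => rw [← ht]
    rw [am, am, show s * g * s⁻¹ * (s * t⁻¹) = s * t⁻¹ * (t * g * t⁻¹) by group]
  have z2 := (inv (s * t⁻¹) z₀ z₀).trans hz
  generalize a (s * t⁻¹) z₀ = z at z1 z2
  have c3 : ∀ x, a (s * g * s⁻¹) (a (s * g * s⁻¹) (a (s * g * s⁻¹) x)) = x := fun x => by
    rw [am, am, show s * g * s⁻¹ * (s * g * s⁻¹) * (s * g * s⁻¹) = s * g ^ 3 * s⁻¹ by rw [pow_three]; group, map_mul, map_mul, h3, mul_one,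
      ← map_mul, mul_inv_cancel, map_one]
    rfl
  have e0 : a (s * g * s⁻¹) = 1 → a g = 1 := fun e => by
    rw [show g = s⁻¹ * (s * g * s⁻¹) * s by group, map_mul, map_mul, e, mul_one, ← map_mul, inv_mul_cancel, map_one]
  generalize s * g * s⁻¹ = r at hs z1 c3 e0
  have k0 : ∀ x, c x 0 = 0 → c (a r x) 0 = 0 := fun x hx => by
    have := h.inv r x (v 0)
    rw [hs, v4, v4, hx] at this
    omega
  have k2 : ∀ x, c z ⬝ᵥ c x = c z ⬝ᵥ c (a r x) := fun x => by rw [← inv r, z1]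
  have k3 : ∀ j, a r (v j) = v j := fun j => (em (j = 0)).elim (fun e => e ▸ hs) fun e => by
    have e1 : c (v j) 0 = 0 := by rw [hv, Pi.single_eq_of_ne' e]
    have e2 : c (v j) ⬝ᵥ c (v j) = 4 := by simp [hv]
    have e3 : B (v j) (a r (v j)) = 4 := tri e1 (k0 _ e1) (k0 _ (k0 _ e1)) e2 ((inv ..).trans e2) ((inv ..).trans ((inv ..).trans e2))
      (inv ..).symm (by rw [← inv r (a r (v j)), c3]) z2 (k2 _) (k2 _)
    by_contra k
    have e4 := h.pos _ (sub_ne_zero.2 k)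
    have e5 := h.sym (v j) (a r (v j))
    simp only [map_sub, LinearMap.sub_apply, h.inv] at e4
    rw [← hB] at e2
    omega
  refine e0 (LinearEquiv.ext fun x => sub_eq_zero.1 (inj _ (funext fun j => ?_)))
  have := h.inv r x (v j)
  rw [k3, v4, v4] at this
  rw [map_sub, Pi.sub_apply]
  exact sub_eq_zero.2 (mul_right_cancel₀ two_ne_zero this)

end Cfsg.Agent.BZ.K3.LS
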