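import Cfsg.Agent.BZ.L.K3.Defs3
import Cfsg.Agent.BZ.L.K3.Red
import Cfsg.Agent.BZ.L.K3.LS1

/-!
# BZ / L / K3 : the lattice lemma for the types `G₂`, `D₄`, `F₄` (helper68)
-/

set_option autoImplicit false
set_option linter.unusedSectionVars false

namespace Cfsg.Agent.BZ.K3.LS

open Cfsg Cfsg.Lie Subgroup Matrix Module Cfsg.Agent.KM Cfsg.Agent.BZ.L Cfsg.Agent.DL Cfsg.Agent.KM.Tor Cfsg.Agent.DL.PP
  Cfsg.Agent.KZ.DatX Cfsg.Agent.Nodes.RGDChev Cfsg.Agent.BZ.K3.Rd Cfsg.Agent.BH.RO.A6 Cfsg.Agent.Tits.Roots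
  Cfsg.Agent.ChevalleyStructure.CoxeterGeom Cfsg.Agent.ChevalleyStructure.CoxeterGeomTypes

variable {p : ℕ} [Fact p.Prime] {k : Type} [Field k] [CharP k p] {Y : Type} [Group Y] {N : Type} [Fintype N]
  [DecidableEq N] {ρ : Y →* GL N k} {F : MulAut Y} {G : Subgroup Y} [IsAlgClosed k] {X : Datum p ρ F G}
  {d q n c : ℕ} {Q ε : ℤ} {A : Matrix X.R X.R ℤ} {Γ : Subgroup X.W}

theorem sign (h : orderOf (Q : ZMod 3) = d) : d = 0 ∨ ∃ ε : ℤ, ((d = 1 ∧ ε = 1) ∨ (d = 2 ∧ ε = -1)) ∧ 3 ∣ ε * Q - 1 := by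
  have e : ∀ x : ZMod 3, x = 0 ∨ x = 1 ∨ x = -1 := by decide
  rcases e Q with e | e | e <;> rw [e] at h
  · exact Or.inl (h.symm.trans (orderOf_zero _))
  · exact Or.inr ⟨1, Or.inl ⟨h.symm.trans orderOf_one, rfl⟩, (ZMod.intCast_zmod_eq_zero_iff_dvd _ 3).1 (by push_cast; rw [e]; rfl)⟩
  · exact Or.inr ⟨-1, Or.inr ⟨h.symm.trans (orderOf_eq_prime (by decide) (by decide)), rfl⟩,
      (ZMod.intCast_zmod_eq_zero_iff_dvd _ 3).1 (by push_cast; rw [e]; rfl)⟩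

theorem ca_zero : CA X 3 0 A Γ := ca_of Nat.prime_three fun g _ _ y hy => by
  rw [Ud, Polynomial.cyclotomic_zero, map_one, one_mulVec] at hy
  rw [hy, mulVec_zero]

theorem ud_iff (h : (d = 1 ∧ ε = 1) ∨ (d = 2 ∧ ε = -1)) {y : X.R → ℤ} : Ud d A y ↔ A *ᵥ y = ε • y := by
  rcases h with ⟨rfl, rfl⟩ | ⟨rfl, rfl⟩
  · rw [ud_one, one_smul]
  · rw [ud_two, neg_one_smul]

variable (X A ε) in
/-- the eigenvectors in the root lattice are the kernel -/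
def ei : (X.I → ℤ) →ₗ[ℤ] X.R → ℤ := (vecMulLinear A - ε • LinearMap.id) ∘ₗ X.wt.toIntLinearMap

theorem mem_ei {β : X.I → ℤ} : β ∈ LinearMap.ker (ei X ε A) ↔ X.wt β ᵥ* A = ε • X.wt β := sub_eq_zero

theorem exists_wtA (h : Nf X A n) (β : X.I → ℤ) : ∃ β', X.wt β ᵥ* A = X.wt β' := by
  choose a h1 h2 using fun i => X.g_surj (isRoot_sr X.cs X.h i)
  refine ⟨∑ i, β i • a i, ?_⟩
  conv_lhs => rw [pi_eq_sum_univ' β]
  rw [map_sum, map_sum, sum_vecMul]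
  exact Finset.sum_congr rfl fun i _ => by rw [map_zsmul, map_zsmul, smul_vecMul, ← h.wt _ (h1 i), h2]; rfl

theorem mem_of_ka (h : Nf X A n) (hε : ε * ε = 1) {β : X.I → ℤ} (hβ : A *ᵥ ka X (X.wt β) = ε • ka X (X.wt β)) :
    β ∈ LinearMap.ker (ei X ε A) := by
  obtain ⟨β', e⟩ := exists_wtA h β
  have h1 : ka X (X.wt (β' - ε • β)) = 0 := mulVec_inj h.n0 h.pow (by
    rw [map_sub, map_sub, map_zsmul, map_zsmul, mulVec_sub, mulVec_smul, ← e, h.ka, hβ, smul_smul, hε, one_smul, sub_self, mulVec_zero])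
  have h2 : β' - ε • β = 0 := eq_zero_of_minuscule X _ fun a ha => by
    rw [← wt_dot_cor X _ ha, ka_zero (by rw [h1, dotProduct_zero]) ha]
    norm_num
  rw [mem_ei, e, sub_eq_zero.1 h2, map_zsmul]

theorem Wm_ka' (w : X.W) (β : X.I → ℤ) : X.Wm w *ᵥ ka X (X.wt β) = ka X (X.wt (X.act w β)) := by
  rw [← Wm_ka w (X.wt (X.act w β)), X.wt_act]

theorem act_kb (w : X.W) (y : X.R → ℤ) : X.act w (kb X y) = kb X (X.Wm w *ᵥ y) := by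
  rw [show kb X y = ∑ a ∈ Phi X, (X.wt a ⬝ᵥ y) • a from rfl, show kb X (X.Wm w *ᵥ y) = ∑ a ∈ Phi X, (X.wt a ⬝ᵥ X.Wm w *ᵥ y) • a from rfl,
    ← sum_act X w fun a => (X.wt a ⬝ᵥ X.Wm w *ᵥ y) • a, Datum.act, map_sum]
  exact Finset.sum_congr rfl fun a _ => by rw [map_zsmul, dotProduct_mulVec, X.wt_act]

/-- trivial on the eigenvectors in the root lattice -/
theorem tv_of (ss : ∀ v, Pp X {a | X.Rt a} v → v = 0) (h : Nf X A n) (hd : (d = 1 ∧ ε = 1) ∨ (d = 2 ∧ ε = -1)) {w : X.W}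
    (hw : ∀ β ∈ LinearMap.ker (ei X ε A), X.act w β = β) : Tv X d A w := fun y hy => by
  have h1 := hw _ (mem_ei.2 (h.kb_eig (by rcases hd with ⟨-, rfl⟩ | ⟨-, rfl⟩ <;> rfl) ((ud_iff hd).1 hy)))
  rw [act_kb, ← sub_eq_zero, ← map_sub] at h1
  exact sub_eq_zero.1 (kb_zero ss (by rw [h1, map_zero, zero_dotProduct]))

theorem act_mem (h : Nf X A n) (hd : (d = 1 ∧ ε = 1) ∨ (d = 2 ∧ ε = -1)) (L : Lt X 3 d Q A Γ) {w : X.W} (hw : w ∈ Γ) :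
    ∀ β ∈ LinearMap.ker (ei X ε A), X.act w β ∈ LinearMap.ker (ei X ε A) := fun β hβ => by
  have hε : ε * ε = 1 := by rcases hd with ⟨-, rfl⟩ | ⟨-, rfl⟩ <;> rfl
  refine mem_of_ka h hε ?_
  rw [← Wm_ka', ← ud_iff hd]
  exact (L.st w hw _ ((ud_iff hd).2 (h.ka_eig hε (mem_ei.1 hβ)))).1

/-- a conjugate fixes the test vector modulo three -/
theorem fix3 (h : Nf X A n) (hd : (d = 1 ∧ ε = 1) ∨ (d = 2 ∧ ε = -1)) (hQ : 3 ∣ ε * Q - 1) (L : Lt X 3 d Q A Γ) {g : X.W} (hg : g ∈ Γ)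
    {j : ℕ} (hj : g ^ 3 ^ j = 1) {β : X.I → ℤ} (hβ : β ∈ LinearMap.ker (ei X ε A)) :
    ∃ s ∈ Γ, ∀ r, 3 ∣ X.wt (X.act (s * g * s⁻¹) β - β) r := by
  have hε : ε = 1 ∨ ε = -1 := hd.imp And.right And.right
  obtain ⟨w, hw, h1⟩ := conj_md Nat.prime_three L (inv_mem hg) (j := j) (by rw [inv_pow, hj, inv_one]) β
    (perp_of ((ud_iff hd).2 (h.ka_eig (by rcases hε with rfl | rfl <;> rfl) (mem_ei.1 hβ))))
  rw [← X.wt_act', ← map_sub, show (w⁻¹ * g⁻¹ * w)⁻¹ = w⁻¹ * g * w⁻¹⁻¹ by group] at h1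
  exact ⟨w⁻¹, inv_mem hw, md_dvd Nat.prime_three (by decide) h.n0 h.pow hε hQ
    (mem_ei.1 (sub_mem (act_mem h hd L (mul_mem (mul_mem (inv_mem hw) hg) (inv_mem (inv_mem hw))) β hβ) hβ)) h1⟩

/-- the action on a stable sublattice -/
noncomputable def am (M : Submodule ℤ (X.I → ℤ)) (hM : ∀ w ∈ Γ, ∀ β ∈ M, X.act w β ∈ M) : Γ →* (M ≃ₗ[ℤ] M) :=
  MonoidHom.mk' (fun w => LinearEquiv.ofLinearMap ((rep X.cs X.h w).restrict (hM w w.2)) ((rep X.cs X.h w⁻¹).restrict (hM _ (inv_mem w.2)))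
    (LinearMap.ext fun x => Subtype.ext (PP.act_act_inv X w x)) (LinearMap.ext fun x => Subtype.ext (PP.act_inv_act X w x)))
    fun v w => LinearEquiv.ext fun x => Subtype.ext (act_mul' v.1 w.1 x)

theorem sat (f : (X.I → ℤ) →ₗ[ℤ] X.R → ℤ) (h : finrank ℤ (X.I → ℤ) ≤ finrank ℤ (LinearMap.ker f)) : f = 0 := by
  have h1 := (LinearMap.ker f).finrank_quotient_add_finrank
  rw [f.quotKerEquivRange.finrank_eq] at h1
  exact LinearMap.range_eq_bot.1 (Submodule.finrank_eq_zero.1 (by omega))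

/-- the reduction to the root lattice -/
theorem lat3_of {C : ChevalleyDatum} {n₀ : ℕ} {M₀ : CoxeterMatrix (Fin n₀)} (hp : IsType C n₀ M₀) (h4 : n₀ ≤ 4)
    (h3 : ∀ x : Fin n₀ → ℤ, (∀ i, 3 ∣ x ⬝ᵥ cartanOf C n₀ i) → ∀ i, 3 ∣ x i)
    (hL : n₀ = 4 → ∃ (L : (Fin n₀ → ℤ) →ₗ[ℤ] Fin 4 → ℤ) (δ : Fin n₀ → ℤ) (i₀ : Fin n₀), (∀ x, L x = 0 → x = 0) ∧
      (∀ x y, L x ⬝ᵥ L y = ∑ i, y i * δ i * (x ⬝ᵥ cartanOf C n₀ i)) ∧ (∀ x, 2 ∣ L x ⬝ᵥ L x) ∧ (∀ j, ∃ v, L v = Pi.single j 2) ∧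
      (∃ z, L z ⬝ᵥ L z = 2) ∧ ∀ κ : Fin n₀ → ℤ, (∀ i j, κ i * cartanOf C n₀ i j = κ j * cartanOf C n₀ j i) → ∀ i, κ i = δ i * κ i₀) :
    Lat3 hp 3 := by
  intro _ _ _ _ _ _ _ _ _ _ _ _ _ _ X q n c d f Q A Γ _ _ ss ⟨Mx, X₀, e, hr, hc⟩ hq hC hA L
  refine Or.inl ((sign L.ord).elim (fun e => e ▸ ca_zero) fun ⟨ε, hd, hQ⟩ => ?_)
  have h := nf hq hC hA
  let a := am (LinearMap.ker (ei X ε A)) fun w hw => act_mem h hd L hw
  have hb : ∀ i, X.Rt (e.symm (sr i)) := fun i => (hr _).2 (by rw [e.apply_symm_apply]; exact isRoot_sr _ _ i)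
  have hb' : ∀ x i, X.wt x ⬝ᵥ X.cor (e.symm (sr i)) = e x ⬝ᵥ cartanOf C n₀ i := fun x i => by
    rw [hc _ _ (hb i), e.apply_symm_apply]
    exact congrArg _ (X₀.cor_sr i)
  have rk : finrank ℤ (X.I → ℤ) = n₀ := by rw [e.toIntLinearEquiv.finrank_eq, finrank_fin_fun]
  have H : ∀ g : Γ, (∃ j, (g : X.W) ^ 3 ^ j = 1) → ∀ x, ∃ s y, a (s * g * s⁻¹) x = x + (3 : ℤ) • y := fun g ⟨j, hj⟩ x => by
    obtain ⟨s, hs, h1⟩ := fix3 h hd hQ L g.2 hj x.2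
    choose y hy using h3 (e (X.act (s * g * s⁻¹) x - x)) fun i => by
      rw [← hb']
      exact Finset.dvd_sum fun r _ => (h1 r).mul_right _
    have h2 : X.act (s * g * s⁻¹) x - x = (3 : ℤ) • e.symm y := e.injective (by rw [map_zsmul, e.apply_symm_apply]; exact funext hy)
    have h5 := sub_mem (a (⟨s, hs⟩ * g * ⟨s, hs⟩⁻¹) x).2 x.2
    refine ⟨⟨s, hs⟩, ⟨e.symm y, smul_right_injective _ (three_ne_zero (α := ℤ)) ?_⟩, Subtype.ext (sub_eq_iff_eq_add'.1 h2)⟩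
    show (3 : ℤ) • ei X ε A _ = (3 : ℤ) • 0
    rw [← map_smul, ← h2, smul_zero]
    exact h5
  have key : ∀ g : Γ, (∃ j, (g : X.W) ^ 3 ^ j = 1) → a (g ^ 3) = 1 → a g = 1 := fun g hg g3 => by
    by_cases r3 : finrank ℤ (LinearMap.ker (ei X ε A)) ≤ 3
    · obtain ⟨B, hB⟩ := exists_fm a
      exact hB.lat r3 g3 (H g hg)
    obtain ⟨L, δ, i₀, l1, l2, l3, l4, l5, l6⟩ := hL (by have := (LinearMap.ker (ei X ε A)).finrank_le; omega)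
    have h0 := sat (ei X ε A) (by omega)
    have hm : ∀ x, x ∈ LinearMap.ker (ei X ε A) := fun x => by rw [h0]; rfl
    let κ : Fin n₀ → ℤ := fun i => ∑ c ∈ Phi X, cp X (e.symm (sr i)) c ^ 2
    have k1 : ∀ x i, 2 * (X.wt (e.symm (sr i)) ⬝ᵥ ka X (X.wt x)) = κ i * (e x ⬝ᵥ cartanOf C n₀ i) := fun x i => by
      rw [← hb', ← two_sum' X _ (hb i), dot_ka]
      exact congrArg _ (Finset.sum_congr rfl fun c hc => by rw [wt_dot_cor X (e.symm (sr i)) ((mem_Phi X).1 hc)])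
    have k2 := l6 κ fun i j => by
      have e1 := k1 (e.symm (sr j)) i
      have e2 := k1 (e.symm (sr i)) j
      rw [e.apply_symm_apply, show sr _ ⬝ᵥ _ = _ from single_one_dotProduct _ _] at e1 e2
      rw [← e1, ← e2, ka_symm]
    have k3 : ∀ x y, 2 * (X.wt y ⬝ᵥ ka X (X.wt x)) = κ i₀ * (L (e x) ⬝ᵥ L (e y)) := fun x y => by
      have e1 : y = ∑ i, e y i • e.symm (sr i) := e.injective (by
        simp only [map_sum, map_zsmul, e.apply_symm_apply]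
        exact pi_eq_sum_univ' _)
      rw [l2, Finset.mul_sum]
      conv_lhs => rw [e1, map_sum, sum_dotProduct, Finset.mul_sum]
      exact Finset.sum_congr rfl fun i _ => by rw [map_zsmul, smul_dotProduct, smul_eq_mul, mul_left_comm, k1, k2 i]; ring
    refine d4 a (L ∘ₗ e.toIntLinearEquiv.toLinearMap ∘ₗ Submodule.subtype _) (fun x hx => Subtype.ext (e.map_eq_zero_iff.1 (l1 _ hx)))
      (fun s x y => mul_left_cancel₀ (sum_sq_pos' X (hb i₀)).ne' ?_) (fun x => l3 _) (fun j => ?_) ?_ g3 (H g hg)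
    · refine (k3 (X.act s x) (X.act s y)).symm.trans (Eq.trans ?_ (k3 x y))
      rw [← form_Wm s, X.wt_act, X.wt_act]
    · exact (l4 j).elim fun v hv => ⟨⟨e.symm v, hm _⟩, (congrArg L (e.apply_symm_apply v)).trans hv⟩
    · exact l5.elim fun v hv => ⟨⟨e.symm v, hm _⟩, (congrArg (fun z => L z ⬝ᵥ L z) (e.apply_symm_apply v)).trans hv⟩
  have key' : ∀ (i : ℕ) (g : Γ), (∃ j, (g : X.W) ^ 3 ^ j = 1) → a (g ^ 3 ^ i) = 1 → a g = 1 := fun i => by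
    induction i with
    | zero => exact fun g _ hg => by simpa using hg
    | succ i ih =>
      exact fun g ⟨j, hj⟩ hg => key g ⟨j, hj⟩ (ih _ ⟨j, by rw [coe_pow, ← pow_mul, mul_comm, pow_mul, hj, one_pow]⟩
        (by rw [← pow_mul, ← pow_succ', hg]))
  exact ca_of Nat.prime_three fun g hg ⟨j, hj⟩ => tv_of ss h hd fun β hβ => congrArg Subtype.val (LinearEquiv.congr_fun
    (key' j ⟨g, hg⟩ ⟨j, hj⟩ (by rw [show (⟨g, hg⟩ : Γ) ^ 3 ^ j = 1 from Subtype.ext hj, map_one])) ⟨β, hβ⟩)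

theorem cG2 : cartanOf chevG2 2 = ![![2, -3], ![-1, 2]] := by decide +kernel

theorem cF4 : cartanOf chevF4 4 = ![![2, -1, 0, 0], ![-1, 2, -2, 0], ![0, -1, 2, -1], ![0, 0, -1, 2]] := by decide +kernel

theorem cD4 : cartanOf chevD4 4 = ![![2, -1, 0, 0], ![-1, 2, -1, -1], ![0, -1, 2, 0], ![0, -1, 0, 2]] := by decide +kernel

theorem lat3_g2 : Lat3 hpG2 3 := lat3_of _ (by decide) (fun x h => by
  simp [cG2, Fin.forall_fin_two, dotProduct] at h ⊢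
  omega) fun h => absurd h (by decide)

theorem lat3_f4 : Lat3 hpF4 3 := lat3_of _ le_rfl (fun x h => by
    simp [cF4, Fin.forall_fin_succ, dotProduct, Fin.sum_univ_four] at h ⊢
    omega) fun _ => by
  refine ⟨mulVecLin !![0, 0, -1, 2; 1, -1, 1, 0; 0, -1, 1, 0; -1, 0, 1, 0], ![1, 1, 2, 2], 0, fun x h => ?_, fun x y => ?_, fun x => ?_,
    fun j => ⟨![![0, 0, 0, 1], ![2, 2, 2, 1], ![-2, -4, -2, -1], ![0, 2, 2, 1]] j, by revert j; decide⟩, ⟨![1, 0, 0, 0], by decide⟩,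
    fun κ h => ?_⟩
  · simp [funext_iff, Fin.forall_fin_succ, dotProduct, Fin.sum_univ_four] at h ⊢
    omega
  · simp [cF4, mulVec, dotProduct, Fin.sum_univ_four]
    ring
  · refine ⟨x 0 ^ 2 + x 1 ^ 2 + 2 * x 2 ^ 2 + 2 * x 3 ^ 2 - x 0 * x 1 - 2 * x 1 * x 2 - 2 * x 2 * x 3, ?_⟩
    simp [mulVec, dotProduct, Fin.sum_univ_four]
    ring
  · have h1 := h 0 1
    have h2 := h 1 2
    have h3 := h 2 3
    simp [cF4, Fin.forall_fin_succ] at h1 h2 h3 ⊢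
    omega

theorem lat3_d4 : Lat3 hpD4 3 := lat3_of _ le_rfl (fun x h => by
    simp [cD4, Fin.forall_fin_succ, dotProduct, Fin.sum_univ_four] at h ⊢
    omega) fun _ => by
  refine ⟨mulVecLin !![1, 0, 0, 0; -1, 1, 0, 0; 0, -1, 1, 1; 0, 0, -1, 1], ![1, 1, 1, 1], 0, fun x h => ?_, fun x y => ?_, fun x => ?_,
    fun j => ⟨![![2, 2, 1, 1], ![0, 2, 1, 1], ![0, 0, 1, 1], ![0, 0, -1, 1]] j, by revert j; decide⟩, ⟨![1, 0, 0, 0], by decide⟩,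
    fun κ h => ?_⟩
  · simp [funext_iff, Fin.forall_fin_succ, dotProduct, Fin.sum_univ_four] at h ⊢
    omega
  · simp [cD4, mulVec, dotProduct, Fin.sum_univ_four]
    ring
  · refine ⟨x 0 ^ 2 + x 1 ^ 2 + x 2 ^ 2 + x 3 ^ 2 - x 0 * x 1 - x 1 * x 2 - x 1 * x 3, ?_⟩
    simp [mulVec, dotProduct, Fin.sum_univ_four]
    ring
  · have h1 := h 0 1
    have h2 := h 1 2
    have h3 := h 1 3
    simp [cD4, Fin.forall_fin_succ] at h1 h2 h3 ⊢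
    omega

theorem lat2_g2 : Lat2 hpG2 3 := lat3_g2.lat2

theorem lat2_f4 : Lat2 hpF4 3 := lat3_f4.lat2

end Cfsg.Agent.BZ.K3.LS
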