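import Cfsg.Agent.BZ.L.K3.E6N1
import Cfsg.Agent.BZ.L.K3.E6M
import Cfsg.Agent.BZ.L.K3.LS
import Cfsg.Agent.RC.B.Kit

/-!
# BZ / L / K3 : the lattice lemma for `E₆`, no root in the split part (helper68)
-/

set_option autoImplicit false
set_option linter.unusedSectionVars false

namespace Cfsg.Agent.BZ.K3.E6N

open Cfsg Cfsg.Lie Subgroup Matrix Module Cfsg.Agent.KM Cfsg.Agent.BZ.L Cfsg.Agent.DL Cfsg.Agent.KM.Tor Cfsg.Agent.DL.PP
  Cfsg.Agent.KZ.DatX Cfsg.Agent.BZ.K3.Rd Cfsg.Agent.BH.RO.A6 Cfsg.Agent.Tits.Roots Cfsg.Agent.KM.Tor.LN6 Cfsg.Agent.BZ.K3.LS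
  Cfsg.Agent.ChevalleyStructure.CoxeterGeom
open Cfsg.Agent.RC.B (Kit Ty)

section pure

variable {Γ M : Type} [Group Γ] [AddCommGroup M] {a : Γ →* (M ≃ₗ[ℤ] M)}

theorem three_sq (n : ℕ) : ∀ {a b c d : ℤ}, c ^ 2 + d ^ 2 < n → a ^ 2 + b ^ 2 = 3 * (c ^ 2 + d ^ 2) → c ^ 2 + d ^ 2 = 0 := by
  induction n with
  | zero => exact fun h _ => absurd h (not_lt.2 (by positivity))
  | succ n ih =>
    intro a b c d h1 h2
    have e : ∀ x y : ZMod 3, x ^ 2 + y ^ 2 = 0 → x = 0 ∧ y = 0 := by decide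
    obtain ⟨e1, e2⟩ := e a b (by exact_mod_cast (ZMod.intCast_zmod_eq_zero_iff_dvd _ 3).2 ⟨_, h2⟩)
    obtain ⟨a, rfl⟩ := (ZMod.intCast_zmod_eq_zero_iff_dvd _ 3).1 e1
    obtain ⟨b, rfl⟩ := (ZMod.intCast_zmod_eq_zero_iff_dvd _ 3).1 e2
    have h3 : c ^ 2 + d ^ 2 = 3 * (a ^ 2 + b ^ 2) := by push_cast at h2; linarith
    have h4 : 0 ≤ a ^ 2 + b ^ 2 := by positivity
    have h5 := fun h => ih (c := a) (d := b) h h3
    omega

/-- the square lattice -/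
theorem sq_lat {B : M →ₗ[ℤ] M →ₗ[ℤ] ℤ} (h : Fm a B) (hs : ∀ z, ∃ a b, B z z = 6 * (a ^ 2 + b ^ 2)) {g : Γ} (h3 : a (g ^ 3) = 1) :
    a g = 1 := LinearEquiv.ext fun x => sub_eq_zero.1 (by_contra fun e : a g x - x ≠ 0 => by
  have c3 : ∀ x, a g (a g (a g x)) = x := fun x => by
    rw [pow_three, map_mul, map_mul] at h3
    exact LinearEquiv.congr_fun h3 x
  have h1 : a g (a g (a g x - x)) = -(a g x - x) - a g (a g x - x) := by
    simp only [map_sub, c3]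
    abel
  generalize a g x - x = u at e h1
  obtain ⟨i, j, h2⟩ := hs u
  obtain ⟨i', j', h4⟩ := hs (u - a g u)
  have h5 := h.inv g (a g u) (a g u)
  have h6 := h.sym u (a g u)
  have h7 := h.pos u e
  rw [h1] at h5
  simp only [map_sub, map_neg, LinearMap.sub_apply, LinearMap.neg_apply, h.inv] at h4 h5
  have := three_sq ((i ^ 2 + j ^ 2).toNat + 1) (a := i') (b := j') (c := i) (d := j) (by omega) (by omega)
  omega)

theorem hexm : ∀ p ∈ [-1, 0, 1], ∀ q ∈ [-1, 0, 1], ∀ r ∈ [-1, 0, 1], ∀ s ∈ [(-1 : ℤ), 0, 1], p ^ 2 - p * q + q ^ 2 = 1 →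
    r ^ 2 - r * s + s ^ 2 = 1 → (p + r) ^ 2 - (p + r) * (q + s) + (q + s) ^ 2 = 1 → !![p, r; q, s] ^ 6 = 1 ∧
      (!![p, r; q, s] ^ 3 = 1 → !![p, r; q, s] ∈ [1, !![0, -1; 1, -1], !![-1, 1; -1, 0]]) := by decide +kernel

theorem hexc : ∀ m ∈ [1, !![0, -1; 1, -1], !![(-1 : ℤ), 1; -1, 0]], m ^ 3 = 1 ∧
    (m ≠ 1 → ∀ m' ∈ [1, !![0, -1; 1, -1], !![-1, 1; -1, 0]], ∃ i : Fin 3, m' = m ^ (i : ℕ)) := by decide +kernel

theorem bd {p q : ℤ} (h : p ^ 2 - p * q + q ^ 2 = 1) : p ∈ [-1, 0, 1] ∧ q ∈ [-1, 0, 1] := by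
  have h1 : -2 < p ∧ p < 2 := abs_lt_of_sq_lt_sq' (by nlinarith [sq_nonneg (p - 2 * q)]) (by norm_num)
  have h2 : -2 < q ∧ q < 2 := abs_lt_of_sq_lt_sq' (by nlinarith [sq_nonneg (q - 2 * p)]) (by norm_num)
  simp only [List.mem_cons, List.not_mem_nil, or_false]
  omega

/-- the hexagonal lattice -/
theorem hex (c : M ≃ₗ[ℤ] Fin 2 → ℤ) (inv : ∀ g x, c (a g x) 0 ^ 2 - c (a g x) 0 * c (a g x) 1 + c (a g x) 1 ^ 2 =
    c x 0 ^ 2 - c x 0 * c x 1 + c x 1 ^ 2) : ∃ w₀, a (w₀ ^ 3) = 1 ∧ ∀ w, (∃ j, a (w ^ 3 ^ j) = 1) → ∃ i : ℕ, a (w * (w₀ ^ i)⁻¹) = 1 := by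
  let μ : Γ →* Matrix (Fin 2) (Fin 2) ℤ := ((LinearMap.toMatrixAlgEquiv (Basis.ofEquivFun c) : _ →* _).comp
    LinearEquiv.automorphismGroup.toLinearMapMonoidHom).comp a
  have h1 : ∀ g g', μ g = μ g' ↔ a g = a g' := fun g g' => (LinearMap.toMatrixAlgEquiv (Basis.ofEquivFun c)).injective.eq_iff.trans
    LinearEquiv.toLinearMap_inj
  have h2 : ∀ g i j, μ g i j = c (a g (c.symm (Pi.single j 1))) i := fun g i j => by simp [μ, LinearMap.toMatrixAlgEquiv_apply]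
  have h3 : ∀ w, (∃ j, a (w ^ 3 ^ j) = 1) → μ w ∈ [1, !![0, -1; 1, -1], !![-1, 1; -1, 0]] := fun w ⟨j, hj⟩ => by
    have e1 := inv w (c.symm (Pi.single 0 1))
    have e2 := inv w (c.symm (Pi.single 1 1))
    have e3 := inv w (c.symm (Pi.single 0 1) + c.symm (Pi.single 1 1))
    simp only [map_add, Pi.add_apply, ← h2, c.apply_symm_apply] at e1 e2 e3
    obtain ⟨e4, e5⟩ := hexm _ (bd e1).1 _ (bd e1).2 _ (bd e2).1 _ (bd e2).2 e1 e2 e3
    rw [← eta_fin_two] at e4 e5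
    rw [← map_one a, ← h1, map_pow, map_one] at hj
    refine e5 (orderOf_dvd_iff_pow_eq_one.1 ?_)
    have e6 := orderOf_dvd_of_pow_eq_one e4
    exact (Nat.Coprime.dvd_mul_right (n := 2) (Nat.Coprime.coprime_dvd_left (orderOf_dvd_of_pow_eq_one hj)
      (Nat.Coprime.pow_left _ (by decide)))).1 e6
  by_cases e : ∃ w, (∃ j, a (w ^ 3 ^ j) = 1) ∧ μ w ≠ 1
  · obtain ⟨w₀, e1, e2⟩ := e
    refine ⟨w₀, by rw [← map_one a, ← h1, map_pow, map_one, (hexc _ (h3 _ e1)).1], fun w hw => ?_⟩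
    obtain ⟨i, hi⟩ := (hexc _ (h3 _ e1)).2 e2 _ (h3 _ hw)
    exact ⟨i, by rw [map_mul, map_inv, mul_inv_eq_one, ← h1, map_pow, hi]⟩
  · exact ⟨1, by rw [one_pow, map_one], fun w hw => ⟨0, by
      rw [pow_zero, inv_one, mul_one, ← map_one a, ← h1, map_one]
      exact not_not.1 fun k => e ⟨w, hw, k⟩⟩⟩

theorem md_smul {R : Type} [Fintype R] [DecidableEq R] {A : Matrix R R ℤ} {Q : ℤ} {x : R → ℤ} (h : Md 3 Q A x) (m : ℤ) :
    Md 3 Q A (m • x) := h.imp fun _ h => ⟨h.1, h.2.elim fun u e => ⟨m • u, by rw [smul_comm, e, smul_vecMul]⟩⟩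

theorem md_add {R : Type} [Fintype R] [DecidableEq R] {A : Matrix R R ℤ} {Q : ℤ} {x y : R → ℤ} (h : Md 3 Q A x) (h' : Md 3 Q A y) :
    Md 3 Q A (x + y) := E6M.md_half (md_smul h 2) (md_smul h' 2) (smul_add ..)

end pure

variable {p : ℕ} [Fact p.Prime] {k : Type} [Field k] [CharP k p] {Y : Type} [Group Y] {N : Type} [Fintype N]
  [DecidableEq N] {ρ : Y →* GL N k} {F : MulAut Y} {G : Subgroup Y} [IsAlgClosed k] {X : Datum p ρ F G}
  {d q n c : ℕ} {Q ε : ℤ} {A : Matrix X.R X.R ℤ} {Γ : Subgroup X.W} {Mx : Matrix (Fin 6) (Fin 6) ℤ} {X₀ : XF hpE6 p k Mx}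

theorem fix_of_tv (h : Nf X A n) (hd : (d = 1 ∧ ε = 1) ∨ (d = 2 ∧ ε = -1)) {w : X.W} (hw : Tv X d A w) {β : X.I → ℤ}
    (hβ : β ∈ LinearMap.ker (ei X ε A)) : X.act w β = β := by
  have h1 := hw _ ((ud_iff hd).2 (h.ka_eig (by rcases hd with ⟨-, rfl⟩ | ⟨-, rfl⟩ <;> rfl) (mem_ei.1 hβ)))
  rw [Wm_ka', ← sub_eq_zero, ← map_sub, ← map_sub] at h1
  refine sub_eq_zero.1 (eq_zero_of_minuscule X _ fun a ha => ?_)
  rw [← wt_dot_cor X _ ha, ka_zero (by rw [h1, dotProduct_zero]) ha]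
  norm_num

theorem exists_generic (f : (X.I → ℤ) →ₗ[ℤ] X.R → ℤ) : ∃ β ∈ LinearMap.ker f,
    ∀ c, X.Rt c → X.wt β ⬝ᵥ X.cor c = 0 → ∀ z ∈ LinearMap.ker f, X.wt z ⬝ᵥ X.cor c = 0 := by
  classical
  have e : ∀ (g : (X.I → ℤ) →ₗ[ℤ] ℤ) z, (fun i => g (sr i)) ⬝ᵥ z = g z := fun g z => by
    conv_rhs => rw [pi_eq_sum_univ' z, map_sum]
    exact Finset.sum_congr rfl fun i _ => by rw [map_smul, smul_eq_mul, mul_comm]; rfl
  have e1 : ∀ y z, (fun i => X.wt (sr i) ⬝ᵥ y) ⬝ᵥ z = X.wt z ⬝ᵥ y := fun y =>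
    e ((dotProductBilin ℤ ℤ).flip y ∘ₗ X.wt.toIntLinearMap)
  have e2 : ∀ r z, (fun i => f (sr i) r) ⬝ᵥ z = f z r := fun r => e (LinearMap.proj r ∘ₗ f)
  obtain ⟨β, h1, h2⟩ := exists_avoid (P := Set.range fun r i => f (sr i) r) (((Phi X).filter fun c => ∃ z ∈ LinearMap.ker f,
    X.wt z ⬝ᵥ X.cor c ≠ 0).image fun c i => X.wt (sr i) ⬝ᵥ X.cor c) fun b hb => by
      obtain ⟨c, hc, rfl⟩ := Finset.mem_image.1 hb
      obtain ⟨z, h1, h2⟩ := (Finset.mem_filter.1 hc).2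
      exact ⟨z, by rintro _ ⟨r, rfl⟩; exact (e2 r z).trans (congrFun h1 r), (e1 _ z).trans_ne h2⟩
  exact ⟨β, funext fun r => (e2 r β).symm.trans (h1 _ ⟨r, rfl⟩), fun c hc h0 z hz => by_contra fun k =>
    h2 _ (Finset.mem_image_of_mem _ (Finset.mem_filter.2 ⟨(mem_Phi X).2 hc, z, hz, k⟩)) ((e1 _ β).trans h0)⟩

theorem wt_cor (K : Kit X X₀) (a : X.I → ℤ) {b : X.I → ℤ} (hb : X.Rt b) : X.wt a ⬝ᵥ X.cor b = B (K.e a) (K.e b) :=
  (K.wt_cor a hb).trans (congrArg _ (co_eq _))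

/-- the normalised Frobenius map in coordinates -/
theorem exists_sig (K : Kit X X₀) (h : Nf X A n) (hε : ε = 1 ∨ ε = -1) : ∃ σ : V →ₗ[ℤ] V, Is X₀ σ ∧
    ∀ z, X.wt (K.e.symm (σ z)) = X.wt (K.e.symm z) ᵥ* (ε • A) := by
  choose s hs using exists_wtA h
  have h1 : ∀ z, X.wt (K.e.symm (K.e (ε • s (K.e.symm z)))) = X.wt (K.e.symm z) ᵥ* (ε • A) := fun z => by
    rw [K.e.symm_apply_apply, map_zsmul, ← hs, vecMul_smul]
  let σ : V →ₗ[ℤ] V := (AddMonoidHom.mk' (fun z => K.e (ε • s (K.e.symm z))) fun x y => K.e.symm.injective (X.wt_injective (by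
    rw [h1, map_add, map_add, map_add, map_add, h1, h1, add_vecMul]))).toIntLinearMap
  have h2 : ∀ a, X.Rt a → σ (K.e (X.g a)) = ε • K.e a := fun a ha => K.e.symm.injective (X.wt_injective ((h1 _).trans (by
    rw [map_zsmul, K.e.symm_apply_apply, K.e.symm_apply_apply, vecMul_smul, h.wt a ha, map_zsmul])))
  have h3 : ∀ c : V, X₀.D.Rt c → ∃ a, X.Rt a ∧ K.e (X.g a) = c := fun c hc =>
    (X.g_surj ((K.rt_symm c).2 hc)).imp fun a e => ⟨e.1, by rw [e.2, K.e.apply_symm_apply]⟩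
  refine ⟨σ, ⟨fun c hc => ?_, fun x y => ?_⟩, h1⟩
  · obtain ⟨a, ha, rfl⟩ := h3 c hc
    rw [h2 a ha]
    rcases hε with rfl | rfl
    exacts [(one_smul ℤ (K.e a)).symm ▸ (K.rt a).1 ha, (neg_one_smul ℤ (K.e a)).symm ▸ ((K.rt a).1 ha).neg]
  · refine LinearMap.congr_fun (f := B (σ x) ∘ₗ σ) (g := B x) ((Pi.basisFun ℤ _).ext fun i => ?_) y
    obtain ⟨a, ha, e⟩ := h3 _ (rt_e i)
    rw [Pi.basisFun_apply, show Pi.single i 1 = _ from e.symm, LinearMap.comp_apply, h2 a ha, map_smul, ← K.e.apply_symm_apply (σ x),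
      ← wt_cor K _ ha, show X.wt (K.e.symm (σ x)) = _ from h1 x, ← dotProduct_mulVec, smul_mulVec, h.cor a ha, dotProduct_smul, smul_smul,
      show ε * ε = 1 by rcases hε with rfl | rfl <;> rfl, one_smul, wt_cor K _ (X.g_root a ha), K.e.apply_symm_apply]

/-- **no root in the split part** -/
theorem noroot (ss : ∀ v, Pp X {a | X.Rt a} v → v = 0) (hT : Ty X hpE6) (h : Nf X A n) (hd : (d = 1 ∧ ε = 1) ∨ (d = 2 ∧ ε = -1))
    (hQ : 3 ∣ ε * Q - 1) (L : Lt X 3 d Q A Γ) (nr : ∀ a, X.Rt a → a ∉ LinearMap.ker (ei X ε A)) :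
    CA X 3 d A Γ ∨ CC X 3 d Q A Γ := by
  have hε : ε = 1 ∨ ε = -1 := hd.imp And.right And.right
  have he : ε * ε = 1 := by rcases hε with rfl | rfl <;> rfl
  obtain ⟨β, hβ, gen⟩ := exists_generic (ei X ε A)
  obtain ⟨Mx, X₀, ⟨K₀⟩⟩ := hT.kit
  obtain ⟨w, dom⟩ := K₀.dom sl6 (K₀.ψ (K₀.e β))
  rw [K₀.tw_φ, K₀.φ_ψ, co_eq, show X₀.D.Wm w *ᵥ cc (K₀.e β) = cc ((K₀.tw sl6 w).e β) from wm_cc w _] at dom
  generalize K₀.tw sl6 w = K at dom
  obtain ⟨σ, hσ, hs⟩ := exists_sig K h hε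
  have h1 : ∀ t z, X.wt (K.e.symm ((σ ^ t) z)) = X.wt (K.e.symm z) ᵥ* (ε • A) ^ t := fun t z => by
    induction t with
    | zero => rw [pow_zero, pow_zero, vecMul_one, End.one_apply]
    | succ t ih => rw [pow_succ', End.mul_apply, hs, ih, vecMul_vecMul, pow_succ]
  have h2 : ∀ z, σ z = z ↔ K.e.symm z ∈ LinearMap.ker (ei X ε A) := fun z => by
    rw [mem_ei, ← K.e.symm.injective.eq_iff, ← X.wt_injective.eq_iff, hs, vecMul_smul]
    exact ⟨fun e => by rw [← e, smul_smul, he, one_smul, e], fun e => by rw [e, smul_smul, he, one_smul]⟩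
  have h3 : ∀ z : LinearMap.ker (ei X ε A), σ (K.e z) = K.e z := fun z => (h2 _).2 ((K.e.symm_apply_apply z).symm ▸ z.2)
  let a := am (LinearMap.ker (ei X ε A)) fun w hw => act_mem h hd L hw
  let e : LinearMap.ker (ei X ε A) →ₗ[ℤ] V := K.e.toIntLinearEquiv.toLinearMap ∘ₗ Submodule.subtype _
  have hB : Fm a (B.compl₁₂ e e) := ⟨fun x y => B_sym _ _, fun x hx => B_pos _ fun k => hx (Subtype.ext (K.e.map_eq_zero_iff.1 k)),
    fun g x y => (K.exists_W' sl6 g).elim fun w hw => (congrArg₂ (fun u v => B u v) (hw x) (hw y)).trans (dot_ac w _ _)⟩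
  have ca : (∀ g : Γ, (∃ j, (g : X.W) ^ 3 ^ j = 1) → a (g ^ 3) = 1 → a g = 1) → CA X 3 d A Γ := fun key => by
    have key' : ∀ (i : ℕ) (g : Γ), (∃ j, (g : X.W) ^ 3 ^ j = 1) → a (g ^ 3 ^ i) = 1 → a g = 1 := fun i => by
      induction i with
      | zero => exact fun g _ hg => by simpa using hg
      | succ i ih =>
        exact fun g ⟨j, hj⟩ hg => key g ⟨j, hj⟩ (ih _ ⟨j, by rw [coe_pow, ← pow_mul, mul_comm, pow_mul, hj, one_pow]⟩
          (by rw [← pow_mul, ← pow_succ', hg]))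
    exact ca_of Nat.prime_three fun g hg ⟨j, hj⟩ => tv_of ss h hd fun β hβ => congrArg Subtype.val (LinearEquiv.congr_fun
      (key' j ⟨g, hg⟩ ⟨j, hj⟩ (by rw [show (⟨g, hg⟩ : Γ) ^ 3 ^ j = 1 from Subtype.ext hj, map_one])) ⟨β, hβ⟩)
  rcases pure hσ (h3 ⟨β, hβ⟩) dom (fun c hc h0 z hz => by
      have e1 := gen _ ((K.rt_symm c).2 hc) (by rw [wt_cor K _ ((K.rt_symm c).2 hc), K.e.apply_symm_apply, B_sym, h0]) _ ((h2 z).1 hz)
      rwa [wt_cor K _ ((K.rt_symm c).2 hc), K.e.apply_symm_apply, K.e.apply_symm_apply, B_sym] at e1)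
    (fun c hc e => nr _ ((K.rt_symm c).2 hc) ((h2 c).1 e)) (n := 2 * n) (mul_pos two_pos h.n0)
    (LinearMap.ext fun z => K.e.symm.injective (X.wt_injective (by
      rw [h1, smul_pow, pow_mul, pow_two, he, one_pow, one_smul, mul_comm, pow_mul, h.pow, one_pow, vecMul_one, End.one_apply])))
    with H | H | ⟨H, H'⟩
  · refine Or.inl (ca fun g ⟨j, hj⟩ g3 => hB.lat ?_ g3 fun x => ?_)
    · refine (LinearMap.finrank_le_finrank_of_injective (f := LinearMap.funLeft ℤ ℤ (![0, 1, 2] : Fin 3 → Fin 6) ∘ₗ e)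
        ((injective_iff_map_eq_zero _).2 fun z hz => Subtype.ext (K.e.map_eq_zero_iff.1 ?_))).trans_eq (finrank_fin_fun ℤ)
      obtain ⟨e1, e2, e3⟩ := H _ (h3 z)
      have e4 : K.e z 0 = 0 := congrFun hz 0
      have e5 : K.e z 1 = 0 := congrFun hz 1
      have e6 : K.e z 2 = 0 := congrFun hz 2
      apply ext6 <;> simp only [Pi.zero_apply] <;> omega
    · obtain ⟨s, hs, h1⟩ := fix3 h hd hQ L g.2 hj x.2
      have h5 := sub_mem (a (⟨s, hs⟩ * g * ⟨s, hs⟩⁻¹) x).2 x.2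
      have h6 : ∀ i, 3 ∣ cc (K.e (X.act (s * g * s⁻¹) x - x)) i := fun i => by
        rw [← B_sr, B_sym, ← K.e.apply_symm_apply (sr i), ← wt_cor K _ (K.rt_sr i)]
        exact Finset.dvd_sum fun r _ => (h1 r).mul_right _
      choose y hy using show ∀ i, 3 ∣ K.e (X.act (s * g * s⁻¹) x - x) i by
        have h7 : _ ∧ _ ∧ _ := H (K.e (X.act (s * g * s⁻¹) x - x)) (h3 ⟨_, h5⟩)
        generalize K.e (X.act (s * g * s⁻¹) x - x) = z at h6 h7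
        simp [LN6.cc, Fin.forall_fin_succ] at h6 ⊢
        omega
      have h2 : X.act (s * g * s⁻¹) x - x = (3 : ℤ) • K.e.symm y := K.e.injective (by
        rw [map_zsmul, K.e.apply_symm_apply]; exact funext hy)
      refine ⟨⟨s, hs⟩, ⟨K.e.symm y, smul_right_injective _ (three_ne_zero (α := ℤ)) ?_⟩, Subtype.ext (sub_eq_iff_eq_add'.1 h2)⟩
      show (3 : ℤ) • ei X ε A _ = (3 : ℤ) • 0
      rw [← map_smul, ← h2, smul_zero]
      exact h5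
  · exact Or.inl (ca fun g _ g3 => sq_lat hB (fun z => H _ (h3 z)) g3)
  · have k1 : ∀ i j : ℤ, K.e.symm (i • ![2, 1, 2, 2, 1, 0] + j • ![0, 1, 1, 2, 2, 2]) ∈ LinearMap.ker (ei X ε A) := fun i j =>
      (h2 _).1 ((H _).2 (by simp [LN6.cc]; omega))
    have k2 : ∀ z, e z = (e z 2 - e z 1) • ![2, 1, 2, 2, 1, 0] + (e z 4 - e z 1) • ![0, 1, 1, 2, 2, 2] := fun z => by
      have e1 : _ ∧ _ := (H (e z)).1 (h3 z)
      generalize e z = u at e1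
      simp [LN6.cc] at e1
      apply ext6 <;> simp <;> omega
    let c : LinearMap.ker (ei X ε A) ≃ₗ[ℤ] Fin 2 → ℤ := LinearEquiv.ofBijective (LinearMap.funLeft ℤ ℤ (![2, 4] : Fin 2 → Fin 6) ∘ₗ e -
      LinearMap.funLeft ℤ ℤ (![1, 1] : Fin 2 → Fin 6) ∘ₗ e) ⟨(injective_iff_map_eq_zero _).2 fun z hz => Subtype.ext
        (K.e.map_eq_zero_iff.1 ((k2 z).trans (by
          rw [show e z 2 - e z 1 = 0 from congrFun hz 0, show e z 4 - e z 1 = 0 from congrFun hz 1, zero_smul, zero_smul, add_zero]))),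
        fun v => ⟨⟨_, k1 (v 0) (v 1)⟩, funext fun i => by fin_cases i <;> simp [e] <;> ring⟩⟩
    have k3 : ∀ z, B (e z) (e z) = 4 * (c z 0 ^ 2 - c z 0 * c z 1 + c z 1 ^ 2) := fun z => by
      rw [k2 z, show c z 0 = e z 2 - e z 1 from rfl, show c z 1 = e z 4 - e z 1 from rfl, B_apply, dot6]
      simp [LN6.cc]
      ring
    obtain ⟨w₀, k4, k5⟩ := hex (a := a) c fun g x => mul_left_cancel₀ four_ne_zero ((k3 _).symm.trans ((hB.inv g x x).trans (k3 x)))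
    have k6 : ∀ w : Γ, Tv X d A w ↔ a w = 1 := fun w => ⟨fun e => LinearEquiv.ext fun z => Subtype.ext (fix_of_tv h hd e z.2),
      fun e => tv_of ss h hd fun β hβ => congrArg Subtype.val (LinearEquiv.congr_fun e ⟨β, hβ⟩)⟩
    refine Or.inr ⟨fun b hb => ?_, w₀, w₀.2, by simpa only [coe_pow] using (k6 _).2 k4, fun w hw ⟨j, hj⟩ =>
      (k5 ⟨w, hw⟩ ⟨j, (k6 _).1 (by simpa only [coe_pow] using hj)⟩).imp fun i e => by
        simpa only [coe_pow, coe_mul, coe_inv] using (k6 _).2 e⟩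
    have m1 : ∀ j, Md 3 Q A (X.wt (K.e.symm (nn j))) := fun j => (H' j).elim fun t e => E6M.md_neg he hQ (t := t) (by
      rw [← h1, e, map_neg, map_neg])
    have m2 := fun i j => (wt_cor K _ hb.1).symm.trans (perp_of ((ud_iff hd).2 (h.ka_eig he (mem_ei.1 (k1 i j)))) b hb)
    have m3 := m2 1 0
    have m4 := m2 0 1
    rw [K.e.apply_symm_apply, B_sym, B_apply, dot6] at m3 m4
    simp [LN6.cc] at m3 m4
    refine E6M.md_half (md_add (md_smul (m1 0) (K.e b 2)) (md_smul (m1 1) (K.e b 3 - K.e b 2))) (md_add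
      (md_smul (m1 2) (K.e b 4 + K.e b 1 - K.e b 3)) (md_smul (m1 3) (K.e b 1 - K.e b 4))) ?_
    simp only [← map_zsmul, ← map_add]
    refine congrArg _ (K.e.injective ?_)
    rw [map_zsmul, K.e.apply_symm_apply]
    apply ext6 <;> simp [nn] <;> omega

end Cfsg.Agent.BZ.K3.E6N
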