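import Cfsg.Agent.BZ.L.K3.E6Q

/-!
# BZ / L / K3 : the lattice lemma for `E₆` when the fixed lattice contains a root (helper98)

`E6R.root`.
-/

set_option autoImplicit false
set_option linter.unusedSectionVars false
set_option maxHeartbeats 400000

namespace Cfsg.Agent.BZ.K3.E6R

open Cfsg Cfsg.Lie Subgroup Matrix Cfsg.Agent.DL Cfsg.Agent.KM Cfsg.Agent.KM.Tor Cfsg.Agent.BZ.K3.LS Cfsg.Agent.BZ.K3.Rd
  Cfsg.Agent.BZ.K3.E6T Cfsg.Agent.KZ.DatX Cfsg.Agent.RC.B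
open Cfsg.Agent.TO.X.Cn (Pi1)

variable {p : ℕ} [Fact p.Prime] {k : Type} [Field k] [CharP k p] {Y : Type} [Group Y] {N : Type} [Fintype N]
  [DecidableEq N] {ρ : Y →* GL N k} {F : MulAut Y} {G : Subgroup Y} [IsAlgClosed k] {X : Datum p ρ F G}
  {d n : ℕ} {Q ε : ℤ} {A : Matrix X.R X.R ℤ} {Γ : Subgroup X.W} {g : X.W} {m : Mo X} {π : Equiv.Perm (Fin 6)} {θ : X.I → ℤ}

variable (m ε A) in
/-- two coordinates agree on the fixed lattice -/
def Rl (i j : Fin 6) : Prop := ∀ β ∈ LinearMap.ker (ei X ε A), m.c β i = m.c β j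

theorem Rl.symm {i j : Fin 6} (h : Rl ε A m i j) : Rl ε A m j i := fun β hβ => (h β hβ).symm

theorem Rl.trans {i j l : Fin 6} (h : Rl ε A m i j) (h' : Rl ε A m j l) : Rl ε A m i l := fun β hβ => (h β hβ).trans (h' β hβ)

variable (X) in
/-- the setting -/
structure Se (d n : ℕ) (Q ε : ℤ) (A : Matrix X.R X.R ℤ) (Γ : Subgroup X.W) (g : X.W) (m : Mo X) (π : Equiv.Perm (Fin 6))
    (θ : X.I → ℤ) : Prop where
  ss : ∀ v, Pp X {a | X.Rt a} v → v = 0
  nf : Nf X A n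
  hd : (d = 1 ∧ ε = 1) ∨ (d = 2 ∧ ε = -1)
  hQ : 3 ∣ ε * Q - 1
  lt : Lt X 3 d Q A Γ
  hg : g ∈ Γ
  pw : ∃ j : ℕ, g ^ 3 ^ j = 1
  one : ∀ k, m.c θ k = 1
  mem : θ ∈ LinearMap.ker (ei X ε A)
  gs : ∀ β, m.s (X.act g β) = m.s β
  gc : ∀ β i, m.c (X.act g β) (π i) = m.c β i
  p0 : π 0 = 1
  p1 : π 1 = 2
  p2 : π 2 = 0
  p3 : (π 3 = 3 ∧ π 4 = 4 ∧ π 5 = 5) ∨ (π 3 = 4 ∧ π 4 = 5 ∧ π 5 = 3)
  n01 : ¬ Rl ε A m 0 1

theorem par : ∀ i j : Fin 6, j ≠ i → j.1 % 3 = i.1 % 3 → j = i + 3 := by decide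

/-- the block -/
def bk (i : Fin 6) : Fin 3 := ⟨i.1 % 3, Nat.mod_lt _ (by decide)⟩

/-- the first point of a block -/
def up (b : Fin 3) : Fin 6 := ⟨b.1, by omega⟩

theorem bk_up : (∀ b, bk (up b) = b) ∧ ∀ i j, bk i = bk j → i = j ∨ i = j + 3 := by decide

namespace Se

variable (h : Se X d n Q ε A Γ g m π θ)
include h

theorem eps : ε = 1 ∨ ε = -1 := h.hd.imp (·.2) (·.2)

theorem ee : ε * ε = 1 := by rcases h.eps with e | e <;> simp [e]

theorem am {w : X.W} (hw : w ∈ Γ) {β : X.I → ℤ} (hβ : β ∈ LinearMap.ker (ei X ε A)) : X.act w β ∈ LinearMap.ker (ei X ε A) :=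
  act_mem h.nf h.hd h.lt hw β hβ

theorem inv {i j : Fin 6} (e : Rl ε A m i j) : Rl ε A m (π i) (π j) := fun β hβ => by
  rw [← act_act_inv g β, h.gc, h.gc, e _ (h.am (inv_mem h.hg) hβ)]

theorem n12 : ¬ Rl ε A m 1 2 := fun e => h.n01 (by simpa only [h.p0, h.p1, h.p2] using h.inv (h.inv e))

theorem n20 : ¬ Rl ε A m 2 0 := fun e => h.n01 (by simpa only [h.p0, h.p1, h.p2] using h.inv e)

theorem rt : X.Rt θ := m.th θ h.one

/-- the test vector -/
theorem test {i j : Fin 6} (hij : i ≠ j) (hm : ∀ u, m.c u = sg i j → m.s u = 0 → u ∈ LinearMap.ker (ei X ε A)) :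
    ∃ y ∈ LinearMap.ker (ei X ε A), ∑ i, m.c y i * m.c y i - m.s y * m.s y = 4 ∧
      ∀ k l, 3 ∣ m.c (X.act g y) k - m.c y k - (m.c (X.act g y) l - m.c y l) := by
  obtain ⟨u, hu, k1, k2⟩ := m.exists_sg hij
  obtain ⟨j, hj⟩ := h.pw
  exact m.test h.nf h.hd h.hQ h.lt h.hg hj h.gs h.rt hu (by rw [m.pr _ _ hu, k1, k2, sum_sg, h.one, h.one]; simp)
    (add_mem h.mem (hm u k1 k2))

theorem g6 (β : X.I → ℤ) : m.c (X.act g β) 1 = m.c β 0 ∧ m.c (X.act g β) 2 = m.c β 1 ∧ m.c (X.act g β) 0 = m.c β 2 ∧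
    ((m.c (X.act g β) 3 = m.c β 3 ∧ m.c (X.act g β) 4 = m.c β 4 ∧ m.c (X.act g β) 5 = m.c β 5 ∧ π 3 = 3) ∨
      (m.c (X.act g β) 4 = m.c β 3 ∧ m.c (X.act g β) 5 = m.c β 4 ∧ m.c (X.act g β) 3 = m.c β 5 ∧ π 3 = 4)) :=
  ⟨h.p0 ▸ h.gc β 0, h.p1 ▸ h.gc β 1, h.p2 ▸ h.gc β 2, h.p3.imp
    (fun e => ⟨by simpa only [e.1] using h.gc β 3, by simpa only [e.2.1] using h.gc β 4, by simpa only [e.2.2] using h.gc β 5, e.1⟩)
    fun e => ⟨by simpa only [e.1] using h.gc β 3, by simpa only [e.2.1] using h.gc β 4, by simpa only [e.2.2] using h.gc β 5, e.1⟩⟩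

/-- the outer case -/
theorem outer {r : Equiv.Perm (Fin 6)} (hr : ∀ β, β ∈ LinearMap.ker (ei X ε A) ↔ ∀ i, m.c β (r i) + m.c β i = m.s β) : False := by
  obtain ⟨β, hβ, hn⟩ : ∃ β ∈ LinearMap.ker (ei X ε A), m.c β 0 ≠ m.c β 1 := by simpa [Rl] using h.n01
  have a0 := (hr _).1 hβ
  have a1 := (hr _).1 (h.am h.hg hβ)
  have a2 := (hr _).1 (h.am h.hg (h.am h.hg hβ))
  rw [h.gs] at a1
  rw [h.gs, h.gs] at a2
  obtain ⟨b1, b2, b3, b4⟩ := h.g6 β
  obtain ⟨c1, c2, c3, c4⟩ := h.g6 (X.act g β)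
  have k : ∀ i : Fin 6, i.1 < 3 → 3 ≤ (r i).1 ∧ π 3 ≠ 3 := fun i hi => by
    have e0 := a0 i
    have e1 := a1 i
    have e2 := a2 i
    generalize r i = j at e0 e1 e2
    fin_cases i <;> fin_cases j <;> simp at hi e0 e1 e2 ⊢ <;> omega
  have k0 := k 0 (by decide)
  have k1 := (k 1 (by decide)).1
  have k2 := (k 2 (by decide)).1
  have k3 : r (r 0) = 0 := by
    have e1 : r (r 0) ≠ 1 := fun e => h.n01 fun y hy => by
      have := (hr y).1 hy (r 0)
      have := (hr y).1 hy 0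
      rw [e] at *
      omega
    have e2 : r (r 0) ≠ 2 := fun e => h.n20 fun y hy => by
      have := (hr y).1 hy (r 0)
      have := (hr y).1 hy 0
      rw [e] at *
      omega
    have n : ∀ i j : Fin 6, i ≠ j → (r i).1 ≠ (r j).1 := fun i j e e' => e (r.injective (Fin.ext e'))
    have n1 := n 0 1 (by decide)
    have n2 := n 0 2 (by decide)
    have n3 := n 1 2 (by decide)
    have n4 := n (r 0) 0 (by omega)
    have n5 := n (r 0) 1 (by omega)
    have n6 := n (r 0) 2 (by omega)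
    omega
  obtain ⟨y, hy, e1, e2⟩ := h.test (i := 0) (j := r 0) (by omega) fun u u1 u2 => (hr u).2 fun i => by
    have : r i = 0 ↔ i = r 0 := by rw [← r.injective.eq_iff (a := i), k3]
    simp only [u1, u2, sg, r.injective.eq_iff, this]
    ring
  have f0 := (hr y).1 hy 0
  have f1 := (hr _).1 (h.am h.hg hy) 0
  rw [h.gs] at f1
  have f2 := e2 (r 0) 0
  have f3 := e2 1 0
  have f4 := e2 2 0
  have f5 := e2 4 0
  have f6 := e2 5 0
  obtain ⟨d1, d2, d3, d4⟩ := h.g6 y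
  obtain ⟨d4, d5, d6, -⟩ := d4.resolve_left fun e => k0.2 e.2.2.2
  exact mod3 e1 (by omega) (by omega) (by omega) (by omega)

/-- the inner case with three singletons -/
theorem sing {r : Equiv.Perm (Fin 6)} (hr : ∀ β, β ∈ LinearMap.ker (ei X ε A) ↔ ∀ i, m.c β (r i) = m.c β i)
    (h0 : ∀ i, Rl ε A m 0 i → i = 0) (i : Fin 6) : r i = i := by
  by_contra hi
  have R : ∀ i, Rl ε A m i (r i) := fun i β hβ => ((hr β).1 hβ i).symm
  have r0 : r 0 = 0 := h0 _ (R 0)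
  have r2 : r 2 = 2 := π.injective ((h0 _ (h.p2 ▸ h.inv (R 2))).trans h.p2.symm)
  have r1 : r 1 = 1 := π.injective (π.injective ((h0 _ (by simpa only [h.p1, h.p2] using h.inv (h.inv (R 1)))).trans (by
    rw [h.p1, h.p2])))
  obtain ⟨y, hy, e1, e2⟩ := h.test (i := 0) (j := 1) (by decide) fun u u1 _ => (hr u).2 fun i => by
    have a0 : r i = 0 ↔ i = 0 := by rw [← r.injective.eq_iff (a := i), r0]
    have a1 : r i = 1 ↔ i = 1 := by rw [← r.injective.eq_iff (a := i), r1]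
    simp only [u1, sg, a0, a1]
  have f0 := R i y hy
  have f1 := R i _ (h.am h.hg hy)
  have n0 : r i ≠ 0 := fun e => hi (by rw [r.injective (e.trans r0.symm), r0])
  have n1 : r i ≠ 1 := fun e => hi (by rw [r.injective (e.trans r1.symm), r1])
  have n2 : r i ≠ 2 := fun e => hi (by rw [r.injective (e.trans r2.symm), r2])
  have m0 : i ≠ 0 := fun e => hi (e ▸ r0)
  have m1 : i ≠ 1 := fun e => hi (e ▸ r1)
  have m2 : i ≠ 2 := fun e => hi (e ▸ r2)
  have f2 := e2 3 0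
  have f3 := e2 1 0
  have f4 := e2 2 0
  have f5 := e2 4 0
  have f6 := e2 5 0
  have f7 := m.sum y
  rw [Fin.sum_univ_six] at f7
  obtain ⟨d1, d2, d3, d4⟩ := h.g6 y
  generalize r i = j at f0 f1 n0 n1 n2 hi
  have : 3 ∣ m.c y 0 - m.c y 1 ∧ 3 ∣ m.c y 0 - m.c y 2 ∧ 3 ∣ m.c y 3 - m.c y 4 ∧ 3 ∣ m.c y 3 - m.c y 5 := by
    fin_cases i <;> fin_cases j <;> simp at n0 n1 n2 m0 m1 m2 hi f0 f1 <;> omega
  exact mod3 e1 this.1 this.2.1 this.2.2.1 this.2.2.2

/-- the inner case with three pairs -/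
theorem pairs {r : Equiv.Perm (Fin 6)} (hr : ∀ β, β ∈ LinearMap.ker (ei X ε A) ↔ ∀ i, m.c β (r i) = m.c β i) (h3 : Rl ε A m 0 3) :
    (π 3 = 4 ∧ π 4 = 5 ∧ π 5 = 3) ∧ ∀ i, r i = i + 3 := by
  have q := h.p3.resolve_left fun e => h.n01 (h3.trans (by simpa only [h.p0, e.1] using (h.inv h3).symm))
  have h4 : Rl ε A m 1 4 := by simpa only [h.p0, q.1] using h.inv h3
  have h5 : Rl ε A m 2 5 := by simpa only [h.p1, q.2.1] using h.inv h4
  have R : ∀ i, Rl ε A m i (i + 3) := fun i => by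
    fin_cases i
    exacts [h3, h4, h5, h3.symm, h4.symm, h5.symm]
  have U : ∀ i, Rl ε A m i (up (bk i)) := fun i => by
    fin_cases i
    exacts [fun _ _ => rfl, fun _ _ => rfl, fun _ _ => rfl, h3.symm, h4.symm, h5.symm]
  have B : ∀ a b, Rl ε A m (up a) (up b) → a = b := fun a b e => by
    fin_cases a <;> fin_cases b
    exacts [rfl, absurd e h.n01, absurd e.symm h.n20, absurd e.symm h.n01, rfl, absurd e h.n12, absurd e h.n20, absurd e.symm h.n12, rfl]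
  refine ⟨q, fun i => par i _ (fun e => ?_) (congrArg Fin.val (B _ _ (((U _).symm.trans fun β hβ => (hr β).1 hβ i).trans (U i))))⟩
  obtain ⟨b, k1, -⟩ := m.exists_one i
  have := R i b ((hr b).2 fun j => by
    have : r j = i ↔ j = i := by rw [← r.injective.eq_iff (a := j), e]
    simp only [k1, Pi.single_apply, this])
  rw [k1, Pi.single_eq_same, Pi.single_eq_of_ne (by fin_cases i <;> decide)] at this
  omega

/-- the case C -/
theorem cc {σ : (X.I → ℤ) →+ (X.I → ℤ)} (hσ : ∀ β, X.wt (σ β) = ε • (X.wt β ᵥ* A)) (h1 : ∀ β i, m.c (σ β) (i + 3) = m.c β i)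
    (hr : ∀ β, β ∈ LinearMap.ker (ei X ε A) ↔ ∀ i, m.c β (i + 3) = m.c β i) (q : π 3 = 4 ∧ π 4 = 5 ∧ π 5 = 3) : CC X 3 d Q A Γ := by
  have tv : ∀ b : Fin 3, ∃ β ∈ LinearMap.ker (ei X ε A), m.s β = 2 ∧ ∀ i, m.c β i = if bk i = b then 3 else 0 := fun b => by
    obtain ⟨β, k1, k2⟩ := m.sur (fun i => if bk i = b then 3 else 0) 2 (by revert b; decide)
    exact ⟨β, (hr β).2 fun i => by rw [k1]; fin_cases i <;> rfl, k2, congrFun k1⟩
  have eb : ∀ β ∈ LinearMap.ker (ei X ε A), ∀ i j, bk i = bk j → m.c β i = m.c β j := fun β hβ i j e => by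
    rcases bk_up.2 i j e with rfl | rfl
    exacts [rfl, (hr β).1 hβ j]
  have hπ : ∀ i, bk (π i) = bk i + 1 := fun i => by
    fin_cases i
    exacts [congrArg bk h.p0, congrArg bk h.p1, congrArg bk h.p2, congrArg bk q.1, congrArg bk q.2.1, congrArg bk q.2.2]
  have gp : ∀ (t : ℕ), ∀ β ∈ LinearMap.ker (ei X ε A), ∀ i j, bk j = bk i + Fin.ofNat 3 t → m.c (X.act (g ^ t) β) j = m.c β i := by
    intro t
    induction t with
    | zero => exact fun β hβ i j e => by rw [pow_zero, Kit.act_one', eb β hβ j i (e.trans (add_zero _))]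
    | succ t ih =>
      intro β hβ i j e
      rw [pow_succ, act_mul', ih _ (h.am h.hg hβ) (π i) j (by
        rw [e, hπ, add_assoc, add_comm 1]
        exact congrArg _ (Fin.ext (by simp [Fin.val_add]))), h.gc]
  refine ⟨fun a ha => ⟨-(ε * Q + 1), fun e => by have := h.hQ; omega, X.wt a, ?_⟩, g, h.hg, tv_of h.ss h.nf h.hd fun β hβ =>
    m.inj _ _ fun i => gp 3 β hβ i i (add_zero _).symm, fun w hw ⟨j, hj⟩ => ?_⟩
  · have o : ∀ β ∈ LinearMap.ker (ei X ε A), ∑ i, m.c β i * m.c a i - m.s β * m.s a = 0 := fun β hβ =>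
      (m.pr β a ha.1).symm.trans (perp_of ((ud_iff h.hd).2 (h.nf.ka_eig h.ee (mem_ei.1 hβ))) a ha)
    have o1 := o θ h.mem
    have o2 := m.sum a
    obtain ⟨β0, a0, b0, c0⟩ := tv 0
    obtain ⟨β1, a1, b1, c1⟩ := tv 1
    have o3 := o β0 a0
    have o4 := o β1 a1
    simp [Fin.sum_univ_six, h.one, m.s_one h.one, b0, b1, c0, c1, bk] at o1 o2 o3 o4
    have e : σ a = -a := m.inj _ _ fun i => by
      obtain ⟨i, rfl⟩ : ∃ j, i = j + 3 := ⟨i + 3, by revert i; decide⟩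
      rw [h1, map_neg, Pi.neg_apply]
      fin_cases i <;> simp <;> omega
    have e' := hσ a
    rw [e, map_neg] at e'
    rw [vecMul_sub, vecMul_smul, vecMul_one, show X.wt a ᵥ* A = -ε • X.wt a by
      rw [neg_smul, ← smul_neg, e', smul_smul, h.ee, one_smul]]
    module
  have hM := fun β hβ => m.of_tv h.nf h.hd hj (β := β) hβ
  have w1 : X.act w θ = θ := by
    have r1 : X.Rt (X.act w θ) := h.rt.act w
    have e1 := (m.pr _ _ r1).symm.trans (TW.pr_self r1)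
    have e2 := m.sum (X.act w θ)
    have e3 := (hr _).1 (h.am hw h.mem)
    have e4 := e3 0
    have e5 := e3 1
    have e6 := e3 2
    rw [Fin.sum_univ_six] at e1 e2
    simp only [show (0 + 3 : Fin 6) = 3 from rfl, show (1 + 3 : Fin 6) = 4 from rfl, show (2 + 3 : Fin 6) = 5 from rfl] at e4 e5 e6
    rw [e4, e5, e6] at e1 e2
    have e7 : ∀ i, m.c (X.act w θ) i = m.c (X.act w θ) 0 ∧ (m.c (X.act w θ) 0 = 1 ∨ m.c (X.act w θ) 0 = -1) := by
      have : m.c (X.act w θ) 1 = m.c (X.act w θ) 0 ∧ m.c (X.act w θ) 2 = m.c (X.act w θ) 0 ∧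
          (m.c (X.act w θ) 0 = 1 ∨ m.c (X.act w θ) 0 = -1) := by
        generalize m.c (X.act w θ) 0 = x, m.c (X.act w θ) 1 = y, m.c (X.act w θ) 2 = z, m.s (X.act w θ) = s at e1 e2
        obtain ⟨t, rfl⟩ : ∃ t, s = 2 * t := ⟨s / 2, by omega⟩
        obtain ⟨x, rfl⟩ : ∃ u, x = t + u := ⟨x - t, by omega⟩
        obtain ⟨y, rfl⟩ : ∃ u, y = t + u := ⟨y - t, by omega⟩
        obtain rfl : z = t - x - y := by omega
        have e : t * t + x * x + y * y + (x + y) * (x + y) = 1 := by linarith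
        have b1 : t ≤ 1 := by nlinarith
        have b2 : -1 ≤ t := by nlinarith
        have b3 : x ≤ 1 := by nlinarith
        have b4 : -1 ≤ x := by nlinarith
        have b5 : y ≤ 1 := by nlinarith
        have b6 : -1 ≤ y := by nlinarith
        interval_cases t <;> interval_cases x <;> interval_cases y <;> simp at e ⊢
      intro i
      fin_cases i <;> simp <;> omega
    rcases (e7 0).2 with e | e
    · exact m.inj _ _ fun i => by rw [(e7 i).1, e, h.one]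
    have e8 : X.act w θ = -θ := m.inj _ _ fun i => by rw [(e7 i).1, e, map_neg, Pi.neg_apply, h.one]
    have e9 : ∀ t : ℕ, X.act (w ^ t) θ = (-1) ^ t • θ := fun t => by
      induction t with
      | zero => rw [pow_zero, pow_zero, one_smul, Kit.act_one']
      | succ t ih => rw [pow_succ', act_mul', ih, show X.act w (_ • θ) = _ from map_zsmul (aw w) _ _, show aw w θ = _ from e8, pow_succ]; simp
    have := congrArg (m.c · 0) ((hM θ h.mem).symm.trans (e9 _))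
    simp [Odd.neg_one_pow (Odd.pow (show Odd 3 by decide)), h.one] at this
  obtain ⟨r, e, k1, k2⟩ := m.cls (aw w) θ (is_aw w) h.one w1
  have k3 : ∀ i, e = 1 ∧ bk ((r ^ 3 ^ j) i) = bk i := fun i => by
    obtain ⟨β, a0, b0, c0⟩ := tv (bk i)
    have := (m.it k2 (3 ^ j) β).2 i
    rw [hM β a0, b0, c0, c0, if_pos rfl] at this
    rcases k1 with rfl | rfl
    · exact ⟨rfl, by_contra fun e => by simp [e] at this⟩
    · rw [Odd.neg_one_pow (Odd.pow (by decide))] at this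
      split_ifs at this <;> omega
  have k4 : ∀ β i, m.c (X.act w β) (r i) = m.c β i := fun β i => by
    have := (k2 β).2 i
    rw [(k3 i).1] at this
    change 2 * m.c (X.act w β) (r i) - _ = _ at this
    omega
  have k5 : ∀ i, bk (r (up (bk i))) = bk (r i) := fun i => by
    obtain ⟨β, a0, -, c0⟩ := tv (bk (r i))
    have := eb _ (h.am (inv_mem hw) a0) (up (bk i)) i (bk_up.1 _)
    rw [← k4, ← k4 _ i, act_act_inv, c0, c0, if_pos rfl] at this
    exact by_contra fun e => by simp [e] at this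
  have k6 : ∀ (t : ℕ) i, (fun b => bk (r (up b)))^[t] (bk i) = bk ((r ^ t) i) := fun t => by
    induction t with
    | zero => exact fun _ => rfl
    | succ t ih => exact fun i => by rw [Function.iterate_succ_apply', ih, k5, pow_succ', Equiv.Perm.mul_apply]
  have k7 : (fun b => bk (r (up b)))^[3 ^ j] = id := funext fun b => by rw [← bk_up.1 b, k6, (k3 _).2, id]
  obtain ⟨t, ht⟩ : ∃ t : ℕ, ∀ i, bk (r i) = bk i + Fin.ofNat 3 t := by
    rcases E6T.tau3 (fun b => bk (r (up b))) (Function.LeftInverse.injective (g := (fun b => bk (r (up b)))^[3 ^ j - 1]) fun b => by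
      rw [← Function.iterate_succ_apply, Nat.succ_eq_add_one, Nat.sub_add_cancel (Nat.one_le_pow _ _ (by decide)), k7, id]) with e | e | e
    · have : ∀ t : ℕ, (fun b => bk (r (up b)))^[3 ^ t] = fun b => bk (r (up b)) := fun t => by
        induction t with
        | zero => rfl
        | succ t ih => rw [pow_succ, Function.iterate_mul, ih, e]
      exact ⟨0, fun i => by rw [← k5]; exact (congrFun ((this j).symm.trans k7) _).trans (add_zero _).symm⟩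
    · exact ⟨1, fun i => (k5 i).symm.trans (e _)⟩
    · exact ⟨2, fun i => (k5 i).symm.trans (e _)⟩
  refine ⟨t, tv_of h.ss h.nf h.hd fun β hβ => m.inj _ _ fun i => ?_⟩
  obtain ⟨i, rfl⟩ := r.surjective i
  rw [act_mul', k4, ← gp t _ (h.am (inv_mem (pow_mem h.hg t)) hβ) i (r i) (ht i), act_act_inv]

theorem core (hA : A ≠ ε • 1) (h3 : (∃ i, i ≠ 0 ∧ Rl ε A m 0 i) → Rl ε A m 0 3) : CC X 3 d Q A Γ := by
  obtain ⟨σ, s1, s2⟩ := exists_σ h.nf h.eps
  have s3 : ∀ β, β ∈ LinearMap.ker (ei X ε A) ↔ σ β = β := fun β => by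
    rw [mem_ei, ← X.wt_injective.eq_iff, s2]
    exact ⟨fun e => by rw [e, smul_smul, h.ee, one_smul], fun e => by rw [← one_smul ℤ (X.wt β ᵥ* A), ← h.ee, mul_smul, e]⟩
  obtain ⟨r, e, k1, k2⟩ := m.cls σ θ s1 h.one ((s3 θ).1 h.mem)
  have k3 : ∀ β, β ∈ LinearMap.ker (ei X ε A) ↔ ∀ i, 2 * m.c β (r i) - m.s β = e * (2 * m.c β i - m.s β) := fun β =>
    (s3 β).trans ⟨fun e i => by simpa only [e] using (k2 β).2 i, fun e => m.inj _ _ fun i => by
      obtain ⟨i, rfl⟩ := r.surjective i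
      have := (k2 β).2 i
      rw [← e i] at this
      omega⟩
  rcases k1 with rfl | rfl
  swap
  · exact (h.outer (r := r) fun β => (k3 β).trans (forall_congr' fun i => by omega)).elim
  have k4 : ∀ β, β ∈ LinearMap.ker (ei X ε A) ↔ ∀ i, m.c β (r i) = m.c β i := fun β => (k3 β).trans (forall_congr' fun i => by omega)
  by_cases e : Rl ε A m 0 3
  · obtain ⟨q, hr⟩ := h.pairs k4 e
    exact h.cc s2 (fun β i => by have := (k2 β).2 i; rw [hr] at this; omega) (by simpa only [hr] using k4) q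
  refine absurd (Matrix.ext_of_mulVec_single fun i => sub_eq_zero.1 (h.ss _ fun a _ => ?_)) hA
  rw [dotProduct_sub, dotProduct_mulVec, mem_ei.1 ((k4 a).2 fun i => by
    rw [h.sing k4 (fun i hi => by_contra fun e' => e (h3 ⟨i, e', hi⟩)) i]), smul_mulVec, one_mulVec, smul_dotProduct, dotProduct_smul, sub_self]

end Se

/-- **a root in the fixed lattice** -/
theorem root (h1 : Pi1 X 1) (ss : ∀ v, Pp X {a | X.Rt a} v → v = 0) (hT : Ty X hpE6) (hN : Nf X A n)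
    (hd : (d = 1 ∧ ε = 1) ∨ (d = 2 ∧ ε = -1)) (L : Lt X 3 d Q A Γ) {a : X.I → ℤ} (ha : X.Rt a) (hM : a ∈ LinearMap.ker (ei X ε A)) :
    CA X 3 d A Γ ∨ CB X 3 d A Γ ∨ CC X 3 d Q A Γ := by
  by_cases hA : A = ε • 1
  · exact (E6S.split h1 ss hT L ε hd hA).imp_right Or.inl
  have hQ : 3 ∣ ε * Q - 1 := by
    rcases sign L.ord with e | ⟨ε', e, e'⟩
    · omega
    · rwa [show ε = ε' by omega]
  obtain ⟨Mx, X₀, ⟨K⟩⟩ := hT.kit
  have H : Ok X chevE6 6 1 := TE.ok6 (m := 6) ⟨h1, ss, Or.inl ⟨rfl, hT⟩⟩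
  refine or_iff_not_imp_left.2 fun hC => Or.inr ?_
  obtain ⟨g, hg, ⟨j, hj⟩, h0⟩ : ∃ g ∈ Γ, (∃ j : ℕ, g ^ 3 ^ j = 1) ∧ ¬ Tv X d A g := by
    by_contra e
    exact hC (ca_of Nat.prime_three fun g hg hj => by_contra fun h0 => e ⟨g, hg, hj, h0⟩)
  obtain ⟨w, hw, e⟩ := fix3 hN hd hQ L hg hj hM
  have e1 := root_eq K H ha (ha.act _) e
  have e2 : X.act g (X.act w⁻¹ a) = X.act w⁻¹ a := act_inj w (by rw [act_act_inv, ← act_mul', ← act_mul']; exact e1)
  obtain ⟨m, hm⟩ := exists_mo K H (ha.act w⁻¹)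
  obtain ⟨π, p1, p2⟩ := m.inner hm e2 hj
  obtain ⟨x, hx⟩ : ∃ x, ¬ Rl ε A m x (π x) := by
    by_contra e
    refine h0 (tv_of ss hN hd fun β hβ => m.inj _ _ fun i => ?_)
    obtain ⟨i, rfl⟩ := π.surjective i
    rw [(p2 β).2, not_not.1 (not_exists.1 e i) β hβ]
  have inv : ∀ {i j}, Rl ε A m i j → Rl ε A m (π i) (π j) := fun e β hβ => by
    rw [← act_act_inv g β, (p2 _).2, (p2 _).2, e _ (act_mem hN hd L (inv_mem hg) β hβ)]
  obtain ⟨y, y1, y2, y3, y4⟩ : ∃ y, y ≠ x ∧ y ≠ π x ∧ y ≠ π (π x) ∧ ((∃ i, i ≠ x ∧ Rl ε A m x i) → Rl ε A m x y) := by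
    by_cases e : ∃ i, i ≠ x ∧ Rl ε A m x i
    · obtain ⟨i, e1, e2⟩ := e
      exact ⟨i, e1, fun e => hx (e ▸ e2), fun e => hx (by have := (inv e2).symm; rwa [e, p1] at this), fun _ => e2⟩
    · obtain ⟨i, e1, e2, e3⟩ := ex_d x (π x) (π (π x))
      exact ⟨i, e1, e2, e3, fun h => absurd h e⟩
  obtain ⟨τ, rfl, rfl, t0, t1, t2, t3⟩ := nf3 π p1 (a := x) (fun e => hx (by rw [e]; exact fun _ _ => rfl)) y1 y2 y3
  have t : ∀ {i j}, π (τ i) = τ j → (τ⁻¹ * π * τ) i = j := fun e => by simp [e]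
  exact Se.core (g := g) (m := m.re τ) (π := τ⁻¹ * π * τ) ⟨ss, hN, hd, hQ, L, hg, ⟨j, hj⟩, fun k => hm _, act_mem hN hd L (inv_mem hw) _ hM,
    fun β => (p2 β).1, fun β i => by simpa [Mo.re_c] using (p2 β).2 (τ i), t t0, t t1, t t2,
    t3.imp (fun e => ⟨t e.1, t e.2.1, t e.2.2⟩) fun e => ⟨t e.1, t e.2.1, t e.2.2⟩, fun e => hx (t0 ▸ e)⟩ hA
    fun ⟨i, e1, e2⟩ => y4 ⟨τ i, τ.injective.ne e1, e2⟩

end Cfsg.Agent.BZ.K3.E6R
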