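import Cfsg.Agent.BZ.L.K3.Red
import Cfsg.Agent.RC.B.Kit
import Cfsg.Agent.KM.Ev.Q2S

/-!
# BZ / L / K3 : the lattice lemma for `E₈`, `l = 5`, `d = 4` (helper2)

An element of order five on the `Φ₄`-lattice makes it a module over the twentieth roots of unity, so the lattice is everything and
the element has no fixed vector; but one of its conjugates fixes a root.
-/

set_option autoImplicit false
set_option linter.unusedSectionVars false

namespace Cfsg.Agent.BZ.K3.F4x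

section pure

open Polynomial Module

theorem bez {f : ℤ[X]} (h0 : f ≠ 0) (h8 : f.natDegree < 8) :
    ∃ (c : ℤ) (a b : ℤ[X]), c ≠ 0 ∧ C c = a * cyclotomic 20 ℤ + b * f := by
  have hm := cyclotomic.monic 20 ℤ
  have : IsDomain (AdjoinRoot (cyclotomic 20 ℤ)) := AdjoinRoot.isDomain_of_prime (cyclotomic.irreducible (by decide)).prime
  have : Module.Finite ℤ (AdjoinRoot (cyclotomic 20 ℤ)) := hm.finite_adjoinRoot
  have h1 : AdjoinRoot.mk (cyclotomic 20 ℤ) f ≠ 0 :=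
    AdjoinRoot.mk_ne_zero_of_natDegree_lt hm h0 (by rw [natDegree_cyclotomic]; exact h8.trans_eq (by decide))
  obtain ⟨c, hc, s, hs⟩ := (Algebra.IsIntegral.isIntegral (R := ℤ) _).isAlgebraic.exists_nonzero_dvd
    (mem_nonZeroDivisors_of_ne_zero h1)
  obtain ⟨b, rfl⟩ := AdjoinRoot.mk_surjective s
  rw [← map_mul, AdjoinRoot.algebraMap_eq, ← AdjoinRoot.mk_C, AdjoinRoot.mk_eq_mk] at hs
  obtain ⟨a, ha⟩ := hs
  exact ⟨c, a, b, hc, by linear_combination ha⟩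

theorem phi20 : cyclotomic 20 ℤ * (X ^ 2 + 1) = X ^ 10 + 1 := by
  have h : cyclotomic 4 ℤ = X ^ 2 + 1 := by
    have := cyclotomic_prime_pow_eq_geom_sum (R := ℤ) (p := 2) (n := 1) Nat.prime_two
    simpa [Finset.sum_range_succ, add_comm] using this
  have h1 := cyclotomic_expand_eq_cyclotomic_mul (p := 5) (n := 4) Nat.prime_five (by decide) ℤ
  rw [h, map_add, map_pow, expand_X, map_one, ← pow_mul] at h1
  exact h1.symm

variable {M N : Type} [AddCommGroup M] [Module.Finite ℤ M] [IsTorsionFree ℤ M] [AddCommGroup N] [IsTorsionFree ℤ N]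

theorem zero_of {B : End ℤ M} {f : ℤ[X]} (h0 : f ≠ 0) (h8 : f.natDegree < 8) {v : M} (h1 : aeval B (cyclotomic 20 ℤ) v = 0)
    (h2 : aeval B f v = 0) : v = 0 := by
  obtain ⟨c, a, b, hc, h⟩ := bez h0 h8
  have h3 := congrArg (fun g => aeval B g v) h
  simp only [map_add, map_mul, LinearMap.add_apply, End.mul_apply, h1, h2, map_zero, add_zero, aeval_C, algebraMap_end_apply] at h3
  exact (smul_eq_zero.1 h3).resolve_left hc

theorem sat (f : M →ₗ[ℤ] N) (h : finrank ℤ M ≤ finrank ℤ (LinearMap.ker f)) : f = 0 := by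
  have h1 := (LinearMap.ker f).finrank_quotient_add_finrank
  rw [f.quotKerEquivRange.finrank_eq] at h1
  exact LinearMap.range_eq_bot.1 (Submodule.finrank_eq_zero.1 (by omega))

theorem eight {B : End ℤ M} {v : M} (h0 : v ≠ 0) (h1 : aeval B (cyclotomic 20 ℤ) v = 0) :
    8 ≤ finrank ℤ (LinearMap.ker (aeval B (cyclotomic 20 ℤ))) := by
  let φ : degreeLT ℤ 8 →ₗ[ℤ] LinearMap.ker (aeval B (cyclotomic 20 ℤ)) :=
    LinearMap.codRestrict _ (LinearMap.applyₗ v ∘ₗ (aeval B).toLinearMap ∘ₗ (degreeLT ℤ 8).subtype) fun f => by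
      show aeval B (cyclotomic 20 ℤ) (aeval B f.1 v) = 0
      rw [← End.mul_apply, ← map_mul, mul_comm, map_mul, End.mul_apply, h1, map_zero]
  have h2 : Function.Injective φ := (injective_iff_map_eq_zero φ).2 fun f hf => Subtype.ext (by
    by_contra e
    exact h0 (zero_of e ((natDegree_lt_iff_degree_lt e).2 (mem_degreeLT.1 f.2)) h1 (congrArg Subtype.val hf)))
  have h3 := LinearMap.finrank_le_finrank_of_injective h2
  rwa [(degreeLTEquiv ℤ 8).finrank_eq, finrank_fin_fun] at h3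

theorem main {a w : End ℤ M} (ha : a * a = -1) (hc : Commute a w) (h5 : w ^ 5 = 1) (h1 : w ≠ 1) (rk : finrank ℤ M ≤ 8) :
    8 ≤ finrank ℤ M ∧ ∀ y, w y = y → y = 0 := by
  have e2 : aeval (a * w) (X ^ 2 + 1 : ℤ[X]) = 1 - w ^ 2 := by
    rw [map_add, map_pow, aeval_X, map_one, hc.mul_pow, pow_two a, ha, neg_one_mul, neg_add_eq_sub]
  have e10 : aeval (a * w) (cyclotomic 20 ℤ) * (1 - w ^ 2) = 0 := by
    rw [← e2, ← map_mul, phi20, map_add, map_pow, aeval_X, map_one, hc.mul_pow, show 10 = 2 * 5 from rfl, pow_mul a, pow_two a, ha,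
      pow_mul' w, h5, one_pow, mul_one, Odd.neg_one_pow (by decide), neg_add_cancel]
  obtain ⟨u, hu⟩ : ∃ u, (1 - w ^ 2 : End ℤ M) u ≠ 0 := by
    by_contra e
    push Not at e
    have e1 : 1 = w ^ 2 := sub_eq_zero.1 (LinearMap.ext e)
    have e3 : w ^ (5 + 1) = 1 := by rw [show 5 + 1 = 2 * 3 from rfl, pow_mul, ← e1, one_pow]
    exact h1 (by rwa [pow_succ, h5, one_mul] at e3)
  have h8 := eight (B := a * w) hu (LinearMap.congr_fun e10 u)
  have h0 := sat _ (rk.trans h8)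
  refine ⟨h8.trans (Submodule.finrank_le _), fun y hy => zero_of (B := a * w) (f := X ^ 2 + 1) (X_pow_add_C_ne_zero (by decide) 1)
    ((natDegree_X_pow_add_C (n := 2) (r := (1 : ℤ))).trans_lt (by decide)) (by rw [h0]; rfl) ?_⟩
  rw [e2, LinearMap.sub_apply, pow_two, End.mul_apply, hy, hy, End.one_apply, sub_self]

end pure

open Cfsg Cfsg.Lie Subgroup Matrix Module Cfsg.Agent.KM Cfsg.Agent.BZ.L Cfsg.Agent.DL Cfsg.Agent.KM.Tor Cfsg.Agent.BZ.K3.Rd
  Cfsg.Agent.KZ.DatX Cfsg.Agent.Nodes.RGDChev Cfsg.Agent.KM.Ev.Q2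

variable {p : ℕ} [Fact p.Prime] {k : Type} [Field k] [CharP k p] {Y : Type} [Group Y] {N : Type} [Fintype N]
  [DecidableEq N] {ρ : Y →* GL N k} {F : MulAut Y} {G : Subgroup Y} [IsAlgClosed k] {X : Datum p ρ F G}
  {n : ℕ} {Q : ℤ} {A : Matrix X.R X.R ℤ} {Γ : Subgroup X.W}

/-- the lattice is everything and there is no fixed vector -/
theorem full (rk : finrank ℤ (X.R → ℤ) ≤ 8) (L : Lt X 5 4 Q A Γ) {g : X.W} (hg : g ∈ Γ) (h5 : Tv X 4 A (g ^ 5)) (h1 : ¬ Tv X 4 A g) :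
    (∀ y, A *ᵥ (A *ᵥ y) = -y) ∧ ∀ y, X.Wm g *ᵥ y = y → y = 0 := by
  let f : End ℤ (X.R → ℤ) := mulVecLin A * mulVecLin A + 1
  have hf : ∀ y, y ∈ LinearMap.ker f ↔ A *ᵥ (A *ᵥ y) = -y := fun y => add_eq_zero_iff_eq_neg
  have hA : ∀ y ∈ LinearMap.ker f, mulVecLin A y ∈ LinearMap.ker f := fun y hy =>
    (hf _).2 ((congrArg (A *ᵥ ·) ((hf y).1 hy)).trans (mulVec_neg _ _))
  have hW : ∀ y ∈ LinearMap.ker f, mulVecLin (X.Wm g) y ∈ LinearMap.ker f := fun y hy =>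
    (hf _).2 (ud_four.1 (L.st g hg y (ud_four.2 ((hf y).1 hy))).1)
  obtain ⟨h8, h0⟩ := main (a := (mulVecLin A).restrict hA) (w := (mulVecLin (X.Wm g)).restrict hW)
    (LinearMap.ext fun y => Subtype.ext ((hf _).1 y.2))
    (LinearMap.ext fun y => Subtype.ext (L.st g hg y (ud_four.2 ((hf y).1 y.2))).2)
    (LinearMap.ext fun y => Subtype.ext (by
      have e := h5 y (ud_four.2 ((hf y).1 y.2))
      simp only [pow_succ, pow_zero, one_mul, X.Wm_mul, ← mulVec_mulVec] at e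
      exact e))
    (fun e => h1 fun y hy => congrArg Subtype.val (LinearMap.congr_fun e ⟨y, (hf y).2 (ud_four.1 hy)⟩))
    ((Submodule.finrank_le _).trans rk)
  have h2 : ∀ y, y ∈ LinearMap.ker f := fun y => by rw [sat f (rk.trans h8)]; rfl
  exact ⟨fun y => (hf y).1 (h2 y), fun y hy => congrArg Subtype.val (h0 ⟨y, h2 y⟩ (Subtype.ext hy))⟩

theorem skew (sl : Tor.Sl X) (h : Nf X A n) (h2 : ∀ y, A *ᵥ (A *ᵥ y) = -y) {a b : X.I → ℤ} (ha : X.Rt a) (hb : X.Rt b) :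
    X.wt a ⬝ᵥ A *ᵥ X.cor b = -(X.wt b ⬝ᵥ A *ᵥ X.cor a) := by
  rw [← h.wt b hb, ← dotProduct_mulVec, h2, dotProduct_neg, neg_neg, h.cor b hb, sl _ _ ha (X.g_root _ hb)]

/-- two roots which agree on the `5`-part of the torus are equal -/
theorem eq_of_md (sl : Tor.Sl X) (h : Nf X A n) (h2 : ∀ y, A *ᵥ (A *ᵥ y) = -y) (hQ : 5 ∣ Q ^ 2 + 1) {a b : X.I → ℤ} (ha : X.Rt a)
    (hb : X.Rt b) (hm : Md 5 Q A (X.wt a - X.wt b)) : a = b := by
  obtain ⟨c, hc, x, hx⟩ := hm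
  have e1 := congrArg (· ⬝ᵥ (Q • A *ᵥ (X.cor a - X.cor b) + (X.cor a - X.cor b))) hx
  have e2 : (X.wt a - X.wt b) ⬝ᵥ A *ᵥ (X.cor a - X.cor b) = 0 := by
    have t1 := skew sl h h2 ha ha
    have t2 := skew sl h h2 ha hb
    have t3 := skew sl h h2 hb hb
    simp only [mulVec_sub, sub_dotProduct, dotProduct_sub]
    omega
  have e3 : (X.wt a - X.wt b) ⬝ᵥ (X.cor a - X.cor b) = 4 - 2 * (X.wt a ⬝ᵥ X.cor b) := by
    simp only [sub_dotProduct, dotProduct_sub, dot_self ha, dot_self hb, sl b a hb ha]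
    ring
  generalize X.cor a - X.cor b = z at e1 e2 e3
  rw [← dotProduct_mulVec, smul_dotProduct, dotProduct_add, dotProduct_smul, e2, e3, sub_mulVec, one_mulVec, smul_mulVec, mulVec_add,
    mulVec_smul, h2, show Q • (Q • -z + A *ᵥ z) - (Q • A *ᵥ z + z) = -((Q ^ 2 + 1) • z) by module, dotProduct_neg, dotProduct_smul,
    smul_zero, zero_add, smul_eq_mul, smul_eq_mul] at e1
  have e4 : (5 : ℤ) ∣ 4 - 2 * (X.wt a ⬝ᵥ X.cor b) :=
    ((Nat.prime_iff_prime_int.1 Nat.prime_five).dvd_or_dvd (e1 ▸ (hQ.mul_right _).neg_right)).resolve_left hc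
  by_contra e
  by_cases e' : a = -b
  · rw [e', map_neg, neg_dotProduct, dot_self hb] at e4
    omega
  · have := sl_bd sl hb ha e e'
    omega

theorem four_of (sl : Tor.Sl X) (rk : finrank ℤ (X.R → ℤ) ≤ 8) {β : X.I → ℤ} (hβ : X.Rt β) (h : Nf X A n) (L : Lt X 5 4 Q A Γ) :
    CA X 5 4 A Γ := by
  have hQ : 5 ∣ Q ^ 2 + 1 := by
    have e : ∀ x : ZMod 5, x ^ 4 = 1 → x ^ 2 ≠ 1 → x ^ 2 + 1 = 0 := by decide
    refine (ZMod.intCast_zmod_eq_zero_iff_dvd _ 5).1 ?_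
    push_cast
    exact e _ (L.ord ▸ pow_orderOf_eq_one _) (pow_ne_one_of_lt_orderOf (by decide) (by rw [L.ord]; decide))
  have key : ∀ g ∈ Γ, (∃ j, g ^ 5 ^ j = 1) → Tv X 4 A (g ^ 5) → Tv X 4 A g := fun g hg ⟨j, hj⟩ h5 => by
    by_contra h1
    obtain ⟨h2, h0⟩ := full rk L hg h5 h1
    obtain ⟨w, -, hw⟩ := conj_md Nat.prime_five L (inv_mem hg) (j := j) (by rw [inv_pow, hj, inv_one]) β fun a ha => by
      have e := ha.2 _ (ud_four.2 (h2 (X.cor a)))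
      rw [dot_self ha.1] at e
      omega
    rw [← X.wt_act', show (w⁻¹ * g⁻¹ * w)⁻¹ = w⁻¹ * g * w by group] at hw
    have e1 := congrArg (fun a => X.Wm w *ᵥ X.cor a) (eq_of_md sl h h2 hQ (hβ.act _) hβ hw)
    simp only [X.cor_act _ hβ] at e1
    rw [mulVec_mulVec, ← X.Wm_mul, show w * (w⁻¹ * g * w) = g * w by group, X.Wm_mul, ← mulVec_mulVec] at e1
    have e2 := dot_self (hβ.act w)
    rw [X.cor_act _ hβ, h0 _ e1, dotProduct_zero] at e2
    omega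
  have key' : ∀ (i : ℕ), ∀ g ∈ Γ, (∃ j, g ^ 5 ^ j = 1) → Tv X 4 A (g ^ 5 ^ i) → Tv X 4 A g := fun i => by
    induction i with
    | zero => exact fun g _ _ hg => by simpa using hg
    | succ i ih =>
      exact fun g hg ⟨j, hj⟩ h1 => key g hg ⟨j, hj⟩ (ih _ (pow_mem hg 5) ⟨j, by rw [← pow_mul, mul_comm, pow_mul, hj, one_pow]⟩
        (by rwa [← pow_mul, ← pow_succ']))
  exact ca_of Nat.prime_five fun g hg ⟨j, hj⟩ => key' j g hg ⟨j, hj⟩ fun y _ => by rw [hj, X.Wm_one, one_mulVec]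

/-- **`E₈`, `l = 5`, `d = 4`** -/
theorem lat_four (ss : ∀ v, Pp X {a | X.Rt a} v → v = 0) (ty : RC.B.Ty X hpE8) (h : Nf X A n) (L : Lt X 5 4 Q A Γ) :
    CA X 5 4 A Γ := by
  obtain ⟨Mx, X₀, ⟨K⟩⟩ := ty.kit
  refine four_of (fun a b ha hb => by rw [K.wt_cor a hb, K.wt_cor b ha, RC.B.co_comm RC.B.sl_E8]) ?_ (K.rt_sr 0) h L
  have h1 := LinearMap.finrank_le_finrank_of_injective (f := K.φ.toIntLinearMap)
    ((injective_iff_map_eq_zero K.φ).2 fun v hv => ss v fun a _ => by rw [K.dot, hv, dotProduct_zero])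
  rwa [finrank_fin_fun] at h1

end Cfsg.Agent.BZ.K3.F4x
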