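import Cfsg.Agent.BZ.L.K3.Defs2

/-!
# BZ / L / K3 : data which are not simply connected (helper33)

The datum of the triality group is adjoint.  `BoxGam3`, `Lat3`, `BoxF3` are `BoxGam`, `Lat` (without the case B), `BoxF` for a
fundamental group of exponent prime to `l`.
-/

set_option autoImplicit false
set_option linter.unusedSectionVars false

namespace Cfsg.Agent.BZ.K3

open Cfsg Cfsg.Lie Subgroup Matrix Cfsg.Agent.KM Cfsg.Agent.BZ.L Cfsg.Agent.DL Cfsg.Agent.KM.Tor Cfsg.Agent.KZ.DatX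
  Cfsg.Agent.Nodes.RGDChev
open Cfsg.Agent.TO.X.Cn (Pi1)

/-- [GAM] for all isogeny types -/
def BoxGam3 : Prop := Unif fun {_} _ _ _ _ {Y} _ _ _ _ _ {F} {G} _ X q d l r m _ _ _ =>
  ∀ (f : ℕ) (A : Matrix X.R X.R ℤ) (Z : Subgroup Y) (D S : Subgroup ↥(GF (F ^ m) G)), X.Mx = (q : ℤ) • A → l ≠ 2 → l.Coprime f →
    Pi1 X f → Z = Zc X {a | X.Rt a} → Ou l (Pt F G m l Z) D (Pt F G m r X.T) (Pt F G m l X.T) S →
    ∃ Γ, Gm X r m S Γ ∧ Lt X l d ((q : ℤ) ^ m) A Γ ∧ (CA X l d A Γ ∨ CC X l d ((q : ℤ) ^ m) A Γ → ⁅D, D⁆ ≤ Pt F G m l Z)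

theorem BoxGam3.gam (h : BoxGam3) : BoxGam := by
  intro p _ q d l n c hq
  refine (h p q d l n c hq).mono ?_
  intro m h r hr k _ _ Y _ N _ _ ρ F G _ X hX _ n' N' α M hF hM A Z D S h1 h2 h3 h4 h5
  exact h r hr X hX n' N' α M hF hM 1 A Z D S h1 h2 (Nat.coprime_one_right l) h3 h4 h5

/-- the lattice lemma without the case B -/
def Lat3 {C : ChevalleyDatum} {n₀ : ℕ} {M₀ : CoxeterMatrix (Fin n₀)} (hp : IsType C n₀ M₀) (l : ℕ) : Prop :=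
  AllD fun {_} _ _ _ _ _ _ _ _ _ _ _ _ _ X => ∀ (q n c d f : ℕ) (Q : ℤ) (A : Matrix X.R X.R ℤ) (Γ : Subgroup X.W), l.Coprime f →
    Pi1 X f → (∀ v, Pp X {a | X.Rt a} v → v = 0) → Ty2 X hp → 0 < q → Cs X q n c → X.Mx = (q : ℤ) • A → Lt X l d Q A Γ →
    CA X l d A Γ ∨ CC X l d Q A Γ

theorem Lat3.lat2 {C : ChevalleyDatum} {n₀ : ℕ} {M₀ : CoxeterMatrix (Fin n₀)} {hp : IsType C n₀ M₀} {l : ℕ} (h : Lat3 hp l) :
    Lat2 hp l := fun X q n c d Q A Γ h1 h2 h3 h4 h5 h6 h7 =>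
  (h X q n c d 1 Q A Γ (Nat.coprime_one_right l) h1 h2 h3 h4 h5 h6 h7).imp_right Or.inr

/-- the target -/
def BoxF3 {C : ChevalleyDatum} {n₀ : ℕ} {M₀ : CoxeterMatrix (Fin n₀)} (hp : IsType C n₀ M₀) (l : ℕ) : Prop :=
  AllD fun {p} _ _ _ _ _ _ _ _ _ _ {F} {G} _ X => ∀ (q n c f : ℕ) (M : Ideal AlgInt), l ≠ p → (∃ f, 0 < f ∧ q = p ^ f) → Cs X q n c →
    l.Coprime f → Pi1 X f → (∀ v, Pp X {a | X.Rt a} v → v = 0) → Ty2 X hp → IsPModular l M → BZr l M ↥(GF (F ^ 1) G) (Zl X 1 l)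

/-- the targets -/
structure AllF3 : Prop where
  g2 : BoxF2 hpG2 3
  d4 : BoxF3 hpD4 3
  f4 : BoxF2 hpF4 3
  e6 : BoxF hpE6 3
  e7 : BoxF hpE7 3
  e8 : BoxF hpE8 3
  e85 : BoxF hpE8 5

end Cfsg.Agent.BZ.K3
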