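import Cfsg.Agent.BZ.L.K3.Defs3
import Cfsg.Agent.BZ.L.Bzr
import Cfsg.Agent.BZ.X.Main
import Cfsg.Agent.BZ.X.RB1
import Cfsg.Agent.KM.Sc.E3
import Cfsg.Agent.KM.Sc.Lat
import Cfsg.Agent.RC.B.Ty

/-!
# BZ / L / K3 : the rows at the bad primes three and five (helper33)

`Rw.cs_gen`, `Rw.row_one`, `Rw.row_sc`; `Bad3`, `rows_of`.
-/

set_option autoImplicit false
set_option linter.unusedSectionVars false
set_option maxHeartbeats 400000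

namespace Cfsg.Agent.BZ.K3

open Cfsg Cfsg.Lie Subgroup Matrix Cfsg.Agent.KM Cfsg.Agent.BZ.L Cfsg.Agent.DL Cfsg.Agent.KM.Tor Cfsg.Agent.KZ.DatX
  Cfsg.Agent.Nodes.RGDChev Cfsg.Agent.KM.Sc Cfsg.Agent.Tits.Roots
open Cfsg.Agent.TO.X.Cn (Pi1)

namespace Rw

section Dat

variable {p : ℕ} [hp : Fact p.Prime] {k : Type} [Field k] [CharP k p] {Y : Type} [Group Y] {N : Type} [Fintype N]
  [DecidableEq N] {ρ : Y →* GL N k} {F : MulAut Y} {G : Subgroup Y} [IsAlgClosed k] (X : Datum p ρ F G)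

/-- the roots are primitive -/
theorem prim {a b : X.I → ℤ} (ha : X.Rt a) {s t : ℤ} (h : s • X.wt a = t • X.wt b) : t ∣ s := by
  have h2 := X.wt_injective ((map_zsmul _ _ _).trans (h.trans (map_zsmul _ _ _).symm))
  obtain ⟨u, i, h4⟩ := ha
  have h6 := congrFun (congrArg (ChevalleyStructure.CoxeterGeom.rep X.cs X.h u⁻¹) h2) i
  rw [map_smul, map_smul, Pi.smul_apply, Pi.smul_apply, smul_eq_mul, smul_eq_mul,
    show ChevalleyStructure.CoxeterGeom.rep X.cs X.h u⁻¹ a = _ by rw [h4, rep_inv_apply], sr_self, mul_one] at h6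
  exact ⟨_, h6⟩

/-- the class of a datum -/
theorem cs_gen {f o : ℕ} {B : Matrix X.R X.R ℤ} (hB : X.Mx = ((p ^ f : ℕ) : ℤ) • B) (ho : 0 < o) (h1 : B ^ o = 1)
    (hr : ∀ a, ∃ b, X.wt a ᵥ* B = X.wt b) : ∃ n c, Cs X (p ^ f) n c := by
  have hr' : ∀ (j : ℕ) a, ∃ b, X.wt a ᵥ* B ^ j = X.wt b := fun j a => by
    induction j with
    | zero => exact ⟨a, by rw [pow_zero, vecMul_one]⟩
    | succ j ih =>
      obtain ⟨b, hb⟩ := ih
      rw [pow_succ, ← vecMul_vecMul, hb]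
      exact hr b
  have hex : ∀ a, X.Rt a → p ^ X.ex a = p ^ f := fun a ha => by
    have e := X.wt_g ha
    rw [hB, vecMul_smul, ← Nat.cast_pow] at e
    refine Nat.dvd_antisymm (Int.natCast_dvd_natCast.1 ?_) (Int.natCast_dvd_natCast.1 ?_)
    · obtain ⟨b, hb⟩ := hr' (o - 1) a
      have e1 := congrArg (· ᵥ* B ^ (o - 1)) e
      simp only [smul_vecMul, vecMul_vecMul, ← pow_succ', Nat.sub_add_cancel ho, h1, vecMul_one, hb] at e1
      exact prim X (X.g_root a ha) e1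
    · obtain ⟨b, hb⟩ := hr (X.g a)
      rw [hb] at e
      exact prim X ha e.symm
  obtain ⟨d, e, L⟩ := PP.exists_lvl X
  have h0 : (p : ℤ) ≠ 0 := Nat.cast_ne_zero.2 hp.out.ne_zero
  have h3 : ∀ w, (p : ℤ) ^ (f * d) • (X.Wm w * B) ^ d = (p : ℤ) ^ e • (1 : Matrix X.R X.R ℤ) := fun w => by
    have := L.pow w
    rwa [hB, mul_smul_comm, _root_.smul_pow, Nat.cast_pow, ← pow_mul] at this
  have h4 : (p : ℤ) ^ (f * d * o) • (1 : Matrix X.R X.R ℤ) = (p : ℤ) ^ (e * o) • 1 := by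
    have := congrArg (· ^ o) (h3 1)
    simpa only [X.Wm_one, one_mul, _root_.smul_pow, ← pow_mul, mul_comm d o, pow_mul B, h1, one_pow, mul_assoc] using this
  refine ⟨d * o, Nat.card X.W + {a | X.Rt a}.ncard + Fintype.card X.R, .of_mat (mul_pos L.d_pos ho) (fun w => ⟨X.Wm w * B, ?_, ?_⟩)
    hex (by omega) (by omega) (by omega)⟩
  · rw [hB, mul_smul_comm]
  · refine smul_right_injective _ (pow_ne_zero (f * d * o) h0) ?_
    have := congrArg (· ^ o) (h3 w)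
    simp only [_root_.smul_pow, ← pow_mul, one_pow] at this
    exact this.trans h4.symm

theorem Wm_pow (w : X.W) (a : ℕ) : X.Wm w ^ a = X.Wm (w ^ a) := by
  induction a with
  | zero => rw [pow_zero, pow_zero, X.Wm_one]
  | succ a ih => rw [pow_succ, pow_succ, X.Wm_mul, ih]

/-- `F` is `± q` times an element of the Weyl group -/
theorem cs_w {f : ℕ} {ε : ℤ} (hε : ε ^ 2 = 1) {w : X.W} (hB : X.Mx = ((p ^ f : ℕ) : ℤ) • ε • X.Wm w) : ∃ n c, Cs X (p ^ f) n c :=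
  cs_gen X (o := 2 * Nat.card X.W) hB (Nat.mul_pos two_pos Nat.card_pos) (by
    rw [_root_.smul_pow, pow_mul, hε, one_pow, one_smul, Wm_pow, mul_comm, pow_mul, pow_card_eq_one', one_pow, X.Wm_one])
    fun a => ⟨ε • X.act w⁻¹ a, by rw [vecMul_smul, map_zsmul, X.wt_act']⟩

variable {l : ℕ} [hl : Fact l.Prime] {S : Type} [Group S]

/-- a row when there are no covers -/
theorem row_one [IsSimpleGroup S] (hS : ¬ IsMulCommutative S) (e : S ≃* GF F G) (hZ : TO.X.ZD 1 S)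
    (h : ∀ M, IsPModular l M → BZr l M ↥(GF (F ^ 1) G) (Zl X 1 l)) : RowP l S := fun K _ _ σ M B D H => by
  have := (X.pow one_pos).amb.finite_GF G
  have h2 : center K = ⊥ := card_eq_one.1 (Nat.dvd_one.1 (hZ K σ H.qs.1.commutator_eq_top H.surj H.ker H.cyc))
  have e1 : GF (F ^ 1) G ≃* S := (MulEquiv.subgroupCongr (Bz.gf_one F G)).trans e.symm
  have e2 := e1.trans (MulEquiv.ofBijective σ ⟨(MonoidHom.ker_eq_bot_iff σ).1 (H.ker.trans h2), H.surj⟩).symm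
  have h3 : center S = ⊥ := (IsSimpleGroup.eq_bot_or_eq_top_of_normal _ inferInstance).resolve_right fun h4 =>
    hS ⟨⟨fun a b => mem_center_iff.1 (h4.ge (mem_top b)) a⟩⟩
  have h4 : Zl X 1 l = ⊥ := eq_bot_iff.2 fun z hz => mem_bot.2 (e1.injective ((mem_bot.1 (h3.le (mem_center_iff.2 fun g => by
    obtain ⟨g, rfl⟩ := e1.surjective g
    rw [← map_mul, ← map_mul, mem_center_iff.1 (Bz.pt_cen le_rfl 1 l hz) g]))).trans (map_one e1).symm))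
  have h5 : e2.toMonoidHom.ker = ⊥ := (MonoidHom.ker_eq_bot_iff _).2 e2.injective
  exact Cl.Hyp.not_of_bx (X := XP) H (boxDom e2.toMonoidHom ⊥ H.hM e2.surjective (h5 ▸ bot_le) bot_le IsPGroup.of_bot
    (by rw [h5, relIndex_self]; exact hl.out.not_dvd_one) (h4 ▸ h M H.hM))

end Dat

variable {C : ChevalleyDatum} {n : ℕ} {M₀ : CoxeterMatrix (Fin n)} {hp : IsType C n M₀} {r : ℕ} [Fact r.Prime] {e : ℕ}
  {l : ℕ} [hl : Fact l.Prime] {S : Type} [Group S]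

theorem ss_X {k : Type} [Field k] [CharP k r] [IsAlgClosed k] {Mx : Matrix (Fin n) (Fin n) ℤ} (X : XF hp r k Mx) :
    ∀ v, Pp X.D {a | X.D.Rt a} v → v = 0 := fun v hv => funext fun i =>
  (Ex.sr_dot i v).symm.trans (hv (sr i) (isRoot_sr _ _ i))

theorem cs_X {k : Type} [Field k] [CharP k r] [IsAlgClosed k] {B : Matrix (Fin n) (Fin n) ℤ} (X : XF hp r k ((r : ℤ) ^ e • B))
    {o : ℕ} (ho : 0 < o) (h1 : B ^ o = 1) : ∃ n c, Cs X.D (r ^ e) n c :=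
  cs_gen X.D (B := B) (by rw [Nat.cast_pow]; rfl) ho h1 fun a => ⟨a ᵥ* B, rfl⟩

/-- the adjoint frames -/
theorem row_ad [IsSimpleGroup S] (hS : ¬ IsMulCommutative S) {B : Matrix (Fin n) (Fin n) ℤ}
    (h : Nt.HasNT hp r ((r : ℤ) ^ e • B) 1 S) {o : ℕ} (ho : 0 < o) (h1 : B ^ o = 1) (hZ : TO.X.ZD 1 S)
    (hF : ∀ (k : Type) [Field k] [CharP k r] [IsAlgClosed k] (X : XF hp r k ((r : ℤ) ^ e • B)) (n c : ℕ) (M : Ideal AlgInt),
      Cs X.D (r ^ e) n c → IsPModular l M → BZr l M ↥(GF (X.F ^ 1) ⊤) (Zl X.D 1 l)) : RowP l S := by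
  obtain ⟨k, _, _, _, X, -, ⟨s⟩⟩ := h
  obtain ⟨n, c, hX⟩ := cs_X X ho h1
  exact row_one X.D hS s.ov.equiv hZ fun M hM => hF k X n c M hX hM

theorem mat_ext {R S : Type} [Fintype S] [DecidableEq S] {A B : Matrix R S ℤ} (h : ∀ v, A *ᵥ v = B *ᵥ v) : A = B :=
  Matrix.ext fun i j => by simpa using congrFun (h (Pi.single j 1)) i

/-- the simply connected frames -/
theorem row_sc (hF : BoxF hp l) (hs : SL C n) {B : Matrix (Fin n) (Fin n) ℤ} {Adm : Matrix (Fin n) (Fin n) ℤ → Prop} {z d : ℕ}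
    (he : 0 < e) (h : HasSc hp r ((r : ℤ) ^ e • B) Adm z d S) (hr : l ≠ r) {ε : ℤ} (hε : ε ^ 2 = 1)
    (hB : ∀ (k : Type) [Field k] [CharP k r] [IsAlgClosed k] (X : XF hp r k ((r : ℤ) ^ e • B)), ∃ w, B = ε • X.D.Wm w)
    {A : Type} [CommGroup A] (hA : HasSchurMultiplier S A) (hd : ¬ r ∣ Nat.card A) : RowP l S := by
  obtain ⟨k, _, _, _, X, t, -, Y, _, N, _, _, ρ, F, X', θ, s, ⟨I⟩, -, -⟩ := h
  obtain ⟨w, hw⟩ := hB k X
  obtain ⟨m, hm, -⟩ := X.D.exists_rp w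
  obtain ⟨y, hy, rfl⟩ := I.surj m (X.D.NN_le_G ⟨w, hm⟩)
  obtain ⟨w', h⟩ := I.mem_NN hy ⟨w, hm⟩
  obtain ⟨n', c, hX⟩ := cs_w X' (f := e) hε (w := w') (mat_ext fun v => I.P_inj (by
    rw [← I.Mx_P, smul_mulVec, smul_mulVec, mulVec_smul, mulVec_smul, ← I.Wm_P h hm, ← smul_mulVec, ← hw, Nat.cast_pow]
    exact smul_mulVec _ _ _))
  obtain ⟨h1, h2⟩ := (RC.B.boxTy hp X hs).2 X' θ z I
  exact boxScz X' S s l hr (fun M hM => hF X' _ n' c M hr ⟨e, he, rfl⟩ hX s.pi1 h2 h1 hM) A hA fun n k1 k2 =>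
    absurd ((k1.trans k2).trans Group.exponent_dvd_nat_card) hd

end Rw

open Rw

/-- the rows at the bad odd primes -/
structure Bad3 : Prop where
  g2 : For RowP fun l S _ => l = 3 ∧ CG2 l S
  f4 : For RowP fun l S _ => l = 3 ∧ CF4 l S
  e6 : For RowP fun l S _ => l = 3 ∧ CE6 l S
  e7 : For RowP fun l S _ => l = 3 ∧ CE7 l S
  e8 : For RowP fun l S _ => l = 3 ∧ CE8 l S
  te6 : For RowP fun l S _ => l = 3 ∧ CTe6 l S
  td4 : For RowP fun l S _ => l = 3 ∧ CTd4 l S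
  e85 : For RowP fun l S _ => l = 5 ∧ CE8 l S

theorem row_g2 (h : BoxF2 hpG2 3) : For RowP fun l S _ => l = 3 ∧ CG2 l S := by
  rintro l _ S _ _ _ hS ⟨rfl, hC⟩
  obtain ⟨r, e, _, hr, he, -, h1⟩ := Nt.row_G2 hC
  obtain ⟨F, _, _, h2, h5, ⟨i⟩⟩ := hC
  obtain h7 | h7 | h7 : Fintype.card F = 3 ∨ Fintype.card F = 4 ∨ 5 ≤ Fintype.card F := by omega
  · exact absurd (h7 ▸ FiniteField.cast_card_eq_zero F) h2
  · exact RowP.of_equiv i (X.row_g24_of F h7 (X.rb_g24 F h7))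
  · exact row_ad hS h1 one_pos (one_pow 1) ((TO.X.zd_G2 h7).congr i) fun k _ _ _ X n c M hX hM =>
      h X.D _ n c M hr ⟨e, he, rfl⟩ hX (TO.X.Cn.pi1 X TO.X.Cn.pm_G2) (ss_X X) (ty2_self X) hM

theorem row_f4 (h : BoxF2 hpF4 3) (h42 : ∀ (F : Type) [Field F] [Fintype F], Fintype.card F = 2 → RowP 3 ↥(chevF4.group F)) :
    For RowP fun l S _ => l = 3 ∧ CF4 l S := by
  rintro l _ S _ _ _ hS ⟨rfl, hC⟩
  obtain ⟨r, e, _, hr, he, h1⟩ := Nt.row_F4 hC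
  obtain ⟨F, _, _, -, ⟨i⟩⟩ := hC
  by_cases h7 : Fintype.card F = 2
  · exact RowP.of_equiv i (h42 F h7)
  · exact row_ad hS h1 one_pos (one_pow 1) ((TO.X.zd_F4 h7).congr i) fun k _ _ _ X n c M hX hM =>
      h X.D _ n c M hr ⟨e, he, rfl⟩ hX (TO.X.Cn.pi1 X TO.X.Cn.pm_F4) (ss_X X) (ty2_self X) hM

theorem row_e8 {a : ℕ} (h : BoxF hpE8 a) : For RowP fun l S _ => l = a ∧ CE8 l S := by
  rintro l _ S _ _ _ hS ⟨rfl, hC⟩
  obtain ⟨r, e, _, hr, he, h1⟩ := Nt.row_E8 hC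
  obtain ⟨F, _, _, -, ⟨i⟩⟩ := hC
  exact row_ad hS h1 one_pos (one_pow 1) (TO.X.zd_E8.congr i) fun k _ _ _ X n c M hX hM =>
    h X.D _ n c M hr ⟨e, he, rfl⟩ hX (TO.X.Cn.pi1 X TO.X.Cn.pm_E8) (ss_X X) (RC.B.boxTy hpE8 X RC.B.sl_E8).1.1 hM

theorem row_td4 (h : BoxF3 hpD4 3) : For RowP fun l S _ => l = 3 ∧ CTd4 l S := by
  rintro l _ S _ _ _ hS ⟨rfl, hC⟩
  obtain ⟨r, e, _, hr, he, h1⟩ := Nt.row_3D4 hC
  obtain ⟨F, _, _, q, -, hq, hF, ⟨i⟩⟩ := hC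
  exact row_ad hS h1 three_pos Nt.P4_cube ((TO.X.zd_3D4 hq hF).congr i) fun k _ _ _ X n c M hX hM =>
    h X.D _ n c 2 M hr ⟨e, he, rfl⟩ hX (by decide) (TO.X.Cn.pi1 X TO.X.Cn.pm_D4) (ss_X X) (ty2_self X) hM

theorem row_e6 (h : BoxF hpE6 3) : For RowP fun l S _ => l = 3 ∧ CE6 l S := by
  rintro l _ S _ _ _ _ ⟨rfl, F, _, _, h1, ⟨i⟩⟩
  obtain ⟨r, e, _, _, hr, he, hF⟩ := Nt.exists_char F h1
  exact RowP.of_equiv i (row_sc h RC.B.sl_E6 he (sc_E6 hF) hr (one_pow 2) (fun k _ _ _ X => ⟨1, by rw [X.D.Wm_one, one_smul]; rfl⟩)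
    (S2105.result hF) (not_dvd_sub Fact.out he 3))

theorem row_e7 (h : BoxF hpE7 3) : For RowP fun l S _ => l = 3 ∧ CE7 l S := by
  rintro l _ S _ _ _ _ ⟨rfl, F, _, _, h1, ⟨i⟩⟩
  obtain ⟨r, e, _, _, hr, he, hF⟩ := Nt.exists_char F h1
  exact RowP.of_equiv i (row_sc h RC.B.sl_E7 he (sc_E7 hF) hr (one_pow 2) (fun k _ _ _ X => ⟨1, by rw [X.D.Wm_one, one_smul]; rfl⟩)
    (S2106.result hF) (not_dvd_sub Fact.out he 2))

theorem row_te6 (h : BoxF hpE6 3) : For RowP fun l S _ => l = 3 ∧ CTe6 l S := by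
  rintro l _ S _ _ _ _ ⟨rfl, F, _, _, q, h1, hq, hF, ⟨i⟩⟩
  by_cases h2 : q = 2
  · subst h2
    exact RowP.of_equiv i (X.row_e62 F hF)
  obtain ⟨r, e, _, _, hr, he, rfl⟩ := Nt.exists_char' F h1 hq two_ne_zero hF
  refine RowP.of_equiv i (row_sc h RC.B.sl_E6 he (sc_2E6 hF) hr (ε := -1) (by norm_num) (fun k _ _ _ X => ?_)
    (S2108.result hq hF h2) (not_dvd_add Fact.out he 3))
  obtain ⟨w, hw⟩ := X.exists_neg_E6
  exact ⟨w, by rw [hw]; exact ((neg_one_smul ℤ (-P6)).trans (neg_neg _)).symm⟩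

/-- **the rows** -/
theorem rows_of (h : AllF3) (h42 : ∀ (F : Type) [Field F] [Fintype F], Fintype.card F = 2 → RowP 3 ↥(chevF4.group F)) : Bad3 :=
  ⟨row_g2 h.g2, row_f4 h.f4 h42, row_e6 h.e6, row_e7 h.e7, row_e8 h.e8, row_te6 h.e6, row_td4 h.d4, row_e8 h.e85⟩

end Cfsg.Agent.BZ.K3
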