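import Cfsg.Agent.BZ.L.K3.E6N
import Cfsg.Agent.BZ.L.K3.E6R

/-!
# BZ / L / K3 : the lattice lemma for `E₆` (helper68)
-/

set_option autoImplicit false

namespace Cfsg.Agent.BZ.K3.E6F

open Cfsg Cfsg.Agent.KM.Tor Cfsg.Agent.KZ.DatX Cfsg.Agent.BZ.K3.Rd Cfsg.Agent.BZ.K3.LS

theorem lat_e6 : Lat hpE6 3 := by
  intro _ _ _ _ _ _ _ _ _ _ _ _ _ _ X q n c d Q A Γ h1 ss hT hq hC hA L
  refine (sign L.ord).elim (fun e => Or.inl (e ▸ ca_zero)) fun ⟨ε, hd, hQ⟩ => ?_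
  by_cases e : ∃ a, X.Rt a ∧ a ∈ LinearMap.ker (ei X ε A)
  · exact e.elim fun _ h => E6R.root h1 ss hT (nf hq hC hA) hd L h.1 h.2
  · exact (E6N.noroot ss hT (nf hq hC hA) hd hQ L fun a ha k => e ⟨a, ha, k⟩).imp_right Or.inr

end Cfsg.Agent.BZ.K3.E6F
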