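import Cfsg.Agent.BZ.L.K3.RhoD
import Cfsg.Agent.BZ.Lab.Main
import Cfsg.Agent.BZ.Lab.Def
import Cfsg.Agent.S0189
import Cfsg.Agent.S0887

/-!
# BZ / L / K3 : the descent of the character to the normal subgroup (helper42)
-/

set_option autoImplicit false
set_option linter.unusedSectionVars false
set_option linter.style.haveILetI false

namespace Cfsg.Agent.BZ.K3

open Cfsg Subgroup Cfsg.Agent.HZ.Gen Cfsg.Agent.BZ.Lab Cfsg.Agent.Characters.Core Cfsg.Agent.Blocks Cfsg.Agent.Blocks.Basic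
open scoped ComplexConjugate

namespace Rp

variable {A L : Type} [Group A] [Fintype A] [Group L] [Fintype L] {j : A →* L}

/-- the restriction to a supplement of the centre is irreducible -/
theorem irr_cen (h : ∀ y, ∃ a, ∃ z ∈ center L, y = j a * z) {θ : L → ℂ} (hθ : IsIrrCharacter L θ) : IsIrrCharacter A (θ ∘ j) := by
  letI := Fintype.ofFinite (center L)
  obtain ⟨ω, hω⟩ := exists_omega hθ (center L).subtype fun z => z.2
  have h1 : ∀ z, (ω z : ℂ) * conj (ω z : ℂ) = 1 := fun z =>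
    inner_shift (hω z) (hω z) (by rw [classInner_irr_self hθ]; exact one_ne_zero)
  have h2 := classInner_irr_self (isIrr_comp ((center L).subtype.noncommCoprod j fun z a => (mem_center_iff.1 z.2 _).symm)
    (fun y => by
      obtain ⟨a, z, hz, rfl⟩ := h y
      exact ⟨(⟨z, hz⟩, a), (mem_center_iff.1 hz _).symm⟩) hθ)
  refine isIrr_of_classInner_self (isCharacter_comp j (isIrr_isCharacter hθ)) (Eq.trans ?_ h2)
  rw [Basic.classInner_def, Basic.classInner_def, Fintype.sum_prod_type, Nat.card_prod, Nat.cast_mul, mul_inv_rev, mul_assoc]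
  refine congrArg (fun x => (Nat.card A : ℂ)⁻¹ * x) ((eq_inv_mul_iff_mul_eq₀ (card_ne_zero_complex (G := center L))).2 ?_)
  rw [Nat.card_eq_fintype_card, ← nsmul_eq_mul, ← Finset.card_univ, ← Finset.sum_const]
  refine Finset.sum_congr rfl fun z _ => Finset.sum_congr rfl fun a _ => ?_
  change θ (j a) * conj (θ (j a)) = θ ((center L).subtype z * j a) * conj (θ ((center L).subtype z * j a))
  rw [hω, map_mul, mul_mul_mul_comm, h1, one_mul]

/-- central characters -/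
theorem cen_iff (hj : Function.Injective j) {χ : IrrCharacter L} {ψ : IrrCharacter A} (h0 : classInner ((χ : L → ℂ) ∘ j) ψ ≠ 0)
    {z : A} (hz : j z ∈ center L) : (ψ : A → ℂ) z = (ψ : A → ℂ) 1 ↔ (χ : L → ℂ) (j z) = (χ : L → ℂ) 1 := by
  have hz' : z ∈ center A := mem_center_iff.2 fun y => hj (by rw [map_mul, map_mul, mem_center_iff.1 hz])
  obtain ⟨ω, hω⟩ := exists_omega χ.2 (center L).subtype fun z => z.2
  obtain ⟨ω', hω'⟩ := exists_omega ψ.2 (center A).subtype fun z => z.2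
  have h1 := hω ⟨_, hz⟩ 1
  have h2 := hω' ⟨_, hz'⟩ 1
  rw [mul_one] at h1 h2
  have h4 := inner_shift (z := z) (fun y => by
    rw [Function.comp_apply, map_mul]
    exact hω ⟨_, hz⟩ _) (hω' ⟨_, hz'⟩) h0
  have h5 := inner_shift (hω' ⟨_, hz'⟩) (hω' ⟨_, hz'⟩) (by rw [classInner_irr_self ψ.2]; exact one_ne_zero)
  rw [show (χ : L → ℂ) (j z) = _ from h1, show (ψ : A → ℂ) z = _ from h2, mul_eq_right₀ (isIrr_apply_one_ne_zero χ.2),
    mul_eq_right₀ (isIrr_apply_one_ne_zero ψ.2), mul_right_cancel₀ (right_ne_zero_of_mul_eq_one h4) (h4.trans h5.symm)]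

/-- the principal block covers only the principal block -/
theorem mem_pr {l : ℕ} {M : Ideal AlgInt} (hM : IsPModular l M) (hj : Function.Injective j) (hn : j.range.Normal) {χ : IrrCharacter L}
    (hχ : χ ∈ principalBlock M L) {ψ : IrrCharacter A} (h0 : TID.Red.Ov j (χ : L → ℂ) (ψ : A → ℂ)) : ψ ∈ principalBlock M A := by
  have : Fact l.Prime := ⟨hM.1⟩
  have := Local.isPrime_of_isPModular hM
  obtain ⟨w, θ, h1, h2⟩ := Df.conj_of_covH hM hj hn (B := principalBlock M L) ⟨⟨_, isIrr_one⟩, rfl⟩ (b := principalBlock M A)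
    ⟨⟨_, isIrr_one⟩, rfl⟩ ⟨⟨_, isIrr_one⟩, sameBlock_refl _, ⟨_, isIrr_one⟩, sameBlock_refl _, (TID.Red.ov_iff _ _ _).2
      ((classInner_irr_self (isIrr_one (G := A))).trans_ne one_ne_zero)⟩ hχ h0
  obtain ⟨c, hc⟩ := Df.exists_cj hj (x := w) (normalizer_eq_top j.range ▸ mem_top w)
  have h3 := sameBlock_aut c h1
  rwa [show (θ : A → ℂ) ∘ c = ψ from funext fun y => (h2 y _ (hc y)).symm] at h3

end Rp

open Rp in
/-- **[RHO-P]** -/
theorem boxRhP : BoxRhP := by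
  intro l r M Γ H _ _ _ φ Z χ hM hr hne hφ hn hZ hq hχ hv
  have : Fact l.Prime := ⟨hM.1⟩
  have : Fact r.Prime := ⟨hr⟩
  have := Finite.of_injective φ hφ
  letI := Fintype.ofFinite Γ
  letI := Fintype.ofFinite H
  letI := Fintype.ofFinite ↥(φ.range ⊔ Z)
  haveI : Z.Normal := ⟨fun a ha g => by rwa [mem_center_iff.1 (hZ ha) g, mul_inv_cancel_right]⟩
  obtain ⟨θ, h1⟩ := TID.Red.exists_ov (φ.range ⊔ Z).subtype χ.2
  let j : H →* ↥(φ.range ⊔ Z) := φ.codRestrict _ fun h => mem_sup_left ⟨h, rfl⟩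
  have h2 : IsIrrCharacter H ((θ : ↥(φ.range ⊔ Z) → ℂ) ∘ j) := irr_cen (fun y => by
    obtain ⟨_, ⟨a, rfl⟩, z, hz, e⟩ := mem_sup_of_normal_right.1 y.2
    exact ⟨a, ⟨z, mem_sup_right hz⟩, mem_center_iff.2 fun g => Subtype.ext (mem_center_iff.1 (hZ hz) g), Subtype.ext e.symm⟩) θ.2
  have h3 : TID.Red.Ov φ (χ : Γ → ℂ) ((θ : ↥(φ.range ⊔ Z) → ℂ) ∘ j) := TID.Red.Ov.trans (ι₁ := j) (fun _ => rfl)
    (isIrr_isCharacter χ.2) θ.2 h2 h1 ((TID.Red.ov_iff _ _ _).2 ((classInner_irr_self h2).trans_ne one_ne_zero))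
  refine ⟨⟨_, h2⟩, mem_pr hM hφ hn hχ h3, ?_, fun z hz => cen_iff hφ (ψ := ⟨_, h2⟩) ((TID.Red.ov_iff _ _ _).1 h3) hz⟩
  have h0 := S0887.result (φ.range ⊔ Z) _ χ.2 _ θ.2 ((TID.Red.ov_iff (φ.range ⊔ Z).subtype _ _).1 h1) _ _
    (irr_one_eq_charDegree χ.2) (irr_one_eq_charDegree θ.2)
  obtain ⟨⟨t, h4⟩, h5⟩ := h0
  have h6 := charDegree_pos θ.2
  rw [h4, Nat.mul_div_cancel_left _ h6] at h5
  have h7 : IsPGroup l (Γ ⧸ (φ.range ⊔ Z)) := fun x => by
    obtain ⟨g, rfl⟩ := QuotientGroup.mk_surjective x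
    exact ⟨1, by rw [pow_one, ← QuotientGroup.mk_pow, QuotientGroup.eq_one_iff]; exact hq g⟩
  obtain ⟨i, h8⟩ := IsPGroup.iff_card.1 h7
  have h9 : ¬ r ∣ t := fun e => hne ((Nat.prime_dvd_prime_iff_eq hr hM.1).1 (hr.dvd_of_dvd_pow ((e.trans h5).trans (dvd_of_eq h8))))
  let S : Sylow r H := default
  have h10 := S0189.result r S _ (isCharacter_comp φ (isIrr_isCharacter χ.2)) fun g hg e =>
    hv g e ((S.isPGroup' ⟨g, hg⟩).imp fun _ e => congrArg Subtype.val e)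
  obtain ⟨k, h10⟩ := h10
  rw [Function.comp_apply, map_one, irr_one_eq_charDegree χ.2, h4, S.card_eq_multiplicity, ← Nat.cast_mul, Nat.cast_inj] at h10
  have h11 : charDegree ((θ : ↥(φ.range ⊔ Z) → ℂ) ∘ j) = charDegree (θ : ↥(φ.range ⊔ Z) → ℂ) := by
    rw [← Nat.cast_inj (R := ℂ), ← irr_one_eq_charDegree h2, ← irr_one_eq_charDegree θ.2, Function.comp_apply, map_one]
  refine le_antisymm ?_ ((Nat.factorization_le_iff_dvd (charDegree_pos h2).ne' Nat.card_pos.ne').2 (Knorr.charDegree_dvd h2) r)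
  change _ ≤ (charDegree ((θ : ↥(φ.range ⊔ Z) → ℂ) ∘ j)).factorization r
  rw [h11, ← hr.pow_dvd_iff_le_factorization h6.ne']
  exact ((hr.coprime_iff_not_dvd.2 h9).pow_left _).dvd_of_dvd_mul_right ⟨k, h10⟩

end Cfsg.Agent.BZ.K3
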