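import Cfsg.Agent.BZ.L.K3.Defs
import Cfsg.Agent.BZ.L.F2.Dat
import Cfsg.Agent.KM.Tor.E6a

/-!
# BZ / L / K3 : the `Φ_d`-torus and the `r`-part of the torus (helper81)

* `Ga.avg`, `Ga.act_Z`, `Ga.act_La`, `Ga.exists_rep`, `Ga.wt_fix`;
* `Ga.Sd` : the frame; `Sd.den`, `Sd.mon_eq`, `Sd.st`, `Sd.tv_iff`, `Sd.md_iff`.
-/

set_option autoImplicit false
set_option linter.unusedSectionVars false
set_option linter.style.haveILetI false
set_option maxHeartbeats 400000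

namespace Cfsg.Agent.BZ.K3.Ga

open Cfsg Subgroup Cfsg.Agent.DL Cfsg.Agent.KM Cfsg.Agent.KM.Ht Cfsg.Agent.KM.Tor Matrix Polynomial Cfsg.Agent.PQ.EA.SameL
  Cfsg.Agent.BZ.L
open Cfsg.Agent.BZ.L.F2 (Zs zs_T mem_zs zs_F zs_nor coch_eq)
open Cfsg.Agent.BZ.L.W1 (La mon_aeval pp_Mx)

variable {p : ℕ} [Fact p.Prime] {k : Type} [Field k] [CharP k p] {Y : Type} [Group Y] {N : Type} [Fintype N]
  [DecidableEq N] {ρ : Y →* GL N k} {F : MulAut Y} {G : Subgroup Y} [IsAlgClosed k] (X : Datum p ρ F G) {Z : Set Y}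

/-- averaging over the Weyl group of the centraliser -/
theorem avg {r : ℕ} (hr : (Nat.card X.W).Coprime r) {v : X.R → ℤ} (hv : ∀ a ∈ X.Sz Z, (r : ℤ) ∣ X.wt a ⬝ᵥ v) :
    ∃ v' ∈ La X Z, ∃ y, v = v' + (r : ℤ) • y := by
  classical
  let H : Subgroup X.W := closure (X.rf '' X.Sz Z)
  letI := Fintype.ofFinite H
  have h1 : ∀ w ∈ H, ∃ y, X.Wm w *ᵥ v = v + (r : ℤ) • y := fun w hw => by
    induction hw using closure_induction with
    | mem w hw =>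
      obtain ⟨a, ha, rfl⟩ := hw
      obtain ⟨c, e⟩ := hv a ha
      exact ⟨-c • X.cor a, by
        rw [X.Wm_rf ha.1, sub_mulVec, one_mulVec, vecMulVec_mulVec, op_smul_eq_smul, e]
        module⟩
    | one => exact ⟨0, by rw [X.Wm_one, one_mulVec, smul_zero, add_zero]⟩
    | mul a b _ _ ha hb =>
      obtain ⟨y, e⟩ := ha
      obtain ⟨y', e'⟩ := hb
      exact ⟨y + X.Wm a *ᵥ y', by rw [X.Wm_mul, ← mulVec_mulVec, e', mulVec_add, e, mulVec_smul, smul_add, add_assoc]⟩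
    | inv a _ ha =>
      obtain ⟨y, e⟩ := ha
      refine ⟨-X.Wm a⁻¹ *ᵥ y, ?_⟩
      have h1 := congrArg (X.Wm a⁻¹ *ᵥ ·) e
      simp only [mulVec_mulVec, ← X.Wm_mul, inv_mul_cancel, X.Wm_one, one_mulVec, mulVec_add, mulVec_smul] at h1
      rw [neg_mulVec, smul_neg, eq_add_neg_iff_add_eq, ← h1]
  have h2 : ∀ b ∈ X.Sz Z, X.wt b ᵥ* ∑ w : H, X.Wm w = 0 := fun b hb => by
    have h3 : X.Wm (X.rf b) * ∑ w : H, X.Wm w = ∑ w : H, X.Wm w := by
      rw [Finset.mul_sum, ← Equiv.sum_comp (Equiv.mulLeft (⟨X.rf b, subset_closure ⟨b, hb, rfl⟩⟩ : H)) fun w : H => X.Wm w]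
      exact Finset.sum_congr rfl fun w _ => (X.Wm_mul _ _).symm
    have h4 := X.wt_act (X.rf b) b
    rw [X.act_rf_self hb.1, map_neg, neg_vecMul, neg_eq_iff_eq_neg] at h4
    have h5 := congrArg (X.wt b ᵥ* ·) h3
    simp only [← vecMul_vecMul, h4, neg_vecMul] at h5
    exact funext fun j => by
      have := congrFun h5 j
      rw [Pi.neg_apply] at this
      rw [Pi.zero_apply]
      omega
  choose y hy using fun w : H => h1 w w.2
  have h3 : (∑ w : H, X.Wm w) *ᵥ v = (Nat.card H : ℤ) • v + (r : ℤ) • ∑ w, y w := by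
    rw [sum_mulVec, Finset.sum_congr rfl fun b _ => hy b, Finset.sum_add_distrib, Finset.sum_const, Finset.card_univ,
      Nat.card_eq_fintype_card, natCast_zsmul, Finset.smul_sum]
  obtain ⟨a, b, e⟩ := Nat.isCoprime_iff_coprime.2 (hr.coprime_dvd_left (card_subgroup_dvd_card H))
  refine ⟨a • (∑ w : H, X.Wm w) *ᵥ v, (La X Z).smul_mem a fun c hc => by rw [dotProduct_mulVec, h2 c hc, zero_dotProduct],
    b • v - a • ∑ w, y w, ?_⟩
  rw [h3]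
  linear_combination (norm := module) -(e • v)

variable {X} {g x : Y} {w : X.W}

theorem act_Z (hZ : Z ⊆ X.T) (hn : ∀ z ∈ Z, g * z * g⁻¹ ∈ Z) (hx : x ∈ X.cen Z) {z : Y} (hz : z ∈ Z) :
    x * g * z * (x * g)⁻¹ = g * z * g⁻¹ := by
  rw [show x * g * z * (x * g)⁻¹ = x * (g * z * g⁻¹) * x⁻¹ by group, ← X.cen_le_centralizer hZ hx _ (hn z hz), mul_inv_cancel_right]

theorem act_La (hZ : Z ⊆ X.T) (hn : ∀ z ∈ Z, g * z * g⁻¹ ∈ Z) (hx : x ∈ X.cen Z) (hw : X.Rp w (x * g)) {v : X.R → ℤ}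
    (hv : v ∈ La X Z) : X.Wm w *ᵥ v ∈ La X Z ∧ ∀ a, g * X.τ (coch v a) * g⁻¹ = X.τ (coch (X.Wm w *ᵥ v) a) := by
  have h1 : X.Wm w *ᵥ v ∈ La X Z := fun b hb => by
    rw [dotProduct_mulVec, ← X.wt_act']
    refine hv _ ⟨hb.1.act _, fun z hz => ?_⟩
    rw [← X.χ_rp hw _ (hZ hz), ← CF.act_mul, mul_inv_cancel, CF.act_one, act_Z hZ hn hx hz]
    exact hb.2 _ (hn z hz)
  refine ⟨h1, fun a => ?_⟩
  rw [show g * X.τ (coch v a) * g⁻¹ = x⁻¹ * (x * g * X.τ (coch v a) * (x * g)⁻¹) * x by group, X.conj_τ hw, mon_coch, mul_assoc,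
    ← cen_comm_Z0 X Z hx (mem_Z0 h1 a), inv_mul_cancel_left]

/-- a good representative -/
theorem exists_rep {Z' : Set Y} (hZ : Z ⊆ X.T) (hZ' : Z' ⊆ X.T) (hg : g ∈ G) (hn : ∀ z, z ∈ Z ↔ g * z * g⁻¹ ∈ Z)
    (hn' : ∀ z ∈ Z', g * z * g⁻¹ ∈ Z') :
    ∃ x ∈ X.cen Z, ∃ w, X.Rp w (x * g) ∧ ∀ c, X.τ c ∈ Z' → g * X.τ c * g⁻¹ = X.τ (mon (X.Wm w) c) := by
  obtain ⟨c, hc, m, ⟨w, hm⟩, e, rfl⟩ := X.exists_conj_form (s := fun a : ↥(Z ∪ Z') => (a : Y))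
    (t := fun a : ↥(Z ∪ Z') => g * a * g⁻¹) (fun a => a.2.elim (hZ ·) (hZ' ·))
    (fun a => a.2.elim (fun h => hZ ((hn _).1 h)) fun h => hZ' (hn' _ h)) hg fun a => by group
  refine ⟨c⁻¹, inv_mem (X.cen_anti (fun x hx => ?_) (X.S_le_cen _ hc)), w, by rwa [inv_mul_cancel_left], fun x hx => by
    rw [← X.conj_τ hm, e ⟨_, Or.inr hx⟩, mul_inv_cancel_right]⟩
  refine ⟨⟨(c * m)⁻¹ * x * (c * m), Or.inl ((hn _).2 ?_)⟩, by group⟩
  rwa [show c * m * ((c * m)⁻¹ * x * (c * m)) * (c * m)⁻¹ = x by group]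

theorem wt_fix (hZ : Z ⊆ X.T) (hF : ∀ z ∈ Z, F z ∈ Z) (hx : x ∈ X.cen Z) (hw : X.Rp w x) {μ : X.R → ℤ}
    (h : ∀ a ∈ X.Sz Z, μ ⬝ᵥ X.cor a = 0) : μ ᵥ* X.Wm w = μ := by
  have h1 := E6.mem_closure hZ hF ⟨x, hx, hw⟩
  clear hw
  induction h1 using closure_induction with
  | mem w hw =>
    obtain ⟨a, ha, rfl⟩ := hw
    rw [X.Wm_rf ha.1, vecMul_sub, vecMul_one, vecMul_vecMulVec, h a ha, zero_smul, sub_zero]
  | one => rw [X.Wm_one, vecMul_one]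
  | mul a b _ _ ha hb => rw [X.Wm_mul, ← vecMul_vecMul, ha, hb]
  | inv a _ ha => rw [← ha, vecMul_vecMul, ← X.Wm_mul, mul_inv_cancel, X.Wm_one, vecMul_one, ha]

variable (X) in
/-- the frame -/
structure Sd (m r n d : ℕ) (t u : ℤ) (A : Matrix X.R X.R ℤ) : Prop where
  m0 : 0 < m
  d0 : 0 < d
  t0 : t ≠ 0
  mx : X.Mx = t • A
  mm : X.Mx ^ m = u • A
  bn : A ^ n = 1
  rp : r.Prime
  ne : r ≠ p
  rn : ¬ r ∣ n * d
  rw : ¬ r ∣ Nat.card X.W
  od : orderOf (u : ZMod r) = d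

namespace Sd

variable {m r n d : ℕ} {t u : ℤ} {A : Matrix X.R X.R ℤ} (h : Sd X m r n d t u A)
include h

theorem u0 : (u : ZMod r) ≠ 0 := fun e => by
  have := Fact.mk h.rp
  have h1 := h.od
  have h2 := h.d0
  rw [e, orderOf_zero] at h1
  omega

theorem pow_τ (v : X.R → ℤ) (a : kˣ) : (F ^ m) (X.τ (coch v a)) = X.τ (coch (u • A *ᵥ v) a) := by
  rw [X.F_pow_τ, mon_coch, h.mm, smul_mulVec]

theorem la (v : X.R → ℤ) (hv : v ∈ La X (Zs X m r)) : A *ᵥ v ∈ La X (Zs X m r) :=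
  W1.La.sat X h.t0 (by rw [← smul_mulVec, ← h.mx]; exact pp_Mx X (zs_T X) (zs_F X) hv)

theorem ud {f : ℤ[X]} (e : Polynomial.X ^ (n * d) - 1 = cyclotomic d ℤ * f) (y : X.R → ℤ) : Ud d A (aeval A f *ᵥ y) := by
  show _ *ᵥ _ = _
  rw [mulVec_mulVec, ← map_mul, ← e, map_sub, map_pow, aeval_X, pow_mul, h.bn, one_pow, map_one, sub_self, zero_mulVec]

/-- **the roots of the centraliser of the `r`-part vanish on the `Φ_d`-torus** -/
theorem den {y : X.R → ℤ} (hy : Ud d A y) : y ∈ La X (Zs X m r) := by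
  have := Fact.mk h.rp
  obtain ⟨f, ρ', σ, f', e1, e2, e3, e4, e5⟩ := exists_q h.u0 h.od (dvd_mul_left d n) h.rn
  obtain ⟨η, hη⟩ := exists_prim p k (n := r) fun e => h.ne ((Nat.prime_dvd_prime_iff_eq Fact.out h.rp).1 e).symm
  obtain ⟨c, hc, h1⟩ := nak (g := A) (l := r) (q := f' * f) (aeval (u : ZMod r)⁻¹).toRingHom (cyclotomic.monic d ℤ)
    (by rw [map_cyclotomic_int]; exact cyclotomic.irreducible_rat h.d0) e3 ((map_mul _ _ _).trans_ne (mul_ne_zero e5 e4))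
    (V := kr (aeval A (cyclotomic d ℤ))) (V' := La X (Zs X m r)) (kr_stab (comm_aeval (Commute.refl A) _)) h.la (fun _ hx => hx)
    fun x hx => by
      have h4 := congrArg (fun f => aeval A f *ᵥ x) e1
      simp only [map_mul, map_add, map_sub, aeval_C, aeval_X, map_one, Algebra.algebraMap_eq_smul_one, add_mulVec, ← mulVec_mulVec,
        sub_mulVec, smul_mulVec, one_mulVec, mem_kr.1 hx, mulVec_zero, zero_add, sub_eq_iff_eq_add'] at h4
      have h5 : X.τ (coch (aeval A f *ᵥ x) η) ∈ Zs X m r := (mem_zs X).2 ⟨X.τ_mem _, by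
        rw [h.pow_τ, coch_eq.2 ⟨_, hη ▸ h4⟩], 1, by
          rw [pow_one, ← map_pow, ← map_pow, ← hη, pow_orderOf_eq_one, map_one, map_one]⟩
      obtain ⟨v', h6, y, h7⟩ := avg X (Z := Zs X m r) (v := aeval A f *ᵥ x) ((Nat.Prime.coprime_iff_not_dvd h.rp).2 h.rw).symm
        fun a ha => by
          have h2 := ha.2 _ h5
          rwa [X.χ_τ, Units.val_eq_one, chr_coch, ← orderOf_dvd_iff_zpow_eq_one, hη] at h2
      exact ⟨_, aeval_mem h.la f' _ h6, _, h.ud e2 y, by rw [map_mul, ← mulVec_mulVec, h7, mulVec_add, mulVec_smul]⟩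
  exact W1.La.sat X hc (h1 y hy)

/-- an element of the Weyl group which fixes the `Φ_d`-torus fixes the `r`-part of the torus -/
theorem mon_eq (hw : Tv X d A w) {c : X.R → kˣ} (hc : X.τ c ∈ Zs X m r) : mon (X.Wm w) c = c := by
  have := Fact.mk h.rp
  obtain ⟨-, -, -, f, -, f1, -, -, f2⟩ := exists_q h.u0 h.od (dvd_mul_left d n) h.rn
  obtain ⟨-, h1, j, h2⟩ := (mem_zs X).1 hc
  have c2 : c ^ (r : ℤ) ^ (j + 1) = 1 := X.τ_inj (by
    rw [← Nat.cast_pow, zpow_natCast, map_pow, pow_succ, pow_mul, h2, one_pow, map_one])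
  have c3 : ∀ e : ℤ, (e : ZMod r) ≠ 0 → IsCoprime e ((r : ℤ) ^ (j + 1)) := fun e he =>
    ((Nat.prime_iff_prime_int.1 h.rp).coprime_iff_not_dvd.2 fun h => he ((ZMod.intCast_zmod_eq_zero_iff_dvd _ _).2 h)).symm.pow_right
  obtain ⟨u', b, c4⟩ := c3 u h.u0
  have c5 : mon A c = c ^ u' := by
    rw [X.F_pow_τ, h.mm] at h1
    have := X.τ_inj h1
    rw [mon_zsmul] at this
    rw [← zpow_one (mon A c), ← c4, _root_.zpow_add, mul_comm u', mul_comm b, _root_.zpow_mul, _root_.zpow_mul, this, ← map_zpow, c2,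
      map_one, _root_.one_zpow, mul_one]
  have c6 : (u' : ZMod r) = (u : ZMod r)⁻¹ := by
    have := congrArg (Int.cast : ℤ → ZMod r) c4
    simp only [Int.cast_add, Int.cast_mul, Int.cast_pow, Int.cast_natCast, ZMod.natCast_self, ne_eq, Nat.add_eq_zero_iff, one_ne_zero,
      and_false, not_false_eq_true, zero_pow, mul_zero, add_zero, Int.cast_one] at this
    exact eq_inv_of_mul_eq_one_left this
  obtain ⟨e, e', c7⟩ := c3 (f.eval u') (by rwa [← ev_int, c6])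
  have c9 : X.Wm w * aeval A f = aeval A f := Matrix.ext_of_mulVec_single fun i => by rw [← mulVec_mulVec, hw _ (h.ud f1 _)]
  have c1 := congrArg (mon · c) c9
  simp only [mon_mul, mon_aeval c5] at c1
  have c8 : c = (c ^ f.eval u') ^ e := by
    rw [← _root_.zpow_mul, mul_comm, eq_sub_of_add_eq c7, _root_.zpow_sub, mul_comm e', _root_.zpow_mul, c2, _root_.one_zpow, inv_one,
      mul_one, zpow_one]
  rw [c8, map_zpow, c1]

theorem cen_iff : x ∈ X.cen (Zs X m r) ↔ x ∈ G ∧ x ∈ centralizer (Zs X m r) := by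
  have := Fact.mk h.rp
  rw [← HZ.Gen.cen_eq X h.rw (zs_T X) fun z hz => ((mem_zs X).1 hz).2.2, mem_inf]

theorem cen_le {e : GF (F ^ m) G} (he : e ∈ centralizer (Pt F G m r X.T : Set (GF (F ^ m) G))) : (e : Y) ∈ X.cen (Zs X m r) :=
  h.cen_iff.2 ⟨e.2.1, by
    rintro _ ⟨s, hs, rfl⟩
    exact congrArg Subtype.val (he s hs)⟩

variable {s : GF (F ^ m) G} (hs : s ∈ normalizer (Pt F G m r X.T : Set (GF (F ^ m) G))) (hx : x ∈ X.cen (Zs X m r))
include hs hx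

theorem conj_cen : s * x * (s : Y)⁻¹ ∈ X.cen (Zs X m r) := by
  obtain ⟨h1, h2⟩ := h.cen_iff.1 hx
  refine h.cen_iff.2 ⟨mul_mem (mul_mem s.2.1 h1) (inv_mem s.2.1), fun z hz => ?_⟩
  have h3 := h2 ((s : Y)⁻¹ * z * s) ((zs_nor X hs _).2 (by rwa [show s * ((s : Y)⁻¹ * z * s) * (s : Y)⁻¹ = z by group]))
  rw [show z * (s * x * (s : Y)⁻¹) = s * ((s : Y)⁻¹ * z * s * x) * (s : Y)⁻¹ by group, h3]
  group

variable (hw : X.Rp w (x * s))
include hw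

theorem st (y : X.R → ℤ) (hy : Ud d A y) : Ud d A (X.Wm w *ᵥ y) ∧ A *ᵥ (X.Wm w *ᵥ y) = X.Wm w *ᵥ (A *ᵥ y) := by
  have w2 := fun v => act_La (zs_T X) (fun z => (zs_nor X hs z).1) hx hw (v := v)
  have a3 : ∀ v ∈ La X (Zs X m r), A *ᵥ X.Wm w *ᵥ v = X.Wm w *ᵥ A *ᵥ v := fun v hv => by
    refine smul_right_injective _ (show u ≠ 0 from fun e => h.u0 (by rw [e, Int.cast_zero])) (coch_inj (k := k) fun a => X.τ_inj ?_)
    beta_reduce
    rw [← h.pow_τ, ← (w2 v hv).2, map_mul, map_mul, map_inv, mem_fix.1 s.2.2, h.pow_τ,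
      (w2 _ ((La X _).smul_mem _ (h.la v hv))).2, mulVec_smul]
  have c1 : ∀ f : ℤ[X], ∀ v ∈ La X (Zs X m r), aeval A f *ᵥ X.Wm w *ᵥ v = X.Wm w *ᵥ aeval A f *ᵥ v := fun f => by
    induction f using Polynomial.induction_on with
    | C a => exact fun v _ => by simp only [aeval_C, Algebra.algebraMap_eq_smul_one, smul_mulVec, one_mulVec, mulVec_smul]
    | add f g hf hg => exact fun v hv => by rw [map_add, add_mulVec, add_mulVec, hf v hv, hg v hv, mulVec_add]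
    | monomial n a h1 =>
      exact fun v hv => by rw [pow_succ, ← mul_assoc, map_mul, aeval_X, ← mulVec_mulVec, a3 v hv, h1 _ (h.la v hv), mulVec_mulVec v]
  exact ⟨(c1 _ y (h.den hy)).trans (by rw [show _ *ᵥ y = 0 from hy, mulVec_zero]), a3 y (h.den hy)⟩

theorem tv_iff : Tv X d A w ↔ s ∈ centralizer (Pt F G m r X.T : Set (GF (F ^ m) G)) := by
  refine ⟨fun e z hz => ?_, fun e y hy => coch_inj (k := k) fun a => X.τ_inj ?_⟩
  · have h1 : (z : Y) ∈ Zs X m r := ⟨z, hz, rfl⟩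
    obtain ⟨c, e'⟩ := (X.mem_T _).1 (zs_T X h1)
    have h2 := act_Z (zs_T X) (fun z => (zs_nor X hs z).1) hx h1
    rw [← e', X.conj_τ hw, h.mon_eq e (e' ▸ h1), e'] at h2
    exact Subtype.ext (eq_mul_inv_iff_mul_eq.1 h2)
  · rw [← (act_La (zs_T X) (fun z => (zs_nor X hs z).1) hx hw (h.den hy)).2, cen_comm_Z0 X _ (h.cen_le e) (mem_Z0 (h.den hy) a),
      mul_inv_cancel_right]

omit hs hx hw in
/-- **duality** -/
theorem md_iff {l : ℕ} (hl : l.Prime) {μ : X.R → ℤ} : Md l u A μ ↔ ∀ c, X.τ c ∈ Zs X m l → chr μ c = 1 := by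
  refine ⟨fun ⟨e, e1, μ', e2⟩ c hc => ?_, fun e => ?_⟩
  · obtain ⟨-, h1, j, h2⟩ := (mem_zs X).1 hc
    rw [X.F_pow_τ, h.mm] at h1
    have h3 : chr μ c ^ e = 1 := by
      rw [← chr_zsmul, e2, ← chr_mon, mon_sub, X.τ_inj h1, mon_one, mul_inv_cancel, map_one]
    have h4 : chr μ c ^ (l : ℤ) ^ j = 1 := by
      rw [← Nat.cast_pow, zpow_natCast, ← map_pow, X.τ_inj (show X.τ (c ^ l ^ j) = X.τ 1 by rw [map_pow, h2, map_one]), map_one]
    obtain ⟨a, b, h5⟩ := ((Nat.prime_iff_prime_int.1 hl).coprime_iff_not_dvd.2 e1).pow_left (m := j)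
    rw [← zpow_one (chr μ c), ← h5, _root_.zpow_add, mul_comm a, mul_comm b, _root_.zpow_mul, _root_.zpow_mul, h3, h4, _root_.one_zpow,
      _root_.one_zpow, mul_one]
  · have : Finite (GF (F ^ m) G) := (X.amb.pow h.m0).finite_GF G
    obtain ⟨j, o, h1, h2⟩ := Nat.exists_eq_pow_mul_and_not_dvd (Nat.card_pos (α := GF (F ^ m) G)).ne' l hl.ne_one
    obtain ⟨μ', h3⟩ := ((X.pow h.m0).chr_TF_iff ((o : ℤ) • μ)).1 fun c hc => by
      have h4 : X.τ c ^ o ∈ GF (F ^ m) G := pow_mem hc o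
      rw [natCast_zsmul, chr_nsmul, ← map_pow]
      refine e _ ((mem_zs X).2 ⟨X.τ_mem _, by rw [map_pow]; exact h4.2, j, ?_⟩)
      rw [map_pow, ← pow_mul, mul_comm, ← h2]
      exact congrArg Subtype.val (pow_card_eq_one' (x := (⟨_, hc⟩ : GF (F ^ m) G)))
    exact ⟨o, fun e => h1 (Int.natCast_dvd_natCast.1 e), μ', h.mm ▸ h3.symm⟩

end Sd

end Cfsg.Agent.BZ.K3.Ga
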