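import Cfsg.Agent.BZ.L.K3.Bas
import Cfsg.Agent.RC.B.Dec

/-!
# BZ / L / K3 : the Coxeter torus of a subsystem of type `A (l - 1)` (helper13)
-/

set_option autoImplicit false
set_option linter.unusedSectionVars false

namespace Cfsg.Agent.BZ.K3

open Cfsg Cfsg.Lie Subgroup Matrix Cfsg.Agent.DL Cfsg.Agent.KM.Ht Cfsg.Agent.KM.Tor Cfsg.Agent.KM.Tor.TW Cfsg.Agent.RC.B.Ln
  Cfsg.Agent.Nodes.Reps Cfsg.Agent.Nodes.Coroot Cfsg.Agent.Nodes.BNOf Cfsg.Agent.Tits.Roots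
open scoped commutatorElement

theorem geo {s u : ℤ} (h : s ∣ u - 1) (j : ℕ) : ∃ c, u ^ j - 1 = (u - 1) * c ∧ s ∣ c - j := by
  induction j with
  | zero => exact ⟨0, by simp, by simp⟩
  | succ j ih =>
    obtain ⟨c, h1, h2⟩ := ih
    refine ⟨u * c + 1, by linear_combination u * h1, ?_⟩
    rw [show u * c + 1 - ((j + 1 : ℕ) : ℤ) = (u - 1) * c + (c - j) by push_cast; ring]
    exact (h.mul_right c).add h2

theorem exists_lev {l : ℕ} (hl : l.Prime) {u : ℤ} (h : (l : ℤ) ∣ u - 1) (h1 : u ≠ 1) :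
    ∃ a : ℕ, ((l ^ a : ℕ) : ℤ) ∣ u ^ l - 1 ∧ ∀ j : ℕ, ¬ l ∣ j → ¬ ((l ^ a : ℕ) : ℤ) ∣ u ^ j - 1 := by
  obtain ⟨a, c, h2, h3⟩ : ∃ (a : ℕ) (c : ℤ), u - 1 = (l : ℤ) ^ a * c ∧ ¬ (l : ℤ) ∣ c :=
    ⟨_, (Int.finiteMultiplicity_iff.2 ⟨by simpa using hl.ne_one, sub_ne_zero.2 h1⟩).exists_eq_pow_mul_and_not_dvd⟩
  refine ⟨a + 1, ?_, fun j hj h4 => ?_⟩
  · obtain ⟨d, h4, h5⟩ := geo h l
    rw [h4, h2, Nat.cast_pow, pow_succ, mul_assoc]
    exact mul_dvd_mul_left _ (((dvd_sub_left (dvd_refl _)).1 h5).mul_left c)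
  · obtain ⟨d, h5, h6⟩ := geo h j
    rw [h5, h2, Nat.cast_pow, pow_succ, mul_assoc, mul_dvd_mul_iff_left (pow_ne_zero _ (Int.natCast_ne_zero.2 hl.ne_zero))] at h4
    exact hj (Int.natCast_dvd_natCast.1 ((dvd_sub_right (((Nat.prime_iff_prime_int.1 hl).dvd_or_dvd h4).resolve_left h3)).1 h6))

variable {p : ℕ} [Fact p.Prime] {k : Type} [Field k] [CharP k p] {Y : Type} [Group Y] {N : Type} [Fintype N]
  [DecidableEq N] {ρ : Y →* GL N k} {F : MulAut Y} {G : Subgroup Y} [IsAlgClosed k] {X : Datum p ρ F G} {l : ℕ}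
  {b : ZMod l → X.I → ℤ} {w : X.W} {m n t : Y}

theorem ac_one (a : X.I → ℤ) : X.act 1 a = a := by rw [Datum.act, map_one, Module.End.one_apply]

theorem ac_mul (v w : X.W) (a : X.I → ℤ) : X.act (v * w) a = X.act v (X.act w a) := by
  rw [Datum.act, map_mul, Module.End.mul_apply]

theorem χ_pow (a : X.I → ℤ) (ht : t ∈ X.T) (j : ℕ) : X.χ a (t ^ j) = X.χ a t ^ j := by
  obtain ⟨c, rfl⟩ := (X.mem_T t).1 ht
  rw [← map_pow, X.χ_τ, X.χ_τ, map_pow, Units.val_pow_eq_pow_val]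

theorem conj_gl [NeZero l] (rt : ∀ i, X.Rt (b i)) (hm : X.Rp w m) {σ : Equiv.Perm (ZMod l)} (hσ : ∀ i, X.act w (b i) = b (σ i))
    (e : ZMod l → kˣ) : m * X.τ (gl b e) * m⁻¹ = X.τ (gl b fun j => e (σ.symm j)) := by
  rw [X.conj_τ hm, mon_gl, gl_apply, ← Equiv.prod_comp σ fun j => coch (X.cor (b j)) (e (σ.symm j))]
  exact congrArg _ (Finset.prod_congr rfl fun i _ => by rw [← X.cor_act _ (rt i), hσ, σ.symm_apply_apply])

namespace Kb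

variable (h : Kb X l b)
include h

theorem inj : Function.Injective b := fun i j e => by
  by_contra hn
  have h1 := h.dot i j
  rw [if_neg hn, e, h.dot, if_pos rfl] at h1
  omega

theorem exists_pm (σ : Equiv.Perm (ZMod l)) : ∃ w ∈ closure (X.rf '' CR b), ∀ i, X.act w (b i) = b (σ i) := by
  have : NeZero l := ⟨h.lp.ne_zero⟩
  induction σ using Equiv.Perm.swap_induction_on with
  | one => exact ⟨1, one_mem _, fun i => ac_one _⟩
  | swap_mul σ i j e ih =>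
    obtain ⟨w, h1, h2⟩ := ih
    exact ⟨_, mul_mem (subset_closure ⟨_, ⟨i, j, e, rfl⟩, rfl⟩) h1, fun s => by rw [ac_mul, h2, h.act_al e, Equiv.Perm.mul_apply]⟩

theorem pm_of_mem (hw : w ∈ closure (X.rf '' CR b)) : ∃ σ : Equiv.Perm (ZMod l), ∀ i, X.act w (b i) = b (σ i) := by
  induction hw using closure_induction with
  | mem _ hx =>
    obtain ⟨_, ⟨i, j, e, rfl⟩, rfl⟩ := hx
    exact ⟨_, h.act_al e⟩
  | one => exact ⟨1, fun i => ac_one _⟩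
  | mul _ _ _ _ h1 h2 =>
    obtain ⟨σ, h1⟩ := h1
    obtain ⟨σ', h2⟩ := h2
    exact ⟨σ * σ', fun i => by rw [ac_mul, h2, h1, Equiv.Perm.mul_apply]⟩
  | inv x _ h1 =>
    obtain ⟨σ, h1⟩ := h1
    exact ⟨σ⁻¹, fun i => by
      rw [← ac_one (b (σ⁻¹ i)), ← inv_mul_cancel x, ac_mul, h1, ← Equiv.Perm.mul_apply, mul_inv_cancel, Equiv.Perm.one_apply]⟩

theorem mem_clo (hm : X.Rp w m) (hc : m ∈ X.T ⊔ X.S (CR b)) : w ∈ closure (X.rf '' CR b) :=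
  h.sz ▸ RC.B.Dec.mem_clo Zc_le hm (h.cen_eq ▸ hc)

theorem mem_T_of_fix (hm : X.Rp w m) (hc : m ∈ X.T ⊔ X.S (CR b)) (hw : ∀ i, X.act w (b i) = b i) : m ∈ X.T := by
  have : NeZero l := ⟨h.lp.ne_zero⟩
  refine X.centralizer_T ▸ (⟨hm.mem_G, fun t ht => ?_⟩ : m ∈ G ⊓ centralizer (X.T : Set Y))
  obtain ⟨e, -, h2⟩ := h.T_dec ht
  have h3 := conj_gl h.rt hm (σ := 1) hw e
  rw [mul_inv_eq_iff_eq_mul] at h3
  rw [← mul_inv_cancel_left (X.τ (gl b e)) t, mul_assoc, h.comm_Zc hc h2, ← mul_assoc, ← mul_assoc m, h3]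
  rfl

end Kb

variable (X b) in
/-- a fixed representative of the rotation -/
structure Ro (n : Y) : Prop where
  mem : n ∈ X.S (CR b)
  fx : F n = n
  rp : ∃ w, X.Rp w n ∧ ∀ i, X.act w (b i) = b (i + 1)

namespace Kx

variable {ε u : ℤ} (h : Kx X l b ε u)
include h

theorem exists_ro : ∃ n, Ro X b n ∧ ∃ y ∈ X.S (CR b), n = y⁻¹ * F y := by
  obtain ⟨w, h1, h2⟩ := h.exists_pm (Equiv.addRight 1)
  obtain ⟨n, h3, h4, h5⟩ := h.exists_fix h1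
  exact ⟨n, ⟨h3, h4, w, h5, h2⟩, X.lang_S h.rtC h.gC h3⟩

theorem u_ne : u ≠ 1 := fun e => by
  refine X.det_Mx_sub_one_ne_zero (exists_mulVec_eq_zero_iff.1 ⟨X.cor (b 0), fun h0 => ?_, ?_⟩)
  · have h1 := h.dot 0 0
    rw [h0, dotProduct_zero, if_pos rfl] at h1
    omega
  · rw [sub_mulVec, h.mx, e, one_smul, one_mulVec, sub_self]

theorem χ_F (i : ZMod l) (ht : t ∈ X.T) : X.χ (b i) (F t) = X.χ (b i) t ^ u := by
  have h1 := X.χ_F (h.rt i) ht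
  have h2 := congrArg (X.wt (b i) ⬝ᵥ ·) (X.Mx_cor (h.rt i))
  have h3 : X.cor (ε • b i) = ε • X.cor (b i) := by
    rcases h.sg with rfl | rfl
    · rw [one_smul, one_smul]
    · rw [neg_one_smul, neg_one_smul, X.cor_neg (h.rt i)]
  simp only [h.mx, h.g_b, h3, dotProduct_smul, h.dot, if_true, smul_eq_mul] at h2
  rw [h.g_b, X.χ_zsmul, ← zpow_natCast, Nat.cast_pow] at h1
  rcases h.sg with rfl | rfl
  · rw [zpow_one] at h1
    rw [h1, show u = (p : ℤ) ^ X.ex (b i) by omega]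
  · rw [_root_.zpow_neg_one, inv_eq_iff_eq_inv, ← _root_.zpow_neg] at h1
    rw [h1, show u = -(p : ℤ) ^ X.ex (b i) by omega]

theorem χ_succ (o : Ro X b n) (ht : t ∈ X.T) (hf : n * F t * n⁻¹ = t) (i : ZMod l) : X.χ (b (i + 1)) t = X.χ (b i) t ^ u := by
  obtain ⟨w, h1, h2⟩ := o.rp
  rw [← h.χ_F i ht, ← X.χ_rp h1 (b i) (X.F_mem_T ht), hf, h2]

theorem χ_nat (o : Ro X b n) (ht : t ∈ X.T) (hf : n * F t * n⁻¹ = t) (j : ℕ) : X.χ (b j) t = X.χ (b 0) t ^ u ^ j := by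
  induction j with
  | zero => rw [Nat.cast_zero, pow_zero, zpow_one]
  | succ j ih => rw [Nat.cast_succ, h.χ_succ o ht hf, ih, ← _root_.zpow_mul, pow_succ]

/-- the `r`-elements of the twisted torus are central -/
theorem r_Zc (o : Ro X b n) {r j : ℕ} (hr : r.Prime) (hu : (r : ℤ) ∣ u - 1) (hrl : r ≠ l) (ht : t ∈ X.T) (hf : n * F t * n⁻¹ = t)
    (h1 : t ^ r ^ j = 1) : t ∈ Zc X (CR b) := by
  have : NeZero l := ⟨h.lp.ne_zero⟩
  have h0 := X.χ_ne_zero (b 0) t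
  have h2 := h.χ_nat o ht hf l
  have h3 : X.χ (b 0) t ^ r ^ j = 1 := by rw [← χ_pow _ ht, h1, X.χ_one]
  obtain ⟨c, h4, h5⟩ := geo hu l
  have h6 : IsCoprime c ((r : ℤ) ^ j) := IsCoprime.pow_right (IsCoprime.symm ((Nat.prime_iff_prime_int.1 hr).irreducible.coprime_iff_not_dvd.2
    fun e => hrl ((Nat.prime_dvd_prime_iff_eq hr h.lp).1 (Int.natCast_dvd_natCast.1 ((dvd_sub_right e).1 h5)))))
  obtain ⟨α, β, h7⟩ := h6
  have h8 : X.χ (b 0) t ^ (u ^ l - 1) = 1 := by rw [zpow_sub₀ h0, ← h2, ZMod.natCast_self, zpow_one, div_self h0]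
  have h9 : X.χ (b 0) t ^ (u - 1) = 1 := by
    rw [show u - 1 = (u ^ l - 1) * α + (r ^ j : ℕ) * (β * (u - 1)) by push_cast; linear_combination -α * h4 - (u - 1) * h7,
      zpow_add₀ h0, _root_.zpow_mul, _root_.zpow_mul, h8, zpow_natCast, h3, _root_.one_zpow, _root_.one_zpow, one_mul]
  have h10 : ∀ i, X.χ (b i) t = X.χ (b 0) t := fun i => by
    obtain ⟨s, rfl⟩ := ZMod.natCast_zmod_surjective i
    obtain ⟨d, h11, -⟩ := geo hu s
    rw [h.χ_nat o ht hf, eq_add_of_sub_eq h11, zpow_add₀ h0, _root_.zpow_mul, h9, _root_.one_zpow, one_mul, zpow_one]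
  refine ⟨ht, ?_⟩
  rintro _ ⟨i, i', -, rfl⟩
  rw [sub_eq_add_neg, X.χ_add, X.χ_neg, h10, h10 i', mul_inv_cancel₀ h0]

/-- the twisted torus of the derived group has no `r`-elements -/
theorem r_triv (o : Ro X b n) {r j : ℕ} (hr : r.Prime) (hu : (r : ℤ) ∣ u - 1) (hrl : r ≠ l) (ht : t ∈ X.T) (hs : t ∈ X.S (CR b))
    (hf : n * F t * n⁻¹ = t) (h1 : t ^ r ^ j = 1) : t = 1 := by
  have : NeZero l := ⟨h.lp.ne_zero⟩
  exact (pow_eq_one_iff_of_coprime (((Nat.coprime_primes hr h.lp).2 hrl).pow_left j)).1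
    ⟨h1, h.Zc_pow (h.r_Zc o hr hu hrl ht hf h1) hs⟩

/-- **general position** : the normaliser of the twisted torus moves the `l`-part of `b 0` -/
theorem shift (o : Ro X b n) (hu : (l : ℤ) ∣ u - 1) (hp : l ≠ p) (hm : m ∈ X.NN) (hc : m ∈ X.T ⊔ X.S (CR b))
    (hf : n * F m * n⁻¹ = m) (hT : m ∉ X.T) :
    ∃ t ∈ X.T, n * F t * n⁻¹ = t ∧ (∃ j, t ^ l ^ j = 1) ∧ X.χ (b 0) (m * t * m⁻¹) ≠ X.χ (b 0) t := by
  have : NeZero l := ⟨h.lp.ne_zero⟩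
  have : Fact (1 < l) := ⟨h.lp.one_lt⟩
  obtain ⟨w, h1, h2⟩ := o.rp
  obtain ⟨v, hv⟩ := hm
  have h3 := h.mem_clo hv hc
  obtain ⟨σ, hσ⟩ := h.pm_of_mem h3
  have h4 : w * v * w⁻¹ = v := X.rp_unique (h.Fw_eq h3 ▸ (h1.mul (Datum.Rp.mapF hv)).mul h1.inv) (hf.symm ▸ hv)
  have h5 : ∀ i, σ (i + 1) = σ i + 1 := fun i => h.inj (by
    rw [← hσ, ← h2, ← h2, ← hσ, ← ac_mul, ← ac_mul, mul_inv_eq_iff_eq_mul.1 h4])
  have h6 : ∀ i, σ i = σ 0 + i := fun i => by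
    obtain ⟨s, rfl⟩ := ZMod.natCast_zmod_surjective i
    induction s with
    | zero => rw [Nat.cast_zero, add_zero]
    | succ s ih => rw [Nat.cast_succ, h5, ih, add_assoc]
  have h7 : -σ 0 ≠ 0 := neg_ne_zero.2 fun e => hT (h.mem_T_of_fix hv hc fun i => by rw [hσ, h6, e, zero_add])
  obtain ⟨a, h8, h9⟩ := exists_lev h.lp hu h.u_ne
  obtain ⟨ξ, hξ⟩ := exists_prim p k (n := l ^ a) fun e =>
    hp ((Nat.prime_dvd_prime_iff_eq Fact.out h.lp).1 ((Fact.out : p.Prime).dvd_of_dvd_pow e)).symm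
  refine ⟨X.τ (gl b fun i => ξ ^ u ^ i.val), X.τ_mem _, ?_, ⟨a, ?_⟩, fun e => ?_⟩
  · rw [h.F_gl, conj_gl h.rt h1 (σ := Equiv.addRight 1) h2]
    congr 2
    funext j
    obtain ⟨i, rfl⟩ := (Equiv.addRight (1 : ZMod l)).surjective j
    rw [Equiv.symm_apply_apply, Pi.pow_apply, ← _root_.zpow_mul, ← pow_succ, zpow_eq_zpow_iff_modEq, hξ, Equiv.coe_addRight,
      ZMod.val_add, ZMod.val_one, ← ZMod.intCast_eq_intCast_iff, Int.cast_pow, Int.cast_pow]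
    refine pow_eq_pow_mod _ ?_
    rwa [← ZMod.intCast_zmod_eq_zero_iff_dvd, Int.cast_sub, Int.cast_pow, Int.cast_one, sub_eq_zero] at h8
  · rw [← map_pow, ← map_pow, show (fun i : ZMod l => ξ ^ u ^ i.val) ^ l ^ a = 1 from funext fun i => by
      rw [Pi.pow_apply, ← zpow_natCast, ← _root_.zpow_mul, mul_comm, _root_.zpow_mul, zpow_natCast, ← hξ, pow_orderOf_eq_one,
        _root_.one_zpow, Pi.one_apply], map_one, map_one]
  · have h10 := X.χ_rp hv (b (-σ 0)) (X.τ_mem (gl b fun i => ξ ^ u ^ i.val))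
    rw [hσ, h6, add_neg_cancel, e, h.χ_gl, h.χ_gl, Units.val_inj, mul_left_inj, ZMod.val_zero, pow_zero, zpow_eq_zpow_iff_modEq,
      hξ] at h10
    exact h9 _ (fun e' => h7 (by rw [← ZMod.natCast_zmod_val (-σ 0), ZMod.natCast_eq_zero_iff]; exact e')) h10.dvd

/-- a central element which is a commutator -/
theorem exists_z (hu : (l : ℤ) ∣ u - 1) (hp : l ≠ p) : ∃ n ∈ X.S (CR b), ∃ t ∈ X.S (CR b), F n = n ∧ F t = t ∧
    ⁅n, t⁆ ∈ Zc X (CR b) ∧ X.χ (b 0) ⁅n, t⁆ ≠ 1 := by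
  have : NeZero l := ⟨h.lp.ne_zero⟩
  have : Fact (1 < l) := ⟨h.lp.one_lt⟩
  obtain ⟨n, ⟨h1, h2, w, h3, h4⟩, -⟩ := h.exists_ro
  obtain ⟨ω, hω⟩ := exists_prim p k (n := l) fun e => hp ((Nat.prime_dvd_prime_iff_eq Fact.out h.lp).1 e).symm
  have h5 : ω ^ l = 1 := hω ▸ pow_orderOf_eq_one ω
  have h6 : ∀ i j : ZMod l, ω ^ (i + j).val = ω ^ i.val * ω ^ j.val := fun i j => by
    rw [ZMod.val_add, ← pow_eq_pow_mod _ h5, pow_add]
  have h7 : ∏ i : ZMod l, ω ^ i.val = 1 := by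
    refine (pow_eq_one_iff_of_coprime ((Nat.coprime_primes Nat.prime_two h.lp).2 h.l2.symm)).1 ⟨?_, ?_⟩
    · rw [sq]
      nth_rw 1 [← Equiv.prod_comp (Equiv.neg (ZMod l))]
      rw [← Finset.prod_mul_distrib]
      exact Finset.prod_eq_one fun i _ => by rw [← h6, Equiv.neg_apply, neg_add_cancel, ZMod.val_zero, pow_zero]
    · rw [← Finset.prod_pow]
      exact Finset.prod_eq_one fun i _ => by rw [← pow_mul, mul_comm, pow_mul, h5, one_pow]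
  have h8 : ⁅n, X.τ (gl b fun i => ω ^ i.val)⁆ = X.τ (gl b fun _ => ω⁻¹) := by
    rw [commutatorElement_def, conj_gl h.rt h3 (σ := Equiv.addRight 1) h4, ← map_inv, ← map_inv, ← map_mul, ← map_mul]
    congr 2
    funext j
    obtain ⟨i, rfl⟩ := (Equiv.addRight (1 : ZMod l)).surjective j
    rw [Pi.mul_apply, Pi.inv_apply, Equiv.symm_apply_apply, Equiv.coe_addRight, h6, ZMod.val_one, pow_one, mul_inv, mul_inv_cancel_left]
  refine ⟨n, h1, _, h.gl_mem h7, h2, ?_, h8 ▸ ⟨X.τ_mem _, ?_⟩, ?_⟩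
  · rw [h.F_gl]
    congr 2
    funext i
    rw [Pi.pow_apply, ← zpow_natCast, ← _root_.zpow_mul, zpow_eq_zpow_iff_modEq, hω, Int.modEq_comm, Int.modEq_iff_dvd, ← mul_sub_one]
    exact hu.mul_left _
  · rintro _ ⟨i, j, -, rfl⟩
    rw [h.χ_al, mul_inv_cancel, Units.val_one]
  · rw [h8, h.χ_gl, Finset.prod_const, Finset.card_univ, ZMod.card, inv_pow, h5, inv_one, mul_one, Ne, Units.val_eq_one, inv_eq_one]
    rintro rfl
    exact h.lp.ne_one (hω.symm.trans orderOf_one)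

end Kx

end Cfsg.Agent.BZ.K3
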