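import Cfsg.Agent.BZ.L.K3.GamB
import Cfsg.Agent.BZ.L.K3.RhoW
import Cfsg.Agent.BZ.L.K3.Red

/-!
# BZ / L / K3 : the geometry in the case B (helper81)

* `Go.on_of`, `Go.nT`, `Go.dec`; `Go.Sg` : the frame; `Sg.kg`, `Sg.sts`, `Sg.on`;
* **`Go.boxGe`**.
-/

set_option autoImplicit false
set_option linter.unusedSectionVars false
set_option linter.style.haveILetI false
set_option maxHeartbeats 400000

namespace Cfsg.Agent.BZ.K3.Go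

open Cfsg Subgroup Cfsg.Agent.DL Cfsg.Agent.KM Cfsg.Agent.KM.Ht Cfsg.Agent.KM.Tor Matrix Cfsg.Agent.BZ.L Cfsg.Agent.BZ.Lab
  Cfsg.Agent.Nodes.BNOf Cfsg.Agent.BZ.K3.Ga
open Cfsg.Agent.BZ.L.F2 (Zs zs_T mem_zs zs_F zs_nor coch_eq)

theorem on_of {l : ℕ} (hl : l.Prime) {K : Type} [Group K] [Finite K] {T : Subgroup K} {g : K} (hT : ∀ a ∈ T, ∀ b ∈ T, a * b = b * a)
    (hg : ∀ t ∈ T, g * t * g⁻¹ ∈ T) (h : ∀ t ∈ T, g * t * g⁻¹ = t → t ^ l = 1) : On l T g := by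
  let φ : T →* T := MonoidHom.mk' (fun t => ⟨g * t * g⁻¹ * (t : K)⁻¹, mul_mem (hg t t.2) (inv_mem t.2)⟩) fun a b => Subtype.ext (by
    show g * (a * b) * g⁻¹ * ((a : K) * b)⁻¹ = g * a * g⁻¹ * (a : K)⁻¹ * (g * b * g⁻¹ * (b : K)⁻¹)
    rw [mul_assoc _ (a : K)⁻¹, hT _ (inv_mem a.2) _ (mul_mem (hg b b.2) (inv_mem b.2))]
    group)
  let f : {t : T // ¬ l ∣ orderOf t} → {t : T // ¬ l ∣ orderOf t} := fun t => ⟨φ t, fun e => t.2 (e.trans (orderOf_map_dvd φ t.1))⟩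
  have h1 : Function.Injective f := fun a b e => by
    have h2 : φ (a.1 * b.1⁻¹) = 1 := by rw [map_mul, map_inv, mul_inv_eq_one]; exact congrArg Subtype.val e
    have h3 : (a.1 * b.1⁻¹) ^ l = 1 := Subtype.ext (h _ (a.1 * b.1⁻¹).2 (mul_inv_eq_one.1 (congrArg Subtype.val h2)))
    have h4 := (show Commute a.1 b.1⁻¹ from Subtype.ext (hT _ a.1.2 _ (inv_mem b.1.2))).orderOf_mul_dvd_mul_orderOf
    rw [orderOf_inv] at h4
    exact Subtype.ext (mul_inv_eq_one.1 (orderOf_eq_one_iff.1 (Nat.eq_one_of_dvd_coprimes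
      ((Nat.Prime.coprime_iff_not_dvd hl).2 (hl.not_dvd_mul a.2 b.2)) (orderOf_dvd_of_pow_eq_one h3) h4)))
  intro t ht h2
  obtain ⟨s, e⟩ := Finite.surjective_of_injective h1 ⟨⟨t, ht⟩, by rwa [orderOf_mk]⟩
  exact ⟨s.1, s.1.2, by rw [orderOf_coe]; exact s.2, (congrArg (fun x => (x.1 : K)) e).symm⟩

variable {p : ℕ} [Fact p.Prime] {k : Type} [Field k] [CharP k p] {Y : Type} [Group Y] {N : Type} [Fintype N]
  [DecidableEq N] {ρ : Y →* GL N k} {F : MulAut Y} {G : Subgroup Y} [IsAlgClosed k] {X : Datum p ρ F G} {l : ℕ}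
  {b : ZMod l → X.I → ℤ} {s c t x y z : Y}

theorem Zc_of (h : Kb X l b) (ht : t ∈ X.T) (hc : t ∈ centralizer (X.S (CR b) : Set Y)) : t ∈ Zc X (CR b) := by
  refine ⟨ht, fun a ha => ?_⟩
  have h2 := X.tor' (h.rtC a ha) ht 1
  rw [← hc _ (RGD.le_Sup ha (X.x_mem (h.rtC a ha) 1)), mul_inv_cancel_right, mul_one] at h2
  exact (X.x_inj a (h.rtC a ha) h2).symm

theorem cen_mono {Z Z' : Set Y} (h : X.Sz Z ⊆ X.Sz Z') : X.cen Z ≤ X.cen Z' := sup_le_sup_left (RGD.Sup_mono h) _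

/-- an element which centralises enough coroot elements lies in the torus -/
theorem nT (h : Kb X l b) {ω : kˣ} (hω : ω ^ 2 ≠ 1) (hs : s ∈ X.S (CR b))
    (hc : ∀ i j, s * X.τ (coch (X.cor (b i) - X.cor (b j)) ω) = X.τ (coch (X.cor (b i) - X.cor (b j)) ω) * s) : s ∈ X.T := by
  have : NeZero l := ⟨h.lp.ne_zero⟩
  have : Fact (1 < l) := ⟨h.lp.one_lt⟩
  let Z : Set Y := Zc X (CR b) ∪ {z | ∃ i j, z = X.τ (coch (X.cor (b i) - X.cor (b j)) ω)}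
  have hZ : Z ⊆ X.T := fun z hz => hz.elim (·.1) fun ⟨_, _, e⟩ => e ▸ X.τ_mem _
  have h0 : ∀ i j a, X.χ (b a) (X.τ (coch (X.cor (b i) - X.cor (b j)) ω)) =
      (ω ^ ((if a = i then 1 else 0 : ℤ) - if a = j then 1 else 0) : kˣ) := fun i j a => by
    rw [X.χ_τ, chr_coch, ← add_sub_add_left_eq_sub (if a = i then 1 else 0 : ℤ) _ 1, ← h.dot, ← h.dot, ← dotProduct_sub]
    rfl
  obtain ⟨c, hc', m, ⟨w, hm⟩, e, rfl⟩ := X.exists_conj_form (s := fun a : Z => (a : Y)) (t := fun a : Z => (a : Y))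
    (fun a => hZ a.2) (fun a => hZ a.2) (X.S_le_G h.rtC hs) fun a => a.2.elim (fun e => (h.comm_Zc (mem_sup_right hs) e).symm)
      fun ⟨i, j, e⟩ => e ▸ hc i j
  have h1 : X.S (X.Sz (Set.range fun a : Z => (a : Y))) ≤ ⊥ := RGD.Sup_le fun a ha => by
    obtain ⟨i, j, e1, rfl⟩ : a ∈ CR b := h.sz ▸ ⟨ha.1, fun z hz => ha.2 z ⟨⟨z, Or.inl hz⟩, rfl⟩⟩
    have h2 := ha.2 _ ⟨⟨_, Or.inr ⟨i, j, rfl⟩⟩, rfl⟩
    rw [sub_eq_add_neg, X.χ_add, X.χ_neg, h0, h0, if_pos rfl, if_pos rfl, if_neg e1, if_neg e1.symm, ← Units.val_inv_eq_inv_val,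
      ← Units.val_mul, Units.val_eq_one, ← _root_.zpow_sub] at h2
    exact (hω (by simpa using h2)).elim
  rw [mem_bot.1 (h1 hc'), one_mul] at hs ⊢
  obtain ⟨σ, hσ⟩ := h.pm_of_mem (h.mem_clo hm (mem_sup_right hs))
  refine h.mem_T_of_fix hm (mem_sup_right hs) fun i => by_contra fun e1 => ?_
  have e2 : σ i ≠ i := fun e2 => e1 (by rw [hσ, e2])
  have h2 := X.χ_rp hm (b i) (X.τ_mem (coch (X.cor (b i) - X.cor (b (σ i))) ω))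
  rw [e ⟨_, Or.inr ⟨i, σ i, rfl⟩⟩, mul_inv_cancel_right, hσ, h0, h0, if_pos rfl, if_pos rfl, if_neg e2, if_neg e2.symm, Units.val_inj,
    ← mul_inv_eq_one, ← _root_.zpow_sub] at h2
  exact hω (by simpa using congrArg (·⁻¹) h2)

variable {ε : ℤ} {A : Matrix X.R X.R ℤ}

/-- the central product -/
theorem dec (h : Ks X l ε A b) (hl : l.Prime) (h2 : l ≠ 2) {Z : Set Y}
    (hZ : ∀ a ∈ X.Sz Z, a ∈ CR b ∨ ∀ y, A *ᵥ y = ε • y → X.wt a ⬝ᵥ y = 0) (hy : y ∈ X.cen Z) :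
    ∃ s ∈ X.S (CR b), ∃ c ∈ centralizer (X.S (CR b) : Set Y), y = s * c := by
  have K := h.kb hl h2
  have : NeZero l := ⟨hl.ne_zero⟩
  let J : Subgroup Y :=
    { carrier := {y | ∃ s ∈ X.S (CR b), ∃ c ∈ centralizer (X.S (CR b) : Set Y), y = s * c}
      one_mem' := ⟨1, one_mem _, 1, one_mem _, (mul_one 1).symm⟩
      mul_mem' := by
        rintro _ _ ⟨s, hs, c, hc, rfl⟩ ⟨s', hs', c', hc', rfl⟩
        exact ⟨_, mul_mem hs hs', _, mul_mem hc hc', by rw [mul_assoc, mul_assoc, ← mul_assoc c, ← hc s' hs', mul_assoc]⟩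
      inv_mem' := by
        rintro _ ⟨s, hs, c, hc, rfl⟩
        exact ⟨_, inv_mem hs, _, inv_mem hc, by rw [hc s hs, _root_.mul_inv_rev]⟩ }
  refine (sup_le (fun t ht => ?_) (RGD.Sup_le fun a ha v hv => ?_) : X.cen Z ≤ J) hy
  · obtain ⟨s, hs, z, hz, e⟩ := K.cen_dec (mem_sup_left ht)
    exact ⟨s, hs, z, K.Zc_cen hz, e⟩
  · rcases hZ a ha with e | e
    · exact ⟨v, RGD.le_Sup e hv, 1, one_mem _, (mul_one v).symm⟩
    · exact ⟨1, one_mem _, v, h.X_le hl h2 ha.1 e hv, (one_mul v).symm⟩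

theorem lv' (h : Ks X l ε A b) {a : X.I → ℤ} (ha : X.Rt a) {ζ : kˣ} (h4 : ¬ orderOf ζ ∣ 4)
    (h0 : ∀ y, A *ᵥ y = ε • y → (∀ i j, X.wt (b i - b j) ⬝ᵥ y = 0) → X.χ a (X.τ (coch y ζ)) = 1) :
    a ∈ CR b ∨ ∀ y, A *ᵥ y = ε • y → X.wt a ⬝ᵥ y = 0 := by
  by_contra! e
  obtain ⟨y, h1, h2, h3⟩ := h.lv a ha (fun i j e' => by
    by_cases hij : i = j
    · exact ha.ne_zero (by rw [e', hij, sub_self])
    · exact e.1 ⟨i, j, hij, e'⟩) e.2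
  have h5 := h0 y h1 h2
  rw [X.χ_τ, Units.val_eq_one, chr_coch, ← orderOf_dvd_iff_zpow_eq_one] at h5
  exact h4 (Int.natCast_dvd_natCast.1 (h5.trans h3))

variable (X l b ε A) in
/-- the frame -/
structure Sg (m r n d : ℕ) (t u : ℤ) : Prop where
  sd : Sd X m r n d t u A
  ks : Ks X l ε A b
  kx : Kx X l b ε (ε * t)
  pd : ∀ {s c : Y}, s ∈ X.S (CR b) → c ∈ centralizer (X.S (CR b) : Set Y) → (F ^ m) (s * c) = s * c →
    (F ^ m) (s ^ l) = s ^ l ∧ (F ^ m) (c ^ l) = c ^ l ∧ (s * c) ^ l = s ^ l * c ^ l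
  ud : ∀ y, Ud d A y ↔ A *ᵥ y = ε • y
  ne : l ≠ p
  lr : l ≠ r
  r2 : r ≠ 2
  ul : (l : ℤ) ∣ u * ε - 1
  ur : (r : ℤ) ∣ u * ε - 1

variable (X b) in
/-- the `r`-elements which centralise the subsystem -/
def Z1 (m r : ℕ) : Set Y := Zs X m r ∩ Zc X (CR b)

theorem not_dvd_four {s : ℕ} (hs : s.Prime) (h : s ≠ 2) : ¬ s ∣ 4 := fun e =>
  h ((Nat.prime_dvd_prime_iff_eq hs Nat.prime_two).1 (hs.dvd_of_dvd_pow (show s ∣ 2 ^ 2 from e)))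

namespace Sg

variable {m r n d : ℕ} {q u : ℤ} (h : Sg X l b ε A m r n d q u)
include h

theorem mem_Zs {s : ℕ} {ζ : kˣ} (hζ : orderOf ζ = s) (hu : (s : ℤ) ∣ u * ε - 1) {y : X.R → ℤ} (hy : A *ᵥ y = ε • y) :
    X.τ (coch y ζ) ∈ Zs X m s := by
  obtain ⟨c, e⟩ := hu
  refine (mem_zs X).2 ⟨X.τ_mem _, ?_, 1, by rw [pow_one, ← map_pow, ← map_pow, ← hζ, pow_orderOf_eq_one, map_one, map_one]⟩
  rw [h.sd.pow_τ, hy, coch_eq.2 ⟨c • y, by rw [hζ, smul_smul, smul_smul, ← e]; module⟩]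

theorem exists_η : ∃ η : kˣ, orderOf η = r :=
  exists_prim p k fun e => h.sd.ne ((Nat.prime_dvd_prime_iff_eq Fact.out h.sd.rp).1 e).symm

theorem exists_ω : ∃ ω : kˣ, orderOf ω = l :=
  exists_prim p k fun e => h.ne ((Nat.prime_dvd_prime_iff_eq Fact.out h.kx.lp).1 e).symm

theorem cor_U (i j : ZMod l) : A *ᵥ (X.cor (b i) - X.cor (b j)) = ε • (X.cor (b i) - X.cor (b j)) := by
  rw [mulVec_sub, h.ks.fx, h.ks.fx, smul_sub]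

theorem sz_iff {a : X.I → ℤ} (ha : X.Rt a) : a ∈ X.Sz (Z1 X b m r) ↔ a ∈ CR b ∨ ∀ y, A *ᵥ y = ε • y → X.wt a ⬝ᵥ y = 0 := by
  refine ⟨fun e => ?_, fun e => ⟨ha, fun z hz => e.elim (hz.2.2 a) fun e => ?_⟩⟩
  · obtain ⟨η, hη⟩ := h.exists_η
    refine lv' h.ks ha (ζ := η) (hη ▸ not_dvd_four h.sd.rp h.r2) fun y h1 h2 => e.2 _ ⟨h.mem_Zs hη h.ur h1, X.τ_mem _, ?_⟩
    rintro _ ⟨i, j, -, rfl⟩
    rw [X.χ_τ, chr_coch, Units.val_eq_one]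
    exact (congrArg (η ^ ·) (h2 i j)).trans (zpow_zero η)
  · obtain ⟨c, rfl⟩ := (X.mem_T _).1 hz.2.1
    have h1 := h.sd.mon_eq (w := X.rf a) (fun y hy => by
      rw [X.Wm_rf ha, sub_mulVec, one_mulVec, vecMulVec_mulVec, e y ((h.ud y).1 hy), op_smul_eq_smul, zero_smul, sub_zero]) hz.1
    have h2 := X.wt_act (X.rf a) a
    rw [X.act_rf_self ha, map_neg, neg_vecMul, neg_eq_iff_eq_neg] at h2
    have h3 := chr_mon (X.wt a) (X.Wm (X.rf a)) c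
    rw [h1, h2, chr_neg, eq_inv_iff_mul_eq_one, ← sq] at h3
    obtain ⟨-, -, j, h4⟩ := (mem_zs X).1 hz.1
    rw [X.χ_τ, Units.val_eq_one]
    refine (pow_eq_one_iff_of_coprime (((Nat.coprime_primes Nat.prime_two h.sd.rp).2 h.r2.symm).pow_right j)).1 ⟨h3, ?_⟩
    rw [← map_pow, X.τ_inj (show X.τ (c ^ r ^ j) = X.τ 1 by rw [map_pow, h4, map_one]), map_one]

omit h in
theorem z1_T : Z1 X b m r ⊆ X.T := fun _ hz => hz.2.1

theorem mem_P1 {g : GF (F ^ m) G} : g ∈ Pt F G m r X.T ⊓ Cn X r m b ↔ (g : Y) ∈ Z1 X b m r :=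
  ⟨fun e => ⟨⟨g, e.1, rfl⟩, Zc_of h.kx.toKb (zs_T X ⟨g, e.1, rfl⟩) e.2.2⟩, fun ⟨⟨_, h1, e⟩, h2⟩ =>
    ⟨Subtype.ext e ▸ h1, fun y hy => Subtype.ext (X.T_comm (zs_T X ⟨y, hy, rfl⟩) h2.1), h.kx.Zc_cen h2⟩⟩

theorem cen1 : y ∈ X.cen (Z1 X b m r) ↔ y ∈ G ∧ y ∈ centralizer (Z1 X b m r) := by
  have := Fact.mk h.sd.rp
  rw [← HZ.Gen.cen_eq X h.sd.rw z1_T fun z hz => ((mem_zs X).1 hz.1).2.2, mem_inf]

theorem mem_M {g : GF (F ^ m) G} : g ∈ centralizer (↑(Pt F G m r X.T ⊓ Cn X r m b) : Set (GF (F ^ m) G)) ↔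
    (g : Y) ∈ centralizer (Z1 X b m r) :=
  ⟨fun e z hz => congrArg Subtype.val (e ⟨z, X.T_le_G hz.2.1, ((mem_zs X).1 hz.1).2.1⟩ (h.mem_P1.2 hz)),
    fun e z hz => Subtype.ext (e z (h.mem_P1.1 hz))⟩

theorem S_cen (hs : s ∈ X.S (CR b)) : s ∈ centralizer (Z1 X b m r) := fun _ hz => h.kx.comm_Zc (mem_sup_right hs) hz.2

/-- the `r`-part of the torus is a product -/
theorem pdec (hc : c ∈ centralizer (X.S (CR b) : Set Y)) (h1 : c ∈ centralizer (Z1 X b m r)) : c ∈ centralizer (Zs X m r) := by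
  have : NeZero l := ⟨h.kx.lp.ne_zero⟩
  intro t ht
  obtain ⟨t1, t2, j, t3⟩ := (mem_zs X).1 ht
  obtain ⟨s, hs, z, hz, rfl⟩ := h.kx.cen_dec (mem_sup_left t1)
  obtain ⟨-, h2, h3⟩ := h.pd hs (h.kx.Zc_cen hz) t2
  have h4 : z ^ r ^ j ∈ X.S (CR b) := by
    rw [Commute.mul_pow (h.kx.Zc_cen hz s hs), mul_eq_one_iff_inv_eq] at t3
    exact t3 ▸ inv_mem (pow_mem hs _)
  have h5 : z ^ l ∈ Z1 X b m r := ⟨(mem_zs X).2 ⟨pow_mem hz.1 _, h2, j, by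
    rw [← pow_mul, mul_comm, pow_mul, h.kx.Zc_pow (pow_mem hz _) h4]⟩, pow_mem hz _⟩
  obtain ⟨i, e⟩ := exists_pow_eq_self_of_coprime (x := s * z) (n := l)
    ((((Nat.coprime_primes h.kx.lp h.sd.rp).2 h.lr).pow_right j).coprime_dvd_right (orderOf_dvd_of_pow_eq_one t3))
  rw [← e, h3]
  exact ((Commute.mul_left (hc _ (pow_mem hs l)) (h1 _ h5)).pow_left i).eq

theorem decM (hy : y ∈ G) (h1 : y ∈ centralizer (Z1 X b m r)) :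
    ∃ s ∈ X.S (CR b), ∃ c ∈ centralizer (X.S (CR b) : Set Y), c ∈ centralizer (Zs X m r) ∧ y = s * c := by
  obtain ⟨s, hs, c, hc, rfl⟩ := dec h.ks h.kx.lp h.kx.l2 (fun a ha => (h.sz_iff ha.1).1 ha) (h.cen1.2 ⟨hy, h1⟩)
  exact ⟨s, hs, c, hc, h.pdec hc ((Subgroup.mul_mem_cancel_left _ (h.S_cen hs)).1 h1), rfl⟩

theorem hT (hs : s ∈ X.S (CR b)) (h1 : s ∈ centralizer (Zs X m r)) : s ∈ X.T := by
  obtain ⟨η, hη⟩ := h.exists_η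
  exact nT h.kx.toKb (ω := η) (fun e => not_dvd_four h.sd.rp h.r2 ((hη ▸ orderOf_dvd_of_pow_eq_one e).trans (by norm_num))) hs
    fun i j => (h1 _ (h.mem_Zs hη h.ur (h.cor_U i j))).symm

theorem comm_TS (hy : y ∈ G) (h1 : y ∈ centralizer (Zs X m r)) (ht : t ∈ X.T) (hs : t ∈ X.S (CR b)) : t * y = y * t := by
  obtain ⟨s, h2, c, h3, h4, rfl⟩ := h.decM hy fun z hz => h1 z hz.1
  exact Commute.mul_right (X.T_comm ht (h.hT h2 ((Subgroup.mul_mem_cancel_right _ h4).1 h1))) (h3 t hs)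

omit h in
theorem cenP {s : ℕ} {g : GF (F ^ m) G} : g ∈ centralizer (Pt F G m s X.T : Set (GF (F ^ m) G)) ↔ (g : Y) ∈ centralizer (Zs X m s) :=
  ⟨fun e _ ⟨z, hz, e'⟩ => e' ▸ congrArg Subtype.val (e z hz), fun e z hz => Subtype.ext (e z ⟨z, hz, rfl⟩)⟩

theorem lv : Lv l (centralizer (↑(Pt F G m r X.T ⊓ Cn X r m b) : Set (GF (F ^ m) G))) := by
  have z1 : Zc X (X.Sz (Z1 X b m r)) ≤ X.T := fun _ e => e.1
  obtain ⟨ω, hω⟩ := h.exists_ω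
  refine ⟨Pt F G m l (Zc X (X.Sz (Z1 X b m r))), fun g => ((W1.mem_Pt X z1).1 g.2).2.imp fun _ e => Subtype.ext e,
    fun y hy z hz => ?_, fun y hy h1 => h.mem_M.2 ?_⟩
  · have h1 := ((W1.mem_Pt X z1).1 hz).1
    exact Subtype.ext (X.cen_le_centralizer (Z := {(z : Y)}) (Set.singleton_subset_iff.2 h1.1)
      (cen_mono (Z' := {(z : Y)}) (fun a ha => ⟨ha.1, fun _ e => e ▸ h1.2 a ha⟩) (h.cen1.2 ⟨y.2.1, h.mem_M.1 hy⟩)) _ rfl)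
  · have h2 := TO.X.Cn.ppr' X h.kx.lp (Z := Zs X m l ∩ Zc X (X.Sz (Z1 X b m r))) (fun _ e => z1 e.2)
      (fun z hz => ((mem_zs X).1 hz.1).2.2) y.2.1 (fun z (hz : z ∈ Zs X m l ∩ Zc X (X.Sz (Z1 X b m r))) => by
        obtain ⟨-, e1, j, e2⟩ := (mem_zs X).1 hz.1
        exact congrArg Subtype.val (hy (⟨z, X.T_le_G hz.2.1, e1⟩ : GF (F ^ m) G) ((W1.mem_Pt X z1).2 ⟨hz.2, j, Subtype.ext e2⟩))) h1
      (by rw [← coe_pow, pow_orderOf_eq_one]; exact one_mem _)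
    refine X.cen_le_centralizer z1_T (cen_mono (Z := Zs X m l ∩ Zc X (X.Sz (Z1 X b m r))) (fun a ha => (h.sz_iff ha.1).2 (lv' h.ks ha.1 (ζ := ω)
      (hω ▸ not_dvd_four h.kx.lp h.kx.l2) fun v e1 e2 => ha.2 _ ⟨h.mem_Zs hω h.ul e1, X.τ_mem _, fun c hc => ?_⟩)) h2)
    rw [X.χ_τ, chr_coch, Units.val_eq_one]
    refine (congrArg (ω ^ ·) (?_ : X.wt c ⬝ᵥ v = 0)).trans (zpow_zero ω)
    rcases (h.sz_iff hc.1).1 hc with ⟨i, j, -, rfl⟩ | e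
    exacts [e2 i j, e v e1]

theorem kg [Finite (GF (F ^ m) G)] :
    Kg l r (Pt F G m r X.T) (Zl X m l) (Hs X m b) (Cn X r m b) (Pt F G m l (X.T ⊓ X.S (CR b))) := by
  have : NeZero l := ⟨h.kx.lp.ne_zero⟩
  have dM := fun (y : GF (F ^ m) G) hy => h.decM y.2.1 (h.mem_M.1 hy)
  have q0 : ∀ {g : GF (F ^ m) G}, g ∈ Pt F G m l (X.T ⊓ X.S (CR b)) ↔ _ := W1.mem_Pt X inf_le_left
  have t0 : ∀ g ∈ Hs X m b ⊓ centralizer (Pt F G m r X.T : Set (GF (F ^ m) G)), (g : Y) ∈ X.T := fun g hg => h.hT hg.1 (cenP.1 hg.2)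
  refine ⟨fun s hs c hc => Subtype.ext (hc.2 s hs).symm, fun g => ⟨1, Subtype.ext (Subtype.ext ?_)⟩, fun z hz y hy => ?_, inf_le_left,
    fun z hz => ?_, fun y hy => mem_normalizer_fintype fun g hg => ?_, fun y hy => mem_normalizer_fintype fun g hg => ?_,
    fun y hy h1 => ?_, fun g => (q0.1 g.2).2.imp fun _ e => Subtype.ext e,
    fun g hg => ⟨(q0.1 hg).1.2, cenP.2 fun z hz => X.T_comm (zs_T X hz) (q0.1 hg).1.1⟩, fun y hy h1 _ => ?_,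
    fun g hg y hy => Subtype.ext (h.comm_TS y.2.1 (cenP.1 hy) (t0 g hg) hg.1).symm,
    fun g hg e => (W1.mem_Pt X le_rfl).2 ⟨t0 g hg, e⟩, h.lv⟩
  · rw [pow_one]
    exact h.kx.cen_pow g.2.1 g.2.2.2
  · obtain ⟨s, hs, c, hc, -, e⟩ := dM y hy
    exact Subtype.ext (e ▸ Commute.mul_left (hz.2.2 s hs) (hc z hz.1).symm :)
  · have h1 := ((W1.mem_Pt X (S := Zc X {a | X.Rt a}) fun _ e => e.1).1 hz).1
    exact ⟨cenP.2 fun y hy => X.T_comm (zs_T X hy) h1.1, h.kx.Zc_cen ⟨h1.1, fun a ha => h1.2 a (h.kx.rtC a ha)⟩⟩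
  · obtain ⟨s, hs, c, hc, -, e⟩ := dM y hy
    show (y : Y) * g * (y : Y)⁻¹ ∈ X.S (CR b)
    rw [e, show s * c * g * (s * c)⁻¹ = s * (c * g * c⁻¹) * s⁻¹ by group, ← hc g hg, mul_inv_cancel_right]
    exact mul_mem (mul_mem hs hg) (inv_mem hs)
  · obtain ⟨s, hs, c, hc, h1, e⟩ := dM y hy
    have h2 : c * g * c⁻¹ ∈ centralizer (X.S (CR b) : Set Y) := mul_mem (mul_mem hc hg.2) (inv_mem hc)
    have h3 : (y : Y) * g * (y : Y)⁻¹ = c * g * c⁻¹ := by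
      rw [e, show s * c * g * (s * c)⁻¹ = s * (c * g * c⁻¹) * s⁻¹ by group, h2 s hs, mul_inv_cancel_right]
    exact ⟨cenP.2 (show (y : Y) * g * (y : Y)⁻¹ ∈ _ from h3 ▸ mul_mem (mul_mem h1 (cenP.1 hg.1)) (inv_mem h1)),
      show (y : Y) * g * (y : Y)⁻¹ ∈ _ from h3 ▸ h2⟩
  · obtain ⟨s, hs, c, hc, h2, e⟩ := dM y hy
    obtain ⟨h3, h4, h5⟩ := h.pd hs hc (e ▸ y.2.2)
    have h6 : s ^ l ∈ G := X.S_le_G h.kx.rtC (pow_mem hs l)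
    have h7 : c ^ l ∈ G := (Subgroup.mul_mem_cancel_left _ h6).1 (h5 ▸ e ▸ pow_mem y.2.1 l)
    obtain ⟨i, e'⟩ := exists_pow_eq_self_of_coprime (x := y) (n := l) ((Nat.Prime.coprime_iff_not_dvd h.kx.lp).2 h1)
    rw [← e', show y ^ l = ⟨_, h6, h3⟩ * ⟨_, h7, h4⟩ from Subtype.ext (by rw [coe_pow, e]; exact h5)]
    exact pow_mem (mul_mem_sup (S := Hs X m b) (T := Cn X r m b) (pow_mem hs l) ⟨cenP.2 (pow_mem h2 l), pow_mem hc l⟩) i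
  · obtain ⟨s, hs, c, hc, h2, e⟩ := dM y hy
    obtain ⟨ω, hω⟩ := h.exists_ω
    have h3 := nT h.kx.toKb (ω := ω) (fun e => not_dvd_four h.kx.lp h.kx.l2 ((hω ▸ orderOf_dvd_of_pow_eq_one e).trans (by norm_num))) hs
      fun i j => by
        obtain ⟨e1, e2, j', e3⟩ := (mem_zs X).1 (h.mem_Zs hω h.ul (h.cor_U i j))
        have h4 := congrArg Subtype.val (h1 ⟨_, X.T_le_G e1, e2⟩ (q0.2 ⟨⟨e1, h.kx.cor_S ω⟩, j', Subtype.ext e3⟩))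
        rw [coe_mul, coe_mul, e, mul_assoc, ← hc _ (h.kx.cor_S ω), ← mul_assoc, ← mul_assoc] at h4
        exact (mul_right_cancel h4).symm
    exact cenP.2 (e ▸ mul_mem (fun z hz => X.T_comm (zs_T X hz) h3) h2)

theorem sts {α : MulAut (GF (F ^ m) G)} (hα : ∀ g, (α g : Y) = F g) : StS α (Pt F G m r X.T ⊓ Cn X r m b) := fun g => by
  rw [h.mem_P1, h.mem_P1, hα]
  exact X.amb.mem_iff (H := Z1 X b m r) (fun z hz => ⟨zs_F X z hz.1, Zc_of h.kx.toKb (X.F_mem_T hz.2.1) (h.kx.F_cen (h.kx.Zc_cen hz.2))⟩) _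

theorem on [Finite (GF (F ^ m) G)] (s : GF (F ^ m) G) (w : X.W) (hx : x ∈ X.cen (Zs X m r)) (hw : X.Rp w (x * s))
    (rot : ∀ i, X.act w (b i) = b (i + 1)) : On l (Hs X m b ⊓ centralizer (Pt F G m r X.T : Set (GF (F ^ m) G))) s := by
  have : NeZero l := ⟨h.kx.lp.ne_zero⟩
  have t0 : ∀ g ∈ Hs X m b ⊓ centralizer (Pt F G m r X.T : Set (GF (F ^ m) G)), (g : Y) ∈ X.T := fun g hg => h.hT hg.1 (cenP.1 hg.2)
  have t1 : ∀ g ∈ Hs X m b ⊓ centralizer (Pt F G m r X.T : Set (GF (F ^ m) G)),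
      x * s * g * (x * s)⁻¹ ∈ X.T ⊓ X.S (CR b) ∧ (s : Y) * g * (s : Y)⁻¹ = x * s * g * (x * s)⁻¹ := fun g hg => by
    obtain ⟨e, e1, e2⟩ := h.kx.mem_TS (t0 g hg) hg.1
    have h1 : x * s * g * (x * s)⁻¹ ∈ X.T ⊓ X.S (CR b) := by
      rw [e2, conj_gl h.kx.rt hw (σ := Equiv.addRight 1) rot]
      exact ⟨X.τ_mem _, h.kx.gl_mem ((Equiv.prod_comp _ e).trans e1)⟩
    refine ⟨h1, ?_⟩
    rw [show (s : Y) * g * (s : Y)⁻¹ = x⁻¹ * (x * s * g * (x * s)⁻¹ * x) by group,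
      h.comm_TS (X.cen_le_G _ hx) (X.cen_le_centralizer (zs_T X) hx) h1.1 h1.2, inv_mul_cancel_left]
  refine on_of h.kx.lp (fun a ha c hc => Subtype.ext (X.T_comm (t0 a ha) (t0 c hc))) (fun g hg => ?_) fun g hg e => Subtype.ext ?_
  · obtain ⟨h1, h2⟩ := t1 g hg
    rw [← h2] at h1
    exact ⟨h1.2, cenP.2 fun z hz => X.T_comm (zs_T X hz) h1.1⟩
  · have h1 : ∀ i, X.χ (b (i + 1)) g = X.χ (b i) g := fun i => by
      rw [← X.χ_rp hw (b i) (t0 g hg), rot, ← (t1 g hg).2]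
      exact congrArg _ (congrArg Subtype.val e).symm
    have h2 : ∀ i, X.χ (b i) g = X.χ (b 0) g := fun i => by
      obtain ⟨j, rfl⟩ := ZMod.natCast_zmod_surjective i
      induction j with
      | zero => rw [Nat.cast_zero]
      | succ j ih => rw [Nat.cast_succ, h1, ih]
    refine h.kx.Zc_pow ⟨t0 g hg, ?_⟩ hg.1
    rintro _ ⟨i, j, -, rfl⟩
    rw [sub_eq_add_neg, X.χ_add, X.χ_neg, h2, h2 j, mul_inv_cancel₀ (X.χ_ne_zero _ _)]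

end Sg

theorem dvd_of_ord {s d : ℕ} (hs : s.Prime) {u ε : ℤ} (h : orderOf (u : ZMod s) = d) (de : (d = 1 ∧ ε = 1) ∨ (d = 2 ∧ ε = -1)) :
    (s : ℤ) ∣ u * ε - 1 := by
  have := Fact.mk hs
  rw [← ZMod.intCast_zmod_eq_zero_iff_dvd]
  rcases de with ⟨rfl, rfl⟩ | ⟨rfl, rfl⟩
  · rw [mul_one, Int.cast_sub, orderOf_eq_one_iff.1 h, Int.cast_one, sub_self]
  · have h2 := pow_orderOf_eq_one (u : ZMod s)
    rw [h, sq, mul_self_eq_one_iff] at h2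
    push_cast
    rw [h2.resolve_left fun e => by rw [e, orderOf_one] at h; omega]
    ring

open HZ.Gen in
/-- **[GE]** -/
theorem boxGe : BoxGe := by
  intro p _ q d l n c hq
  haveI := Fact.mk hq.lp
  obtain ⟨f, f0, hf⟩ := hq.pq
  by_cases hn : n * d = 0
  · refine Lg.of_forall fun m _ r _ _ _ _ _ _ _ _ _ _ _ _ _ X hC _ _ _ _ _ _ _ _ _ _ sb => absurd hn (mul_ne_zero hC.n0.ne' ?_)
    rcases sb.de with e | e <;> omega
  refine (Lg.prime.and ((Lg.gt (n * d + c + l + 2)).and (Lg.modEq hn))).mono ?_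
  rintro m ⟨hm, m1, m2⟩ r hr k _ _ Y _ N _ _ ρ F G _ X hC _ n' N' α M hF hM ε A b sb
  haveI := Fact.mk hr.rp
  have m3 := hr.mr
  have q1 : 0 < q := hf ▸ pow_pos (Fact.out : p.Prime).pos f
  have q0 : (q : ℤ) ≠ 0 := Int.natCast_ne_zero.2 q1.ne'
  have h0 := Nat.pos_of_ne_zero (right_ne_zero_of_mul hn)
  obtain ⟨A', a3, a2⟩ := hC.lq 1
  rw [X.Wm_one, one_mul] at a3
  rw [Nat.cast_one, one_smul] at a2
  obtain rfl : A = A' := smul_right_injective _ q0 (sb.mx.symm.trans a3)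
  have od : orderOf ((((q : ℤ) ^ m : ℤ)) : ZMod r) = d := by
    rw [Int.cast_pow, Int.cast_natCast, orderOf_pow' _ hm.ne_zero, hr.ord, Nat.gcd_eq_right (dvd_mul_left m d), Nat.mul_div_cancel _ hm.pos]
  have dl := hq.dl
  rw [if_neg sb.l2] at dl
  have kx := sb.kx hq.lp q1
  have h : Sg X l b ε A m r n d q ((q : ℤ) ^ m) := ⟨⟨hm.pos, h0, q0, sb.mx,
    by rw [sb.mx, smul_pow, pow_eq_pow_of_modEq (m2.of_mul_right d) a2, pow_one], a2, hr.rp, ?_,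
    Nat.not_dvd_of_pos_of_lt (Nat.pos_of_ne_zero hn) (by omega), Nat.not_dvd_of_pos_of_lt Nat.card_pos (by have := hC.w; omega), od⟩,
    sb.ks, kx, (kx.pow hm.pos (hm.odd_of_ne_two (by omega))).pow_dec, fun y => ?_, hq.ne, by omega, by omega, dvd_of_ord hq.lp (by
      rw [Int.cast_pow, Int.cast_natCast, pow_eq_pow_of_modEq (m2.of_mul_left n) (dl ▸ pow_orderOf_eq_one _), pow_one, dl]) sb.de,
    dvd_of_ord hr.rp od sb.de⟩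
  · exact ⟨⟨_, h.kg⟩, h.sts hF.cm, fun s w x hx => h.on s w hx⟩
  · rintro rfl
    rw [hf, Int.cast_pow, Int.cast_natCast, Nat.cast_pow, ZMod.natCast_self, zero_pow f0.ne', zero_pow hm.ne_zero, orderOf_zero] at od
    omega
  · rcases sb.de with ⟨rfl, rfl⟩ | ⟨rfl, rfl⟩
    · rw [Rd.ud_one, one_smul]
    · rw [Rd.ud_two, neg_one_smul]

end Cfsg.Agent.BZ.K3.Go
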