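import Cfsg.Agent.BZ.L.Sub
import Cfsg.Agent.BZ.Lab.Main
import Cfsg.Agent.BZ.Lab.Cor
import Cfsg.Agent.S0188
import Cfsg.Agent.H672.Over
import Cfsg.Agent.ODD.Red.Bas
import Cfsg.Agent.Blocks.OrbitSum
import Cfsg.Agent.Blocks.Osima

/-!
# BZ / L / K3 : homomorphisms which are bijective on the `l`-regular elements (helper51)

* `Pj` : the image is normal and contains the `l`-regular elements, the kernel is a central `l`-group;
* `Pj.sum`, `Pj.om`, `Pj.card`, `Pj.deg`, `exists_irr`; `up_prod` : `Up` for central products.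
-/

set_option autoImplicit false
set_option linter.unusedSectionVars false
set_option linter.style.haveILetI false

namespace Cfsg.Agent.BZ.K3.Kt

open Cfsg Subgroup Cfsg.Agent.HZ.Gen Cfsg.Agent.BZ.Lab Cfsg.Agent.BZ.Lab.Om Cfsg.Agent.Characters.Core Cfsg.Agent.Blocks
  Cfsg.Agent.Blocks.Basic Cfsg.Agent.Blocks.LocalRing
open scoped ComplexConjugate Classical

variable {l r : ℕ} {M : Ideal AlgInt} {X Y : Type} [Group X] [Fintype X] [Group Y] [Fintype Y] {π : Y →* X}

/-- `π` is an isomorphism up to `l`-groups -/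
structure Pj (l : ℕ) {X Y : Type} [Group X] [Group Y] (π : Y →* X) : Prop where
  nrm : π.range.Normal
  ker : ∀ y, π y = 1 → y ∈ center Y ∧ ∃ k, y ^ l ^ k = 1
  reg : ∀ x, ¬ l ∣ orderOf x → x ∈ π.range

theorem Pj.inj (hl : l.Prime) (h : Pj l π) {y y' : Y} (hy : ¬ l ∣ orderOf y) (hy' : ¬ l ∣ orderOf y') (e : π y = π y') : y = y' := by
  obtain ⟨h1, h2⟩ := h.ker (y' * y⁻¹) (by rw [map_mul, map_inv, e, mul_inv_cancel])
  by_contra h3
  refine hy' ?_
  have h4 := dvd_ord_mul hl (mem_center_iff.1 h1 y).symm h2 (fun k => h3 (mul_inv_eq_one.1 k).symm) hy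
  rwa [inv_mul_cancel_right] at h4

theorem Pj.surj (hl : l.Prime) (h : Pj l π) {x : X} (hx : ¬ l ∣ orderOf x) : ∃ y, ¬ l ∣ orderOf y ∧ π y = x := by
  have : Fact l.Prime := ⟨hl⟩
  obtain ⟨y, rfl⟩ := h.reg x hx
  obtain ⟨u, v, rfl, h1, ⟨k, h2⟩, h3⟩ := PPart.exists_isPPart l y
  refine ⟨v, h3, ?_⟩
  rw [map_mul] at hx ⊢
  rw [show π u = 1 from by_contra fun e => hx (dvd_ord_mul hl (h1.map π) ⟨k, by rw [← map_pow, ← h2, pow_orderOf_eq_one, map_one]⟩ e
    fun k => h3 (k.trans (orderOf_map_dvd π v))), one_mul]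

theorem Pj.sum (hl : l.Prime) (h : Pj l π) {f : X → ℂ} (hf : ∀ x, f x ≠ 0 → ¬ l ∣ orderOf x) (Φ : X → ℂ) :
    ∑ y, tc l (f ∘ π) y * Φ (π y) = ∑ x, f x * Φ x := by
  rw [← Finset.sum_filter_of_ne (p := fun y => ¬ l ∣ orderOf y) fun y _ e k => e (by rw [tc_sing k, zero_mul])]
  refine Finset.sum_of_injOn π (fun y hy y' hy' => h.inj hl (Finset.mem_filter.1 hy).2 (Finset.mem_filter.1 hy').2) (by simp)
    (fun x _ hx => ?_) fun y hy => by rw [tc_reg (Finset.mem_filter.1 hy).2]; rfl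
  rw [show f x = 0 from by_contra fun e => hx ((h.surj hl (hf x e)).imp fun y k => ⟨by simpa using k.1, k.2⟩), zero_mul]

theorem Pj.om (hl : l.Prime) (h : Pj l π) {η : Y → ℂ} {χ f : X → ℂ} (hη : IsIrrCharacter Y η) (hχ : IsIrrCharacter X χ)
    (h0 : classInner (χ ∘ π) η ≠ 0) (hf : IsClassFunction X f) (h1 : ∀ x, f x ≠ 0 → ¬ l ∣ orderOf x) :
    om χ f = om η (tc l (f ∘ π)) := by
  have e1 : ∀ g, ∑ y, tc l (f ∘ π) y * χ (π y * g) = Om.om χ f * χ g := fun g => by
    rw [show Om.om χ f * χ g = ∑ x, f x * χ (x * g) by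
      simp only [Om.om, Over.sum_mul_shift hχ hf g, Finset.sum_div, mul_div_assoc]]
    exact h.sum hl h1 fun x => χ (x * g)
  have e2 : ∀ g, ∑ y, tc l (f ∘ π) y * η (y * g) = Om.om η (tc l (f ∘ π)) * η g := fun g =>
    (Over.sum_mul_shift hη (tc_cls (comp_cls hf π)) g).trans (by simp only [Om.om, Finset.sum_div, mul_div_assoc])
  rw [Basic.classInner_def] at h0
  refine mul_right_cancel₀ (right_ne_zero_of_mul h0) ?_
  simp only [Finset.mul_sum, Function.comp_apply, ← Orthogonality.irr_apply_inv hη]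
  calc ∑ g, Om.om χ f * (χ (π g) * η g⁻¹) = ∑ y, ∑ g, tc l (f ∘ π) y * (χ (π (y * g)) * η g⁻¹) := by
        rw [Finset.sum_comm]
        simp only [← mul_assoc, ← e1, Finset.sum_mul, map_mul]
    _ = ∑ y, ∑ g, tc l (f ∘ π) y * (χ (π g) * η (y * g⁻¹)) := Finset.sum_congr rfl fun y _ =>
        Fintype.sum_equiv (Equiv.mulLeft y) _ _ fun g => by
          rw [Equiv.coe_mulLeft, Basic.irr_mul_comm hη y, mul_inv_rev, inv_mul_cancel_right]
    _ = _ := by
        rw [Finset.sum_comm]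
        refine Finset.sum_congr rfl fun g _ => ?_
        rw [mul_left_comm, ← e2, Finset.mul_sum]
        exact Finset.sum_congr rfl fun _ _ => mul_left_comm _ _ _

theorem Pj.idx (hl : l.Prime) (hr : r.Prime) (hne : l ≠ r) (h : Pj l π) : ¬ r ∣ π.range.index := fun e =>
  (L.Sb.core hl hr hne h.reg).2 (e.trans (index_dvd_of_le (normalCore_le _)))

theorem Pj.card (hl : l.Prime) (hr : r.Prime) (hne : l ≠ r) (h : Pj l π) :
    (Nat.card X).factorization r = (Nat.card Y).factorization r := by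
  have : Fact l.Prime := ⟨hl⟩
  have h1 : IsPGroup l π.ker := fun y => (h.ker y y.2).2.imp fun _ e => Subtype.ext e
  obtain ⟨k, hk⟩ := IsPGroup.iff_card.1 h1
  have h2 : ¬ r ∣ Nat.card π.ker := fun e => hne ((Nat.prime_dvd_prime_iff_eq hr hl).1 (hr.dvd_of_dvd_pow (hk ▸ e))).symm
  rw [← π.range.card_mul_index, ← π.ker.card_mul_index, index_ker, Nat.factorization_mul Nat.card_pos.ne' index_ne_zero_of_finite,
    Nat.factorization_mul Nat.card_pos.ne' Nat.card_pos.ne', Finsupp.add_apply, Finsupp.add_apply,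
    Nat.factorization_eq_zero_of_not_dvd h2, Nat.factorization_eq_zero_of_not_dvd (h.idx hl hr hne), add_comm]

theorem Pj.deg (hl : l.Prime) (hr : r.Prime) (hne : l ≠ r) (h : Pj l π) {η : Y → ℂ} {χ : X → ℂ} (hη : IsIrrCharacter Y η)
    (hχ : IsIrrCharacter X χ) (h0 : classInner (χ ∘ π) η ≠ 0) : (charDegree χ).factorization r = (charDegree η).factorization r := by
  have := h.nrm
  obtain ⟨ξ, h1, h2, h3⟩ := (H672.over_comp_iff π.range.subtype π.rangeRestrict (isIrr_isCharacter hχ) hη).1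
    ((H672.over_iff _ _ _).2 h0)
  have h4 : ξ ∘ π.rangeRestrict = η := by_contra fun e =>
    (H672.over_iff _ _ _).1 h3 (classInner_irr_ne (isIrr_comp _ π.rangeRestrict_surjective h1) hη e)
  obtain ⟨⟨c, h5⟩, h6⟩ := H672.charDegree_dvd_of_over π.range hχ h1 h2
  rw [h5, Nat.mul_div_cancel_left _ (charDegree_pos h1)] at h6
  have h7 : charDegree η = charDegree ξ := by rw [← h4, charDegree, charDegree, Function.comp_apply, map_one]
  rw [h5, h7, Nat.factorization_mul (charDegree_pos h1).ne' (ne_zero_of_dvd_ne_zero index_ne_zero_of_finite h6), Finsupp.add_apply,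
    Nat.factorization_eq_zero_of_not_dvd fun e => h.idx hl hr hne (e.trans h6), add_zero]

/-- a character which is trivial on the kernel lies below an irreducible character -/
theorem exists_irr (π : Y →* X) {η : Y → ℂ} (hη : IsIrrCharacter Y η) (h : ∀ y, π y = 1 → η y = η 1) :
    ∃ χ : IrrCharacter X, classInner ((χ : X → ℂ) ∘ π) η ≠ 0 := by
  obtain ⟨ξ, h1, h2⟩ := ODD.Red.exists_quot π.rangeRestrict π.rangeRestrict_surjective hη fun y hy =>
    h y (congrArg Subtype.val hy)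
  obtain ⟨χ, h3, h4⟩ := H672.exists_over_subtype π.range h1
  refine ⟨⟨χ, h3⟩, (H672.over_iff _ _ _).1 ((H672.over_comp_iff π.range.subtype π.rangeRestrict (isIrr_isCharacter h3) hη).2
    ⟨ξ, h1, h4, (H672.over_iff _ _ _).2 ?_⟩)⟩
  rw [show ξ ∘ π.rangeRestrict = η from funext h2, classInner_irr_self hη]
  exact one_ne_zero

theorem scal {χ : X → ℂ} (hχ : IsIrrCharacter X χ) {z : X} (hz : z ∈ center X) (g : X) : χ (z * g) = χ z / χ 1 * χ g := by
  obtain ⟨c, h1, -⟩ := ODD.Red.exists_central hχ hz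
  have h2 := h1 1
  rw [mul_one] at h2
  rw [h1, h2, mul_div_cancel_right₀ _ (irr_one_ne_zero hχ)]

/-- the central characters agree -/
theorem cen_eq {η : Y → ℂ} {χ : X → ℂ} (hη : IsIrrCharacter Y η) (hχ : IsIrrCharacter X χ) (h0 : classInner (χ ∘ π) η ≠ 0) {y : Y}
    (hy : y ∈ center Y) (hx : π y ∈ center X) : χ (π y) / χ 1 = η y / η 1 := by
  obtain ⟨w, h1, h2⟩ := CharDeep.DegreeBound.exists_omega hη hy
  have h3 := inner_shift (z := y) (a := χ (π y) / χ 1) (b := w) (fun g => by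
    rw [Function.comp_apply, map_mul, scal hχ hx, Function.comp_apply]) (fun g => by rw [← mem_center_iff.1 hy g, h2]) h0
  have h4 : w * conj w = 1 := by rw [Complex.mul_conj, Complex.normSq_eq_norm_sq, h1]; simp
  rw [← one_mul y, h2, mul_div_cancel_right₀ _ (irr_one_ne_zero hη), one_mul]
  linear_combination w * h3 - χ (π y) / χ 1 * h4

theorem om_ideal (hM : IsPModular l M) {γ A : X → ℂ} (hγ : IsIrrCharacter X γ) (hA : IsClassFunction X A)
    (h : ∀ x, MemLocalIdeal M (A x)) : MemLocalIdeal M (om γ A) := by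
  rw [om_eq (irr_isClassFunction hγ) hA]
  exact memLocalIdeal_sum hM _ _ fun c _ => memLocalIdeal_mul_right hM (h _) (Osima.memLocalRing_centralChar hM hγ _)

/-- the central characters of the principal block -/
theorem om_prin (hM : IsPModular l M) {ρ : IrrCharacter X} (hρ : ρ ∈ principalBlock M X) {Q : Subgroup X} (hQ : IsPGroup l Q)
    {G : X → ℂ} (hG : IsClassFunction X G) (h : ∀ x, MemLocalRing M (G x)) :
    MemLocalIdeal M (om ρ G - ∑ x with x ∈ centralizer (Q : Set X), G x) := by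
  have : Fact l.Prime := ⟨hM.1⟩
  letI := MulAction.compHom X ((MulAut.conj : X →* MulAut X).comp Q.subtype)
  obtain ⟨a, ha⟩ := OrbitSum.sum_eq_sum_fixed_add_smul hQ (fun x => (⟨G x, h x⟩ : locRing hM)) fun u x => Subtype.ext (hG x u)
  have h1 := congrArg Subtype.val ha
  simp only [AddSubmonoidClass.coe_finsetSum, Subring.coe_add, nsmul_eq_mul, Subring.coe_mul, Subring.coe_natCast] at h1
  have h2 := om_same hM (ψ := ⟨_, isIrrCharacter_one⟩) hρ hG h
  have h3 : om (fun _ => 1) G = ∑ x with x ∈ centralizer (Q : Set X), G x + l * a := by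
    simp only [om, div_one, mul_one]
    rw [h1]
    congr 1
    refine Finset.sum_congr (Finset.filter_congr fun x _ => ⟨fun k q hq => ?_, fun k q => ?_⟩) fun _ _ => rfl
    · exact mul_inv_eq_iff_eq_mul.1 (k ⟨q, hq⟩)
    · exact mul_inv_eq_iff_eq_mul.2 (k q q.2)
  have h4 := memLocalIdeal_sub hM (memLocalIdeal_mul_right hM (memLocalIdeal_prime hM) a.2) h2
  rw [show Om.om (⟨_, isIrrCharacter_one⟩ : IrrCharacter X).1 G = _ from h3] at h4
  convert h4 using 1
  ring

/-- **Brauer induction in central products** -/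
theorem up_prod (hM : IsPModular l M) {L H C T : Type} [Group L] [Fintype L] [Group H] [Fintype H] [Group C] [Fintype C] [Group T]
    [Fintype T] {π : H × C →* X} {ϖ : T × C →* L} {ι : L →* X} {i : T →* H} (h1 : Pj l π) (h2 : Pj l ϖ)
    (hι : Function.Injective ι) (hi : Function.Injective i) (hc : ∀ y, ι (ϖ y) = π (i y.1, y.2)) {Q : Subgroup H}
    (hQ : IsPGroup l Q) (hq : ∀ t, i t ∈ centralizer (Q : Set H))
    (hq' : ∀ h ∈ centralizer (Q : Set H), ¬ l ∣ orderOf h → h ∈ i.range) {ρ : IrrCharacter H}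
    (hρ : ρ ∈ principalBlock M H) {γ : C → ℂ} (hγ : IsIrrCharacter C γ) {μ : T → ℂ} (hμ : IsIrrCharacter T μ)
    (h3 : ∀ t, ¬ l ∣ orderOf t → μ t = μ 1) {ψ : L → ℂ} (hψ : IsIrrCharacter L ψ) {χ : X → ℂ} (hχ : IsIrrCharacter X χ)
    (h4 : classInner (χ ∘ π) (fun y => ρ.1 y.1 * γ y.2) ≠ 0) (h5 : classInner (ψ ∘ ϖ) (fun y => μ y.1 * γ y.2) ≠ 0) :
    Up l M ι ψ χ := up_iff.2 fun x hx => by
  have h6 : ∀ y, cl x y ≠ 0 → ¬ l ∣ orderOf y := fun y hy => ord_eq (cl_ne hy) ▸ hx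
  have h7 : ∀ h c, tc l (cl x ∘ π) (h, c) ≠ 0 → ¬ l ∣ orderOf h := fun h c e k =>
    e (tc_sing (k.trans (orderOf_map_dvd (MonoidHom.fst H C) (h, c))))
  have h8 : ∀ t c, tc l ((cl x ∘ ι) ∘ ϖ) (t, c) = tc l (cl x ∘ π) (i t, c) := fun t c => by
    unfold tc
    rw [Prod.orderOf_mk, Prod.orderOf_mk, orderOf_injective i hi, Function.comp_apply, Function.comp_apply, hc, Function.comp_apply]
  have h9 := tc_cls (l := l) (comp_cls (cl_cls x) π)
  rw [← ic_id (irr_isClassFunction hχ), ic_eq, ic_eq, MonoidHom.coe_id, Function.comp_id,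
    h1.om hM.1 (S0188.isIrr_outer ρ.2 hγ) hχ h4 (cl_cls x) h6, h2.om hM.1 (S0188.isIrr_outer hμ hγ) hψ h5 (comp_cls (cl_cls x) ι)
      fun y hy => orderOf_injective ι hι y ▸ h6 _ hy]
  have h10 : ∀ y, MemLocalRing M (tc l (cl x ∘ π) y) := fun y => by
    unfold tc
    split_ifs
    exacts [memLocalRing_zero hM, cl_ring hM _ _]
  generalize tc l (cl x ∘ π) = F, tc l ((cl x ∘ ι) ∘ ϖ) = F' at h7 h8 h9 h10
  have h11 : ∀ h c d, F (h, d * c * d⁻¹) = F (h, c) := fun h c d => by simpa using h9 (h, c) (1, d)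
  have h12 := om_ideal hM hγ (A := fun c => om ρ.1 (fun h => F (h, c)) - ∑ h with h ∈ centralizer (Q : Set H), F (h, c))
    (fun c d => by simp only [h11]) fun c => om_prin hM hρ hQ (fun h d => by simpa using h9 (h, c) (d, 1)) fun h => h10 _
  convert h12 using 1
  simp only [om, Fintype.sum_prod_type_right, ← Finset.sum_sub_distrib, sub_mul, Finset.sum_mul]
  refine Finset.sum_congr rfl fun c _ => congrArg₂ _ (Finset.sum_congr rfl fun h _ => ?_) (Finset.sum_of_injOn i hi.injOn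
    (fun t _ => Finset.mem_filter.2 ⟨Finset.mem_univ _, hq t⟩) (fun h hh k => ?_) fun t _ => ?_)
  · rw [Prod.fst_one, Prod.snd_one, mul_assoc, div_mul_div_comm]
  · rw [show F (h, c) = 0 from by_contra fun e => k (by simpa using hq' h (Finset.mem_filter.1 hh).2 (h7 h c e)), zero_mul]
  · by_cases e : F (i t, c) = 0
    · rw [h8, e, zero_mul, zero_mul]
    · rw [h8, h3 t (orderOf_injective i hi t ▸ h7 _ c e), Prod.fst_one, Prod.snd_one, mul_div_mul_left _ _ (irr_one_ne_zero hμ)]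

end Cfsg.Agent.BZ.K3.Kt
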