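import Cfsg.Agent.BZ.L.K3.KbA
import Cfsg.Agent.BZ.L.K3.KbP
import Cfsg.Agent.H967.TI.PropC

/-!
# BZ / L / K3 : the character of the intermediate Levi subgroup (helper51)

* `Kt.mu` : the multiplication map of two commuting subgroups; `Kt.triv` : the step 2 of the paper proof;
* `boxChi`, `boxKb`.
-/

set_option autoImplicit false
set_option linter.unusedSectionVars false
set_option linter.style.haveILetI false

namespace Cfsg.Agent.BZ.K3

open Cfsg Subgroup Cfsg.Agent.HZ.Gen Cfsg.Agent.BZ.Lab Cfsg.Agent.Characters.Core Cfsg.Agent.Blocks Cfsg.Agent.Blocks.Basic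

namespace Kt

variable {l r : ℕ} {M : Ideal AlgInt} {K : Type} [Group K] [Fintype K]

theorem exists_over (hM : IsPModular l M) {b : Set (IrrCharacter K)} (hb : IsPBlock M b) {A : Type} [Group A] (j : A →* K)
    (hj : ∀ a, j a ∈ center K) (hp : IsPGroup l A) (ω : A →* ℂˣ) (hk : ∀ a, j a = 1 → ω a = 1) :
    ∃ ψ ∈ b, ∀ a, (ψ : K → ℂ) (j a) / (ψ : K → ℂ) 1 = ω a := by
  have : Fact l.Prime := ⟨hM.1⟩
  obtain ⟨ψ, h1, h2⟩ := Cor.exists_over hM hb (U := j.range) (by rintro _ ⟨a, rfl⟩; exact hj a)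
    (hp.of_surjective _ j.rangeRestrict_surjective)
    (j.rangeRestrict.liftOfSurjective j.rangeRestrict_surjective ⟨ω, fun a ha => hk a (congrArg Subtype.val ha)⟩)
  refine ⟨ψ, h1, fun a => ?_⟩
  have h3 := h2 (j.rangeRestrict a)
  rw [MonoidHom.liftOfRightInverse_comp_apply, MonoidHom.coe_rangeRestrict] at h3
  rw [h3, mul_div_cancel_right₀ _ (irr_one_ne_zero ψ.2)]

theorem deg_outer {A C : Type} [Group A] [Finite A] [Group C] [Finite C] {α : A → ℂ} {γ : C → ℂ} (hα : IsIrrCharacter A α)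
    (hγ : IsIrrCharacter C γ) : (charDegree fun y : A × C => α y.1 * γ y.2).factorization r =
      (charDegree α).factorization r + (charDegree γ).factorization r := by
  rw [charDegree_of_eq (n := charDegree α * charDegree γ) (by
      rw [Nat.cast_mul, ← irr_one_eq_charDegree hα, ← irr_one_eq_charDegree hγ]; rfl),
    Nat.factorization_mul (charDegree_pos hα).ne' (charDegree_pos hγ).ne', Finsupp.add_apply]

theorem deg_cen {D : Subgroup K} (hD : D ≤ center K) (χ : IrrCharacter K) :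
    (Nat.card D).factorization r + (charDegree (χ : K → ℂ)).factorization r ≤ (Nat.card K).factorization r := by
  rw [← D.card_mul_index, Nat.factorization_mul Nat.card_pos.ne' index_ne_zero_of_finite, Finsupp.add_apply]
  exact Nat.add_le_add_left (Nat.factorization_le_factorization_of_dvd_right (H639.charDegree_dvd_index hD χ)
    (charDegree_pos χ.2).ne' index_ne_zero_of_finite) _

section mu

variable {A C S : Subgroup K}

/-- the multiplication map -/
def mu (hA : A ≤ S) (hC : C ≤ S) (h : A ≤ centralizer (C : Set K)) : A × C →* S :=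
  (inclusion hA).noncommCoprod (inclusion hC) fun a c => Subtype.ext (h a.2 c c.2).symm

variable {hA : A ≤ S} {hC : C ≤ S} {h : A ≤ centralizer (C : Set K)}

theorem mu_coe (y : A × C) : (mu hA hC h y : K) = y.1 * y.2 := rfl

theorem mu_pj (nA : S ≤ normalizer (A : Set K)) (nC : S ≤ normalizer (C : Set K)) (hp : IsPGroup l ↥(A ⊓ C))
    (reg : ∀ y ∈ S, ¬ l ∣ orderOf y → ∃ a ∈ A, ∃ c ∈ C, a * c = y) : Pj l (mu hA hC h) where
  nrm := ⟨by
    rintro _ ⟨⟨a, c⟩, rfl⟩ g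
    exact ⟨(⟨_, (mem_normalizer_iff.1 (nA g.2) a).1 a.2⟩, ⟨_, (mem_normalizer_iff.1 (nC g.2) c).1 c.2⟩), Subtype.ext (by
      simp only [mu_coe, coe_mul, coe_inv]; group)⟩⟩
  ker := fun ⟨a, c⟩ e => by
    have h1 : (a : K) = (c : K)⁻¹ := eq_inv_of_mul_eq_one_left (congrArg Subtype.val e)
    have h2 : (a : K) ∈ C := h1 ▸ inv_mem c.2
    have h3 : (c : K) ∈ A := inv_mem_iff.1 (h1 ▸ a.2)
    obtain ⟨k, hk⟩ := hp ⟨c, h3, c.2⟩
    have h4 : (c : K) ^ l ^ k = 1 := congrArg Subtype.val hk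
    exact ⟨mem_center_iff.2 fun y => Prod.ext (Subtype.ext (h y.1.2 a h2).symm) (Subtype.ext (h h3 y.2 y.2.2)),
      k, Prod.ext (Subtype.ext (show (a : K) ^ l ^ k = 1 by rw [h1, inv_pow, h4, inv_one])) (Subtype.ext h4)⟩
  reg := fun y hy => by
    obtain ⟨a, ha, c, hc, e⟩ := reg y y.2 (by rwa [orderOf_coe])
    exact ⟨(⟨a, ha⟩, ⟨c, hc⟩), Subtype.ext e⟩

variable [Fintype A] [Fintype C] [Fintype S] {α : A → ℂ} {γ : C → ℂ} {χ : S → ℂ} (hα : IsIrrCharacter A α)
  (hγ : IsIrrCharacter C γ) (hχ : IsIrrCharacter S χ) (h0 : classInner (χ ∘ mu hA hC h) (fun y => α y.1 * γ y.2) ≠ 0)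
include hα hγ hχ h0

theorem mu_fst (a : A) (ha : (a : K) ∈ centralizer (S : Set K)) : χ (inclusion hA a) / χ 1 = α a / α 1 := by
  have h1 : mu hA hC h (a, 1) = inclusion hA a := Subtype.ext (mul_one _)
  have h2 := cen_eq (S0188.isIrr_outer hα hγ) hχ h0 (y := (a, 1)) (mem_center_iff.2 fun y =>
    Prod.ext (Subtype.ext (ha _ (hA y.1.2))) ((mul_one _).trans (one_mul _).symm))
    (h1 ▸ mem_center_iff.2 fun y => Subtype.ext (ha _ y.2))
  rwa [h1, Prod.fst_one, Prod.snd_one, mul_div_mul_right _ _ (irr_one_ne_zero hγ)] at h2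

theorem mu_snd (c : C) (hc : (c : K) ∈ centralizer (S : Set K)) : χ (inclusion hC c) / χ 1 = γ c / γ 1 := by
  have h1 : mu hA hC h (1, c) = inclusion hC c := Subtype.ext (one_mul _)
  have h2 := cen_eq (S0188.isIrr_outer hα hγ) hχ h0 (y := (1, c)) (mem_center_iff.2 fun y =>
    Prod.ext ((mul_one _).trans (one_mul _).symm) (Subtype.ext (hc _ (hC y.2.2))))
    (h1 ▸ mem_center_iff.2 fun y => Subtype.ext (hc _ y.2))
  rwa [h1, Prod.fst_one, Prod.snd_one, mul_div_mul_left _ _ (irr_one_ne_zero hα)] at h2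

end mu

/-- the `l`-regular elements of `T` act trivially in the members of the block -/
theorem triv (hM : IsPModular l M) {P T : Subgroup K} {b : Set (IrrCharacter (centralizer (P : Set K)))} (hb : IsPBlock M b) {g : K}
    (hg : g ∈ normalizer (P : Set K)) (hs : Stab (centralizer (P : Set K)).subtype b g) (hT : T ≤ centralizer (P : Set K))
    (hT' : T ≤ centralizer (centralizer (P : Set K) : Set K)) (ho : On l T g) {ψ : IrrCharacter (centralizer (P : Set K))}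
    (hψ : ψ ∈ b) (t : T) (ht : ¬ l ∣ orderOf t) : ψ.1 (inclusion hT t) / ψ.1 1 = 1 := by
  have : Fact l.Prime := ⟨hM.1⟩
  have := Fintype.ofFinite (centralizer (P : Set K))
  obtain ⟨s, h1, h2, h3⟩ := ho t t.2 (by rwa [orderOf_coe])
  obtain ⟨σ, hσ⟩ := exists_aut (subtype_injective _) (range_subtype _) hg
  have h4 : ∀ u : T, inclusion hT u ∈ center (centralizer (P : Set K)) := fun u =>
    mem_center_iff.2 fun y => Subtype.ext (hT' u.2 y y.2)
  have h5 : σ (inclusion hT ⟨s, h1⟩) = inclusion hT (t * ⟨s, h1⟩) := Subtype.ext ((hσ _).trans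
    (show g * s * g⁻¹ = (t : K) * s by rw [h3, inv_mul_cancel_right]))
  have h6 := hs ψ hψ ⟨_, isIrr_comp σ.symm.toMonoidHom σ.symm.surjective ψ.2⟩ fun y y' e => by
    rw [show y' = σ y from Subtype.ext (e.trans (hσ y).symm)]
    exact congrArg ψ.1 (σ.symm_apply_apply y)
  have : (zpowers (σ (inclusion hT ⟨s, h1⟩))).Normal := ⟨fun x hx y => by
    rwa [mem_center_iff.1 (zpowers_le_of_mem (h5 ▸ h4 _) hx) y, mul_inv_cancel_right]⟩
  have h7 := H967.TI.apply_div_of_sameBlock hM (zpowers (σ (inclusion hT ⟨s, h1⟩))) (by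
    rwa [Nat.card_zpowers, σ.orderOf_eq, orderOf_injective _ (inclusion_injective hT), orderOf_mk])
    (Covering.sameBlock_of_mem hM.2.1.isPrime hb hψ h6) (mem_zpowers _)
  have h8 : ψ.1 (σ (inclusion hT ⟨s, h1⟩)) = ψ.1 (inclusion hT ⟨s, h1⟩) := by
    have h9 : ψ.1 (σ.symm (σ (inclusion hT ⟨s, h1⟩))) / ψ.1 (σ.symm 1) = _ := h7.symm
    rw [σ.symm_apply_apply, map_one] at h9
    exact ((div_left_inj' (irr_one_ne_zero ψ.2)).1 h9).symm
  rw [h5, map_mul, scal ψ.2 (h4 t)] at h8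
  refine mul_right_cancel₀ (fun e => irr_one_ne_zero ψ.2 ?_) (h8.trans (one_mul _).symm)
  rw [← mul_inv_cancel (inclusion hT ⟨s, h1⟩), scal ψ.2 (h4 _), e, zero_div, zero_mul]

end Kt

open Kt Kb in
/-- **the character of the intermediate Levi subgroup** -/
theorem boxChi : BoxChi := by
  intro l r K _ _ M P Z H C Q₁ _ b hM G hr hne hP ab hZ pZ hb ht g hg sg og χ z R
  have : Fact r.Prime := ⟨hr⟩
  have hl := hM.1
  have := Fintype.ofFinite (centralizer (P : Set K))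
  have := Fintype.ofFinite (centralizer (↑(P ⊓ C) : Set K))
  have := Fintype.ofFinite C
  have := Fintype.ofFinite ↥(H ⊓ centralizer (P : Set K))
  have r1 : ∀ y ∈ centralizer (↑(P ⊓ C) : Set K), ¬ l ∣ orderOf y → ∃ a ∈ H, ∃ c ∈ C, a * c = y := fun y hy k =>
    Set.mem_mul.1 ((Set.ext_iff.1 (coe_mul_of_left_le_normalizer_right H C ((h_le G).trans G.nC)) y).1 (G.reg y hy k))
  have p1 : Pj l (mu (h_le G) (G.cl.trans le_M) G.hc) := mu_pj G.nH G.nC G.int r1
  have p2 : Pj l (mu (inf_le_right : H ⊓ centralizer (P : Set K) ≤ _) G.cl (inf_le_left.trans G.hc)) :=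
    mu_pj ((le_centralizer_iff.1 G.tc).trans (centralizer_le_normalizer _)) (le_M.trans G.nC)
      (G.int.to_le (inf_le_inf_right _ inf_le_left)) fun y hy k => by
        obtain ⟨a, ha, c, hc, rfl⟩ := r1 y (le_M hy) k
        exact ⟨a, ⟨ha, (mul_mem_cancel_right (G.cl hc)).1 hy⟩, c, hc, rfl⟩
  have c1 : H ⊓ C ≤ centralizer (centralizer (P : Set K) : Set K) := (inf_le_inf_left _ G.cl).trans G.tc
  have c2 : ∀ {S : Subgroup K}, Z ≤ centralizer (S : Set K) := fun {_} => hZ.trans (center_le_centralizer _)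
  obtain ⟨ω, hω⟩ := exists_omega χ.2 (inclusion (inf_le_left : H ⊓ C ≤ H)) fun u =>
    mem_center_iff.2 fun y => Subtype.ext (G.hc y.2 u u.2.2).symm
  obtain ⟨ψ, hψ, h1⟩ := Kt.exists_over hM hb (mu c2 ((inf_le_right : H ⊓ C ≤ C).trans G.cl) c2)
    (fun y => mem_center_iff.2 fun x => Subtype.ext (mul_mem (c2 y.1.2) (c1 y.2.2) x x.2))
    (fun y => by
      obtain ⟨i, hi⟩ := pZ y.1
      obtain ⟨j, hj⟩ := G.int y.2
      exact ⟨i + j, Prod.ext (by rw [Prod.pow_fst, pow_add, pow_mul, hi, one_pow]; rfl)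
        (by rw [Prod.pow_snd, pow_add, mul_comm, pow_mul, hj, one_pow]; rfl)⟩)
    (ω.comp (MonoidHom.snd _ _)) fun y e => Units.ext (mul_right_cancel₀ (irr_one_ne_zero χ.2) (by
      rw [Units.val_one, one_mul]
      refine (hω y.2 1).symm.trans ((congrArg _ (mul_one _)).trans (R.ov _ ?_))
      show (y.2 : K) ∈ Z
      rw [(eq_inv_of_mul_eq_one_right (congrArg Subtype.val e) : (y.2 : K) = (y.1 : K)⁻¹)]
      exact Z.inv_mem y.1.2))
  obtain ⟨⟨_, k⟩, h2⟩ := L.Sb.under (mu (inf_le_right : H ⊓ centralizer (P : Set K) ≤ _) G.cl (inf_le_left.trans G.hc)) ψ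
  obtain ⟨μ, γ, hμ, hγ, rfl⟩ := (S0188.result _).1 k
  have h3 := mu_snd hμ hγ ψ.2 h2
  obtain ⟨η, h4⟩ := exists_irr (mu (h_le G) (G.cl.trans le_M) G.hc) (S0188.isIrr_outer χ.2 hγ) fun y e => by
    have e1 : (y.1 : K) = (y.2 : K)⁻¹ := eq_inv_of_mul_eq_one_left (congrArg Subtype.val e)
    have e2 : (y.2 : K) ∈ H ⊓ C := ⟨H.inv_mem_iff.1 (e1 ▸ y.1.2), y.2.2⟩
    have e3 := hω ⟨_, e2⟩ y.1
    have e4 := (h3 y.2 (c1 e2)).symm.trans ((congrArg (fun x => ψ.1 x / ψ.1 1) (Subtype.ext (one_mul _).symm)).trans (h1 (1, ⟨_, e2⟩)))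
    rw [show inclusion inf_le_left ⟨_, e2⟩ * y.1 = 1 from Subtype.ext (by rw [coe_mul, e1]; exact mul_inv_cancel _)] at e3
    rw [Prod.fst_one, Prod.snd_one, e3, (div_eq_iff (irr_one_ne_zero hγ)).1 e4, ← mul_assoc, mul_comm (χ.1 _)]
    rfl
  have h5 : ∀ c : C, (c : K) ∈ centralizer (centralizer (↑(P ⊓ C) : Set K) : Set K) → ψ.1 (inclusion G.cl c) = ψ.1 1 →
      η.1 (inclusion (G.cl.trans le_M) c) / η.1 1 = 1 := fun c hc e => by
    rw [mu_snd χ.2 hγ η.2 h4 c hc, ← h3 c (centralizer_le (SetLike.coe_subset_coe.2 le_M) hc), e, div_self (irr_one_ne_zero ψ.2)]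
  have c3 : P ⊓ C ≤ centralizer (centralizer (↑(P ⊓ C) : Set K) : Set K) := le_centralizer_iff.1 le_rfl
  refine ⟨ψ, hψ, η, up_prod hM p1 p2 (inclusion_injective _) (inclusion_injective inf_le_left) (fun _ => rfl)
    (Q := Q₁.subgroupOf H) G.qp.comap_subtype (fun t q hq => Subtype.ext (G.tc t.2 q (G.qh hq).2))
    (fun x hx e => ⟨⟨x, x.2, G.cq x (h_le G x.2) (fun q hq => congrArg Subtype.val (hx ⟨q, (G.qh hq).1⟩ hq))
      (by rwa [orderOf_coe])⟩, rfl⟩) R.pr hγ hμ (fun t e => (div_eq_one_iff_eq (irr_one_ne_zero hμ)).1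
        ((mu_fst hμ hγ ψ.2 h2 t (G.tc t.2)).symm.trans (triv hM hb hg sg _ G.tc og hψ t e))) ψ.2 η.2 h4 h2, ⟨fun a ha x => ?_, ?_⟩,
    fun a ha => (div_eq_one_iff_eq (irr_one_ne_zero η.2)).1 (h5 ⟨a, G.zc ha⟩ (c2 ha) ((div_eq_one_iff_eq (irr_one_ne_zero ψ.2)).1
      ((congrArg (fun x => ψ.1 x / ψ.1 1) (Subtype.ext (mul_one _).symm)).trans ((h1 (⟨a, ha⟩, 1)).trans ?_)))), ?_⟩
  · rw [scal η.2 (mem_center_iff.2 fun y => Subtype.ext (c3 ha y y.2)), show η.1 a / η.1 1 = 1 from h5 ⟨a, ha.2⟩ (c3 ha)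
      ((congrArg _ (mul_one _).symm).trans ((ht ψ hψ).1 _ ha.1 1)), one_mul]
  · have d1 := p1.card hl hr hne
    have d2 := p2.card hl hr hne
    have d3 := p1.deg hl hr hne (S0188.isIrr_outer χ.2 hγ) η.2 h4
    have d4 := p2.deg hl hr hne (S0188.isIrr_outer hμ hγ) ψ.2 h2
    have d5 := (ht ψ hψ).2
    have d6 := R.dz
    have d7 := deg_cen (r := r) (D := ⊤) (fun t _ => mem_center_iff.2 fun y => Subtype.ext (G.tc t.2 y y.2.2)) ⟨μ, hμ⟩
    have d8 := deg_cen (r := r) (D := (P ⊓ C).subgroupOf _) (fun a ha => mem_center_iff.2 fun y => Subtype.ext (c3 ha y y.2)) η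
    have d9 : P.subgroupOf _ ≤ ((P.subgroupOf _).prod (P.subgroupOf C)).map
        (mu (inf_le_right : H ⊓ centralizer (P : Set K) ≤ _) G.cl (inf_le_left.trans G.hc)) := fun x hx => by
      obtain ⟨j, hj⟩ := hP ⟨x, hx⟩
      obtain ⟨y, e1, rfl⟩ := p2.surj hl (x := x) (not_dvd_of_r hl hr hne (ord_of_mem hP.comap_subtype hx))
      have e2 : y ^ r ^ j = 1 := p2.inj hl (fun e => e1 (e.trans (orderOf_pow_dvd _))) (by rw [orderOf_one]; exact hl.not_dvd_one)
        (by rw [map_pow, map_one]; exact Subtype.ext (congrArg Subtype.val hj :))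
      have e3 : (y.1 : K) ∈ P := G.tr _ y.1.2 ⟨j, congrArg (fun u => (u.1 : K)) e2⟩
      exact ⟨y, ⟨e3, (mul_mem_cancel_left e3).1 hx⟩, rfl⟩
    have d10 := Nat.factorization_le_factorization_of_dvd_right (a := r) ((card_dvd_of_le d9).trans (card_map_dvd _ _))
      Nat.card_pos.ne' Nat.card_pos.ne'
    have d11 := L.Sb.fac_le (r := r) (subtype_injective (P.subgroupOf (H ⊓ centralizer (P : Set K))))
    rw [Nat.card_congr (prodEquiv _ _).toEquiv, Nat.card_congr (subgroupOfEquivOfLe ab).toEquiv, ← inf_subgroupOf_right P C,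
      Nat.card_prod, Nat.card_congr (subgroupOfEquivOfLe (inf_le_right : P ⊓ C ≤ C)).toEquiv,
      Nat.factorization_mul Nat.card_pos.ne' Nat.card_pos.ne', Finsupp.add_apply] at d10
    rw [Nat.card_prod, Nat.factorization_mul Nat.card_pos.ne' Nat.card_pos.ne', Finsupp.add_apply] at d1 d2
    rw [deg_outer χ.2 hγ] at d3
    rw [deg_outer hμ hγ] at d4
    rw [card_top] at d7
    rw [Nat.card_congr (subgroupOfEquivOfLe (inf_le_left.trans (ab.trans le_M))).toEquiv] at d8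
    dsimp only at d7
    omega
  · rw [MonoidHom.comp_apply, MonoidHom.coe_snd, map_one, Units.val_one]
  · refine (H672.over_iff _ _ _).1 ?_
    rw [← MonoidHom.noncommCoprod_comp_inl (inclusion (h_le G)) (inclusion (G.cl.trans le_M)) fun a c =>
      Subtype.ext (G.hc a.2 c c.2).symm]
    refine (H672.over_comp_iff _ _ (isIrr_isCharacter η.2) χ.2).2 ⟨_, S0188.isIrr_outer χ.2 hγ, (H672.over_iff _ _ _).2 h4,
      (H672.over_iff _ _ _).2 ?_⟩
    rw [show (fun y : H × C => χ.1 y.1 * γ y.2) ∘ MonoidHom.inl H C = γ 1 • χ.1 from funext fun y => mul_comm _ _,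
      classInner_smul_left, classInner_irr_self χ.2, mul_one]
    exact irr_one_ne_zero hγ

/-- **[KB]** -/
theorem boxKb : BoxKb := boxKb_of boxChi

end Cfsg.Agent.BZ.K3
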