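import Cfsg.Agent.BZ.L.K3.RhoD
import Cfsg.Agent.BZ.L.K3.RhoW
import Cfsg.Agent.BZ.Lab.Uf
import Cfsg.Agent.DL.St.Main

/-!
# BZ / L / K3 : the Deligne-Lusztig character of the Coxeter torus (helper13)
-/

set_option autoImplicit false
set_option linter.unusedSectionVars false

namespace Cfsg.Agent.BZ.K3.Rs

open Cfsg Cfsg.Lie Subgroup Cfsg.Agent.BZ.Lab Cfsg.Agent.DL Cfsg.Agent.DL.Uni Cfsg.Agent.DL.Asm Cfsg.Agent.KM.Ht Cfsg.Agent.KM.Tor
  Cfsg.Agent.Nodes.Reps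
open scoped Classical

/-- characters of `l`-power order in general position give members of the principal block -/
theorem dl_pr {Γ : Type} [Group Γ] {p l : ℕ} [Fact p.Prime] {M : Ideal AlgInt} {H T : Subgroup Γ} {A : Set (Subgroup Γ)}
    {R : Subgroup Γ → (Γ → ℂ) →ₗ[ℂ] (Γ → ℂ)} (S : Full p H A R) (hM : IsPModular l M) (hp : l ≠ p) (hT : T ∈ A) {θ : Γ → ℂ}
    (hθ : IsLin (T ⊓ H) θ) (hg : GenPos H T θ) (h1 : ∀ t ∈ T ⊓ H, ¬ l ∣ orderOf t → θ t = 1) :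
    ∃ χ : IrrCharacter H, χ ∈ principalBlock M H ∧ (∀ z : H, z ∈ center H → (χ : H → ℂ) z = θ z * (χ : H → ℂ) 1) ∧
      ∀ g : H, (∀ h ∈ H, h * jsp p (g : Γ) * h⁻¹ ∉ T) → (χ : H → ℂ) g = 0 := by
  obtain ⟨S, ⟨St, D⟩, -⟩ := S
  have := S.finH
  have := S.finT T
  have := Fintype.ofFinite H
  have := Fintype.ofFinite ↥(T ⊓ H)
  refine ⟨⟨_, D.irr_of_genPos S hT hθ hg⟩, ?_, fun z hz => ?_, fun g hg => ?_⟩
  · by_contra hn
    have h2 := boxUf.oth hM (ψ := ⟨1, Characters.Core.isIrr_one⟩) (χ := ⟨_, D.irr_of_genPos S hT hθ hg⟩) hn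
    have h3 : PConst p H fun g => if l ∣ orderOf g then 0 else 1 := ⟨fun g _ h _ => by
      simp only [← MulAut.conj_apply, MulEquiv.orderOf_eq], fun s _ u _ hs ⟨j, hu⟩ hc => by
      simp only [Commute.orderOf_mul_eq_mul_orderOf_of_coprime hc (hu ▸ (((Fact.out : p.Prime).coprime_iff_not_dvd.2 hs).symm.pow_right j)),
        (hu ▸ ((Nat.coprime_primes hM.1 Fact.out).2 hp).pow_right j : l.Coprime (orderOf u)).dvd_mul_right]⟩
    have h4 := S.triv T hT ((fun g => if l ∣ orderOf g then 0 else 1) * θ)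
    rw [ip_congr (S.pconst T hT _ θ h3) fun _ _ => rfl, ip_congr (H := T ⊓ H) (f' := fun g => if l ∣ orderOf g then 0 else 1)
      (fun t ht => by
        rw [Pi.mul_apply]
        split_ifs with e
        exacts [zero_mul _, by rw [h1 t ht e, one_mul]]) fun _ _ => rfl, ip_eq_sum, ip_eq_sum] at h4
    simp only [uf, res, Pi.one_apply, map_one, mul_one, div_one, Pi.smul_apply, smul_eq_mul, ← Finset.mul_sum, Finset.sum_filter,
      mul_eq_zero_iff_left (D.eps_ne S hT)] at h2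
    simp only [Pi.one_apply, map_one, mul_one, ite_mul, zero_mul, one_mul, orderOf_coe, ← ite_not (l ∣ _)] at h4
    rw [h2, mul_zero, eq_comm, mul_eq_zero_iff_left (inv_ne_zero (S.cardT_ne T)), Finset.sum_boole, Nat.cast_eq_zero,
      Finset.card_eq_zero, Finset.filter_eq_empty_iff] at h4
    exact h4 (Finset.mem_univ 1) (by rw [orderOf_one, Nat.dvd_one]; exact hM.1.ne_one)
  · have hc : ∀ h ∈ H, h * z = z * h := fun h hh => congrArg Subtype.val (mem_center_iff.1 hz ⟨h, hh⟩)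
    change eps H R St T * R T θ z = θ z * (eps H R St T * R T θ 1)
    rw [D.R_central S z.2 hc hT, S.R_uni hT θ H.one_mem isUni_one, hθ.one]
    ring
  · change eps H R St T * R T θ g = 0
    rw [S.R_eq_zero hT θ g.2 fun h hh e => absurd e (hg h hh), mul_zero]

theorem exists_emb (A : Type) [Group A] [Finite A] [IsCyclic A] : ∃ ι : A →* ℂˣ, Function.Injective ι := by
  have hne : NeZero (Nat.card A) := ⟨Nat.card_pos.ne'⟩
  have hc : Nat.card A = Nat.card (rootsOfUnity (Nat.card A) ℂ) := by rw [Complex.card_rootsOfUnity]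
  exact ⟨(rootsOfUnity (Nat.card A) ℂ).subtype.comp (mulEquivOfCyclicCardEq hc).toMonoidHom,
    Subtype.val_injective.comp (mulEquivOfCyclicCardEq hc).injective⟩

/-- the `l`-part of a character with values in a field -/
theorem exists_θ {A k : Type} [Group A] [Finite A] [Field k] {l : ℕ} (hl : l.Prime) (f : A →* kˣ) :
    ∃ θ : A →* ℂˣ, (∀ t, ¬ l ∣ orderOf t → θ t = 1) ∧ (∀ t, f t = 1 → θ t = 1) ∧ ∀ t j, t ^ l ^ j = 1 → θ t = 1 → f t = 1 := by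
  have : Finite f.range := Finite.of_surjective _ f.rangeRestrict_surjective
  obtain ⟨κ, hκ⟩ := exists_emb f.range
  obtain ⟨a, c, h2, h3⟩ := Nat.exists_eq_pow_mul_and_not_dvd (Nat.card_pos (α := A)).ne' l hl.ne_one
  have h4 : ∀ t, ((powMonoidHom c).comp (κ.comp f.rangeRestrict)) t = 1 ↔ f t ^ c = 1 := fun t => by
    rw [MonoidHom.comp_apply, powMonoidHom_apply, MonoidHom.comp_apply, ← map_pow, map_eq_one_iff _ hκ, Subtype.ext_iff]
    rfl
  refine ⟨_, fun t ht => (h4 t).2 ?_, fun t ht => (h4 t).2 (by rw [ht, one_pow]), fun t j ht e => ?_⟩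
  · rw [← map_pow, orderOf_dvd_iff_pow_eq_one.1 (((hl.coprime_iff_not_dvd.2 ht).symm.pow_right a).dvd_of_dvd_mul_left
      (h3 ▸ orderOf_dvd_natCard t)), map_one]
  · exact (pow_eq_one_iff_of_coprime ((hl.coprime_iff_not_dvd.2 h2).pow_left j)).1 ⟨by rw [← map_pow, ht, map_one], (h4 t).1 e⟩

theorem boxRhL : BoxRhL := by
  intro p _ k _ _ Y _ N _ _ ρ F G _ X l r b ε u M K h1 hr h2 hrl hp hrp hM
  have : NeZero l := ⟨K.lp.ne_zero⟩
  obtain ⟨n, o, y, hy, hn⟩ := K.exists_ro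
  obtain ⟨w, hw, -⟩ := o.rp
  have S := St.full (X.sub Kb.Zc_le K.gSz K.cen_eq)
  have hT : cj y X.T ∈ tori (X.sub Kb.Zc_le K.gSz K.cen_eq) :=
    ⟨y, mem_sup_right hy, rfl, (X.stable_iff (X.S_le_G K.rtC hy)).2 (hn ▸ ⟨w, hw⟩)⟩
  have hy' : y ∈ X.T ⊔ X.S (CR b) := mem_sup_right hy
  have hC : X.T ⊔ X.S (CR b) ≤ G := sup_le X.T_le_G (X.S_le_G K.rtC)
  have tw : ∀ g, F g = g ↔ n * F (y⁻¹ * g * y) * n⁻¹ = y⁻¹ * g * y := fun g => by
    rw [hn, map_mul, map_mul, map_inv, show y⁻¹ * F y * ((F y)⁻¹ * F g * F y) * (y⁻¹ * F y)⁻¹ = y⁻¹ * F g * y by group,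
      mul_left_inj, mul_right_inj]
  have := S.sys.finT (cj y X.T)
  let f : ↥(cj y X.T ⊓ GF F (X.T ⊔ X.S (CR b))) →* kˣ := MonoidHom.mk' (fun t => Units.mk0 _ (X.χ_ne_zero (b 0) (y⁻¹ * t * y)))
    fun s t => Units.ext (by
      rw [Units.val_mul, Units.val_mk0, Units.val_mk0, Units.val_mk0, ← X.χ_mul _ (mem_cj.1 s.2.1) (mem_cj.1 t.2.1), coe_mul]
      congr 1
      group)
  have hf : ∀ t, f t = 1 ↔ X.χ (b 0) (y⁻¹ * t * y) = 1 := fun t => Units.ext_iff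
  obtain ⟨θ, t1, t2, t3⟩ := exists_θ K.lp f
  obtain ⟨χ, c1, c2, c3⟩ := dl_pr S hM hp hT (isLin_lin θ) (fun g hg ⟨g1, g2⟩ => by
    by_contra hn'
    obtain ⟨t, ht, s1, ⟨j, s2⟩, s3⟩ := K.shift o h1 hp (m := y⁻¹ * g * y) (X.mem_NN_of_conj (hC (mul_mem (mul_mem
      (inv_mem hy') hg.1) hy')) fun t ht => by
        have e := g1 ▸ conj_mem_cj (g := g).2 (conj_mem_cj (g := y).2 ht)
        rw [mem_cj] at e
        simpa only [mul_assoc, mul_inv_rev, inv_inv] using e)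
      (mul_mem (mul_mem (inv_mem hy') hg.1) hy') ((tw g).1 hg.2) fun e => hn' (mem_cj.2 e)
    have e1 : y⁻¹ * (y * t * y⁻¹) * y = t := by group
    have s4 : y * t * y⁻¹ ∈ cj y X.T ⊓ GF F (X.T ⊔ X.S (CR b)) := ⟨conj_mem_cj.2 ht, mem_GF.2 ⟨mul_mem (mul_mem hy'
      (mem_sup_left ht)) (inv_mem hy'), (tw _).2 (e1.symm ▸ s1)⟩⟩
    have s5 : g * (y * t * y⁻¹) * g⁻¹ ∈ cj y X.T ⊓ GF F (X.T ⊔ X.S (CR b)) :=
      ⟨g1 ▸ conj_mem_cj.2 s4.1, (GF F _).mul_mem ((GF F _).mul_mem hg s4.2) (inv_mem hg)⟩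
    have s6 := g2 _ s4
    rw [lin_apply θ s4, lin_apply θ s5, Units.val_inj, ← mul_inv_eq_one, ← map_inv, ← map_mul] at s6
    have s7 := t3 _ j (Subtype.ext (by
      rw [coe_pow, coe_mul, coe_inv, Commute.mul_pow (S.sys.comm _ hT _ s5 _ (inv_mem s4)), inv_pow, conj_pow, conj_pow, s2]
      simp)) s6
    rw [map_mul, map_inv, mul_inv_eq_one, Units.ext_iff] at s7
    refine s3 (Eq.trans ?_ (s7.trans (congrArg (X.χ (b 0)) e1)))
    exact congrArg (X.χ (b 0)) (show _ = y⁻¹ * (g * (y * t * y⁻¹) * g⁻¹) * y by group)) fun t ht e => by rw [lin_apply θ ht, t1 _ (by rwa [← orderOf_coe]), Units.val_one]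
  refine ⟨χ, c1, fun g hg g1 ⟨j, g2⟩ => c3 g fun x hx e => g1 ?_, fun z hz ⟨j, z1⟩ => ?_⟩
  · have g3 : (g : Y) ^ r ^ j = 1 := congrArg Subtype.val g2
    rw [jsp_of_ss fun e' => hrp ((Nat.prime_dvd_prime_iff_eq Fact.out hr).1 ((Fact.out : p.Prime).dvd_of_dvd_pow
      (e'.trans (orderOf_dvd_of_pow_eq_one g3)))).symm] at e
    have g5 : y⁻¹ * (x * g * x⁻¹) * y = y⁻¹ * x * g * (y⁻¹ * x)⁻¹ := by group
    have g4 := K.r_triv o hr h2 hrl (j := j) (mem_cj.1 e) (mul_mem (mul_mem (inv_mem hy)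
      (((sup_le (X.T_le_normalizer K.rtC) le_normalizer : X.T ⊔ X.S (CR b) ≤ normalizer (X.S (CR b) : Set Y)) hx.1 _).1 hg)) hy)
      ((tw _).1 (mul_mem (mul_mem hx g.2) (inv_mem hx)).2) (by rw [g5, conj_pow, g3, mul_one, mul_inv_cancel])
    rw [g5, conj_eq_one_iff] at g4
    exact Subtype.ext g4
  · have z2 : y⁻¹ * z * y = z := by rw [mul_assoc, K.comm_Zc (mem_sup_right hy) hz, inv_mul_cancel_left]
    have z3 : (z : Y) ∈ cj y X.T ⊓ GF F (X.T ⊔ X.S (CR b)) := ⟨mem_cj.2 (z2.symm ▸ hz.1), z.2⟩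
    rw [c2 z (mem_center_iff.2 fun g => Subtype.ext (K.comm_Zc g.2.1 hz).symm), mul_eq_right₀ (Characters.Central.irr_one_ne_zero χ.2),
      lin_apply θ z3, Units.val_eq_one, ← congrArg (X.χ (b 0)) z2]
    exact ⟨fun e => (hf _).1 (t3 _ j (Subtype.ext (show (z : Y) ^ l ^ j = 1 from congrArg Subtype.val z1)) e), fun e => t2 _ ((hf _).2 e)⟩

end Cfsg.Agent.BZ.K3.Rs
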