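import Cfsg.Agent.BZ.L.K3.Defs
import Cfsg.Agent.RC.B.Ln
import Cfsg.Agent.KM.Tor.TW

/-!
# BZ / L / K3 : a subsystem of type `A (l - 1)` in coordinates (helper13)
-/

set_option autoImplicit false
set_option linter.unusedSectionVars false

namespace Cfsg.Agent.BZ.K3

open Cfsg Cfsg.Lie Subgroup Matrix Cfsg.Agent.DL Cfsg.Agent.KM.Ht Cfsg.Agent.KM.Tor Cfsg.Agent.KM.Tor.TW Cfsg.Agent.RC.B.Ln
  Cfsg.Agent.Nodes.Reps Cfsg.Agent.Nodes.Coroot Cfsg.Agent.Nodes.BNOf Cfsg.Agent.Tits.Roots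
open Cfsg.Agent.KM.Si (ZL)

variable {p : ℕ} [Fact p.Prime] {k : Type} [Field k] [CharP k p] {Y : Type} [Group Y] {N : Type} [Fintype N]
  [DecidableEq N] {ρ : Y →* GL N k} {F : MulAut Y} {G : Subgroup Y} [IsAlgClosed k] {X : Datum p ρ F G} {l : ℕ}
  {b : ZMod l → X.I → ℤ} {a c : X.I → ℤ}

theorem dot_cor (x : X.I → ℤ) (hc : X.Rt c) : X.wt x ⬝ᵥ X.cor c = cpr X.cs X.h x c := X.pair_cor hc x

theorem orth_symm (ha : X.Rt a) (hc : X.Rt c) (h : X.wt a ⬝ᵥ X.cor c = 0) : X.wt c ⬝ᵥ X.cor a = 0 := by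
  have := Fintype.ofFinite X.W
  rw [dot_cor _ hc, cpr_zero_iff _ _ _ hc] at h
  rwa [dot_cor _ ha, cpr_zero_iff _ _ _ ha, form_comm]

theorem g_of_mx (ha : X.Rt a) {u ε : ℤ} (hε : ε = 1 ∨ ε = -1) (hu : 0 < ε * u) (h : X.Mx *ᵥ X.cor a = u • X.cor a) :
    X.g a = ε • a := by
  have hg := X.g_root a ha
  have hP := X.q_pos a
  rw [X.Mx_cor ha] at h
  have h1 := congrArg (X.wt a ⬝ᵥ ·) h
  have h2 := congrArg (X.wt (X.g a) ⬝ᵥ ·) h
  simp only [dotProduct_smul, smul_eq_mul, dot_cor _ ha, dot_cor _ hg, cpr_self _ _ ha, cpr_self _ _ hg] at h1 h2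
  have hu0 : u ≠ 0 := fun e => by simp [e] at hu
  by_cases e1 : a = X.g a
  · rw [← e1, cpr_self _ _ ha] at h1
    rcases hε with rfl | rfl
    · rw [← e1, one_smul]
    · omega
  by_cases e2 : a = -X.g a
  · have e3 : X.g a = -a := by rw [eq_neg_iff_add_eq_zero, add_comm, ← eq_neg_iff_add_eq_zero]; exact e2
    rw [← dot_cor _ hg, e3, X.cor_neg ha, dotProduct_neg, dot_cor _ ha, cpr_self _ _ ha] at h1
    rcases hε with rfl | rfl
    · omega
    · rw [e3, neg_smul, one_smul]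
  have h3 := Base.cpr_mul_lt ha hg e1 e2
  have h4 : (p : ℤ) ^ X.ex a * u * (cpr X.cs X.h a (X.g a) * cpr X.cs X.h (X.g a) a - 4) = 0 := by
    linear_combination (u * cpr X.cs X.h (X.g a) a) * h1 - (2 * u) * h2
  have h5 := (mul_eq_zero.1 h4).resolve_left (mul_ne_zero hP.ne' hu0)
  omega

/-- the roots -/
def CR (b : ZMod l → X.I → ℤ) : Set (X.I → ℤ) := {a | ∃ i j, i ≠ j ∧ a = b i - b j}

theorem neg_CR (h : a ∈ CR b) : -a ∈ CR b := let ⟨i, j, h1, h2⟩ := h; ⟨j, i, h1.symm, by rw [h2, neg_sub]⟩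

variable (X l b) in
/-- the frame -/
structure Kb : Prop where
  lp : l.Prime
  l2 : l ≠ 2
  rt : ∀ i, X.Rt (b i)
  one : ∀ i j, i ≠ j → X.wt (b i) ⬝ᵥ X.cor (b j) = 1
  sep : ∀ a, X.Rt a → a ∉ CR b → ∃ y, (∀ i j, X.wt (b i - b j) ⬝ᵥ y = 0) ∧ X.wt a ⬝ᵥ y ≠ 0

variable (X l b) in
/-- the frame with the action of `F` -/
structure Kx (ε u : ℤ) : Prop extends Kb X l b where
  sg : ε = 1 ∨ ε = -1
  pos : 0 < ε * u
  mx : ∀ i, X.Mx *ᵥ X.cor (b i) = u • X.cor (b i)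

/-- the coordinates -/
noncomputable def gl [NeZero l] (b : ZMod l → X.I → ℤ) : (ZMod l → kˣ) →* (X.R → kˣ) where
  toFun a := ∏ i, coch (X.cor (b i)) (a i)
  map_one' := by simp
  map_mul' a a' := by simp [Finset.prod_mul_distrib]

theorem gl_apply [NeZero l] (e : ZMod l → kˣ) : gl b e = ∏ i, coch (X.cor (b i)) (e i) := rfl

theorem chr_gl' [NeZero l] (x : X.R → ℤ) (e : ZMod l → kˣ) : chr x (gl b e) = ∏ i, e i ^ (x ⬝ᵥ X.cor (b i)) := by
  rw [gl_apply, map_prod]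
  exact Finset.prod_congr rfl fun i _ => chr_coch _ _ _

theorem mon_gl [NeZero l] (B : Matrix X.R X.R ℤ) (e : ZMod l → kˣ) : mon B (gl b e) = ∏ i, coch (B *ᵥ X.cor (b i)) (e i) := by
  rw [gl_apply, map_prod]
  exact Finset.prod_congr rfl fun i _ => mon_coch _ _ _

theorem gl_single [NeZero l] (i : ZMod l) (e : kˣ) : gl b (Pi.mulSingle i e) = coch (X.cor (b i)) e := by
  rw [gl_apply, Finset.prod_eq_single i (fun j _ hj => by rw [Pi.mulSingle_eq_of_ne hj, map_one]) fun h => absurd (Finset.mem_univ i) h,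
    Pi.mulSingle_eq_same]

namespace Kb

variable (h : Kb X l b)
include h

theorem dot (i j : ZMod l) : X.wt (b i) ⬝ᵥ X.cor (b j) = 1 + if i = j then 1 else 0 := by
  split_ifs with e
  · rw [e]; exact pr_self (h.rt j)
  · exact h.one i j e

theorem act_b {i j : ZMod l} (e : i ≠ j) : X.act (X.rf (b j)) (b i) = b i - b j := by
  rw [act_rf (h.rt j), show pr X (b i) (b j) = 1 from h.one i j e, one_smul]

theorem rt_al {i j : ZMod l} (e : i ≠ j) : X.Rt (b i - b j) := h.act_b e ▸ (h.rt i).act _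

theorem rtC : ∀ a ∈ CR b, X.Rt a := fun _ ⟨_, _, h1, h2⟩ => h2 ▸ h.rt_al h1

theorem cor_al {i j : ZMod l} (e : i ≠ j) : X.cor (b i - b j) = X.cor (b i) - X.cor (b j) := by
  rw [← h.act_b e, X.cor_act _ (h.rt i), X.Wm_rf (h.rt j), sub_mulVec, one_mulVec, vecMulVec_mulVec, h.one j i e.symm]
  simp

theorem act_al {i j : ZMod l} (e : i ≠ j) (s : ZMod l) : X.act (X.rf (b i - b j)) (b s) = b (Equiv.swap i j s) := by
  rw [act_rf (h.rt_al e), pr, h.cor_al e, dotProduct_sub, h.dot, h.dot]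
  by_cases e1 : s = i
  · subst e1; simp [e]
  by_cases e2 : s = j
  · subst e2; simp [e1]
  · simp [e1, e2, Equiv.swap_apply_of_ne_of_ne e1 e2]

theorem sz : X.Sz (Zc X (CR b)) = CR b := Set.ext fun a => ⟨fun ha => by
  by_contra hn
  obtain ⟨y, h1, h2⟩ := h.sep a ha.1 hn
  refine h2 (eq_zero_of_zpow (k := k) fun e => ?_)
  have h3 := ha.2 (X.τ (coch y e)) ⟨X.τ_mem _, fun _ ⟨i, j, _, h4⟩ => by
    rw [h4, X.χ_τ, chr_coch, Units.val_eq_one]
    exact (congrArg (e ^ ·) (h1 i j)).trans (zpow_zero e)⟩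
  rwa [X.χ_τ, chr_coch, Units.val_eq_one] at h3, fun ha => ⟨h.rtC a ha, fun _ hz => hz.2 a ha⟩⟩

theorem cen_eq : X.cen (Zc X (CR b)) = X.T ⊔ X.S (CR b) := by rw [Datum.cen, h.sz]

omit h in
theorem Zc_le : (Zc X (CR b) : Set Y) ⊆ X.T := fun _ hz => hz.1

theorem comm_Zc {y z : Y} (hy : y ∈ X.T ⊔ X.S (CR b)) (hz : z ∈ Zc X (CR b)) : z * y = y * z :=
  X.cen_le_centralizer Zc_le (h.cen_eq ▸ hy) z hz

theorem Zc_cen : Zc X (CR b) ≤ centralizer (X.S (CR b) : Set Y) := fun _ hz _ hy => (h.comm_Zc (mem_sup_right hy) hz).symm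

theorem cor_S {i j : ZMod l} (e : kˣ) : X.τ (coch (X.cor (b i) - X.cor (b j)) e) ∈ X.S (CR b) := by
  by_cases hij : i = j
  · rw [hij, sub_self, show coch (0 : X.R → ℤ) e = 1 from funext fun _ => zpow_zero _, map_one]
    exact one_mem _
  · rw [← h.cor_al hij]
    exact cor_mem (Ψ := CR b) (h.rt_al hij) ⟨i, j, hij, rfl⟩ (neg_CR ⟨i, j, hij, rfl⟩) e

variable [NeZero l]

theorem chr_gl (s : ZMod l) (e : ZMod l → kˣ) : chr (X.wt (b s)) (gl b e) = e s * ∏ i, e i := by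
  simp only [chr_gl', h.dot, _root_.zpow_add, zpow_one, Finset.prod_mul_distrib]
  rw [mul_comm, Finset.prod_eq_single s (fun j _ hj => by rw [if_neg hj.symm, zpow_zero]) fun h => absurd (Finset.mem_univ s) h,
    if_pos rfl, zpow_one]

theorem χ_gl (s : ZMod l) (e : ZMod l → kˣ) : X.χ (b s) (X.τ (gl b e)) = (e s * ∏ i, e i : kˣ) := by rw [X.χ_τ, h.chr_gl]

theorem χ_al (i j : ZMod l) (e : ZMod l → kˣ) : X.χ (b i - b j) (X.τ (gl b e)) = (e i * (e j)⁻¹ : kˣ) := by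
  rw [X.χ_τ, map_sub, chr_sub, h.chr_gl, h.chr_gl, mul_inv, mul_mul_mul_comm, mul_inv_cancel, mul_one]

theorem gl_mem {e : ZMod l → kˣ} (he : ∏ i, e i = 1) : X.τ (gl b e) ∈ X.S (CR b) := by
  have h1 : gl b e = ∏ i, coch (X.cor (b i) - X.cor (b 0)) (e i) := by
    simp only [sub_eq_add_neg, coch_add, Finset.prod_mul_distrib]
    rw [← map_prod, he, map_one, mul_one, gl_apply]
  rw [h1]
  exact ((X.S (CR b)).comap X.τ).prod_mem fun i _ => h.cor_S _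

/-- the decomposition of the torus -/
theorem T_dec {t : Y} (ht : t ∈ X.T) : ∃ e : ZMod l → kˣ, ∏ i, e i = 1 ∧ (X.τ (gl b e))⁻¹ * t ∈ Zc X (CR b) := by
  obtain ⟨c, rfl⟩ := (X.mem_T t).1 ht
  obtain ⟨d, hd⟩ := exists_zpow_eq (Int.natCast_ne_zero.2 (NeZero.ne l)) (∏ i, chr (X.wt (b i)) c)⁻¹
  refine ⟨fun i => chr (X.wt (b i)) c * d, ?_, mul_mem (inv_mem (X.τ_mem _)) ht, ?_⟩
  · rw [Finset.prod_mul_distrib, Finset.prod_const, Finset.card_univ, ZMod.card, ← zpow_natCast, hd, mul_inv_cancel]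
  · rintro _ ⟨i, j, -, rfl⟩
    rw [X.χ_mul _ (inv_mem (X.τ_mem _)) ht, X.χ_inv _ (X.τ_mem _), h.χ_al, X.χ_τ, map_sub, chr_sub, mul_inv,
      mul_mul_mul_comm, mul_inv_cancel, mul_one, inv_mul_cancel₀ (Units.ne_zero _)]

theorem cen_dec {y : Y} (hy : y ∈ X.T ⊔ X.S (CR b)) : ∃ s ∈ X.S (CR b), ∃ z ∈ Zc X (CR b), y = s * z := by
  obtain ⟨s, hs, t, ht, rfl⟩ := (X.mem_TS h.rtC).1 hy
  obtain ⟨e, h1, h2⟩ := h.T_dec ht
  exact ⟨_, mul_mem hs (h.gl_mem h1), _, h2, by group⟩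

/-- the centre of the derived group lies in the torus -/
theorem cen_Zc {s : Y} (hs : s ∈ X.S (CR b)) (hc : s ∈ centralizer (X.S (CR b) : Set Y)) : s ∈ Zc X (CR b) := by
  have h1 : s ∈ X.T := X.centralizer_T ▸ (⟨X.S_le_G h.rtC hs, fun t ht => by
    obtain ⟨e, h1, h2⟩ := h.T_dec ht
    rw [← mul_inv_cancel_left (X.τ (gl b e)) t, mul_assoc, h.comm_Zc (mem_sup_right hs) h2, ← mul_assoc,
      hc _ (h.gl_mem h1), mul_assoc]⟩ : s ∈ G ⊓ centralizer (X.T : Set Y))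
  refine ⟨h1, fun a ha => ?_⟩
  have h2 := X.tor' (h.rtC a ha) h1 1
  rw [← hc _ (RGD.le_Sup ha (X.x_mem (h.rtC a ha) 1)), mul_inv_cancel_right, mul_one] at h2
  exact (X.x_inj a (h.rtC a ha) h2).symm

end Kb

namespace Kx

variable {ε u : ℤ} (h : Kx X l b ε u)
include h

theorem g_b (i : ZMod l) : X.g (b i) = ε • b i := g_of_mx (h.rt i) h.sg h.pos (h.mx i)

theorem g_al {i j : ZMod l} (e : i ≠ j) : X.g (b i - b j) = ε • (b i - b j) :=
  g_of_mx (h.rt_al e) h.sg h.pos (by rw [h.cor_al e, mulVec_sub, h.mx, h.mx, smul_sub])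

theorem gC : ∀ a ∈ CR b, X.g a ∈ CR b := by
  rintro _ ⟨i, j, e, rfl⟩
  rw [h.g_al e]
  rcases h.sg with rfl | rfl
  · exact ⟨i, j, e, one_smul _ _⟩
  · exact ⟨j, i, e.symm, by rw [neg_one_smul, neg_sub]⟩

theorem gSz : ∀ a ∈ X.Sz (Zc X (CR b)), X.g a ∈ X.Sz (Zc X (CR b)) := h.sz.symm ▸ h.gC

theorem F_S {y : Y} (hy : y ∈ X.S (CR b)) : F y ∈ X.S (CR b) := X.F_mem_S h.rtC h.gC hy

theorem F_S_iff (y : Y) : F y ∈ X.S (CR b) ↔ y ∈ X.S (CR b) := X.amb.mem_iff (H := X.S (CR b)) (fun _ => h.F_S) y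

theorem F_cen {y : Y} (hy : y ∈ centralizer (X.S (CR b) : Set Y)) : F y ∈ centralizer (X.S (CR b) : Set Y) := fun s hs => by
  have h1 := congrArg F (hy (F.symm s) ((h.F_S_iff _).1 (by rwa [F.apply_symm_apply])))
  rwa [map_mul, map_mul, F.apply_symm_apply] at h1

theorem Fw_rf {i j : ZMod l} (e : i ≠ j) : X.Fw (X.rf (b i - b j)) = X.rf (b i - b j) := by
  rw [X.Fw_rf (h.rt_al e), h.g_al e]
  rcases h.sg with rfl | rfl
  · rw [one_smul]
  · rw [neg_one_smul, X.rf_neg (h.rt_al e)]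

theorem Fw_eq {w : X.W} (hw : w ∈ closure (X.rf '' CR b)) : X.Fw w = w := by
  induction hw using closure_induction with
  | mem _ hx =>
    obtain ⟨_, ⟨i, j, e, rfl⟩, rfl⟩ := hx
    exact h.Fw_rf e
  | one => exact map_one _
  | mul _ _ _ _ h1 h2 => rw [map_mul, h1, h2]
  | inv _ _ h1 => rw [map_inv, h1]

theorem exists_fix {w : X.W} (hw : w ∈ closure (X.rf '' CR b)) : ∃ n ∈ X.S (CR b), F n = n ∧ X.Rp w n := by
  have h1 := RC.B.Ln.exists_fix (X := X) Kb.Zc_le h.gSz (w := w) (h.sz.symm ▸ hw) (h.Fw_eq hw)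
  rwa [h.sz] at h1

variable [NeZero l]

theorem F_gl (e : ZMod l → kˣ) : F (X.τ (gl b e)) = X.τ (gl b (e ^ u)) := by
  rw [X.F_τ, mon_gl, gl_apply]
  exact congrArg _ (Finset.prod_congr rfl fun i _ => by rw [h.mx, coch_zsmul, Pi.pow_apply])

/-- the torus of the derived group -/
theorem mem_TS {t : Y} (ht : t ∈ X.T) (hs : t ∈ X.S (CR b)) : ∃ e : ZMod l → kˣ, ∏ i, e i = 1 ∧ t = X.τ (gl b e) := by
  have h1 := mem_ZL_cor Kb.Zc_le h.gSz ht (h.sz.symm ▸ hs)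
  rw [h.sz] at h1
  clear ht hs
  induction h1 using closure_induction with
  | mem _ hx =>
    obtain ⟨_, ⟨_, ⟨i, j, e, rfl⟩, rfl⟩, d, rfl⟩ := hx
    refine ⟨Pi.mulSingle i d * (Pi.mulSingle j d)⁻¹, by simp [Finset.prod_mul_distrib], ?_⟩
    rw [map_mul, map_inv, gl_single, gl_single, h.cor_al e, sub_eq_add_neg, coch_add, coch_neg]
  | one => exact ⟨1, by simp, by simp⟩
  | mul _ _ _ _ h1 h2 =>
    obtain ⟨e, e1, rfl⟩ := h1
    obtain ⟨e', e2, rfl⟩ := h2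
    exact ⟨e * e', by simp [Finset.prod_mul_distrib, e1, e2], by rw [map_mul, map_mul]⟩
  | inv _ _ h1 =>
    obtain ⟨e, e1, rfl⟩ := h1
    exact ⟨e⁻¹, by simp [e1], by rw [map_inv, map_inv]⟩

/-- the characters which are orthogonal to the coroots vanish on the torus of the derived group -/
theorem chr_TS {x : X.R → ℤ} (hx : ∀ i j, x ⬝ᵥ X.cor (b i) = x ⬝ᵥ X.cor (b j)) {c : X.R → kˣ} (hs : X.τ c ∈ X.S (CR b)) :
    chr x c = 1 := by
  obtain ⟨e, h1, h2⟩ := h.mem_TS (X.τ_mem c) hs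
  rw [X.τ_inj h2, chr_gl', Finset.prod_congr rfl fun i _ => by rw [hx i 0], Finset.prod_zpow, h1, _root_.one_zpow]

theorem χ_TS {x : X.I → ℤ} (hx : ∀ i j, X.wt x ⬝ᵥ X.cor (b i) = X.wt x ⬝ᵥ X.cor (b j)) {t : Y} (ht : t ∈ X.T)
    (hs : t ∈ X.S (CR b)) : X.χ x t = 1 := by
  obtain ⟨c, rfl⟩ := (X.mem_T t).1 ht
  rw [X.χ_τ, h.chr_TS hx hs, Units.val_one]

theorem Zc_pow {t : Y} (ht : t ∈ Zc X (CR b)) (hs : t ∈ X.S (CR b)) : t ^ l = 1 := by
  obtain ⟨e, h1, rfl⟩ := h.mem_TS ht.1 hs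
  have h2 : ∀ i, e i = e 0 := fun i => by
    by_cases hi : i = 0
    · rw [hi]
    · have h3 := ht.2 _ ⟨i, 0, hi, rfl⟩
      rwa [h.χ_al, Units.val_eq_one, mul_inv_eq_one] at h3
  rw [Finset.prod_congr rfl fun i _ => h2 i, Finset.prod_const, Finset.card_univ, ZMod.card] at h1
  rw [← map_pow, ← map_pow, show e ^ l = 1 from funext fun i => by rw [Pi.pow_apply, h2, h1, Pi.one_apply], map_one, map_one]

theorem cen_pow {s : Y} (hs : s ∈ X.S (CR b)) (hc : s ∈ centralizer (X.S (CR b) : Set Y)) : s ^ l = 1 :=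
  h.Zc_pow (h.cen_Zc hs hc) hs

/-- the `l`-th powers of the factors of a fixed element are fixed -/
theorem pow_dec {s c : Y} (hs : s ∈ X.S (CR b)) (hc : c ∈ centralizer (X.S (CR b) : Set Y)) (hF : F (s * c) = s * c) :
    F (s ^ l) = s ^ l ∧ F (c ^ l) = c ^ l ∧ (s * c) ^ l = s ^ l * c ^ l := by
  have h1 : s⁻¹ * F s = c * (F c)⁻¹ := by
    rw [map_mul] at hF
    rw [inv_mul_eq_iff_eq_mul, ← mul_assoc, ← hF, mul_inv_cancel_right]
  have h2 : s⁻¹ * F s ∈ X.S (CR b) := mul_mem (inv_mem hs) (h.F_S hs)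
  have h3 : s⁻¹ * F s ∈ centralizer (X.S (CR b) : Set Y) := h1 ▸ mul_mem hc (inv_mem (h.F_cen hc))
  have h4 : F (s ^ l) = s ^ l := by
    rw [map_pow, ← mul_inv_cancel_left s (F s), Commute.mul_pow (h3 s hs), h.cen_pow h2 h3, mul_one]
  have h5 : (s * c) ^ l = s ^ l * c ^ l := Commute.mul_pow (hc s hs) l
  refine ⟨h4, mul_left_cancel (a := s ^ l) ?_, h5⟩
  rw [← h5, ← hF, ← map_pow, h5, map_mul, h4]

end Kx

/-! ### the setting of the case B -/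

section Sb

variable {q d : ℕ} {ε : ℤ} {A : Matrix X.R X.R ℤ}

theorem Ks.orth (h : Ks X l ε A b) (ha : X.Rt a) (h0 : ∀ y, A *ᵥ y = ε • y → X.wt a ⬝ᵥ y = 0) (i : ZMod l) :
    X.wt (b i) ⬝ᵥ X.cor a = 0 := orth_symm ha (h.rt i) (h0 _ (h.fx i))

theorem Ks.kb (h : Ks X l ε A b) (hl : l.Prime) (h2 : l ≠ 2) : Kb X l b where
  lp := hl
  l2 := h2
  rt := h.rt
  one := h.one
  sep a ha hn := by
    by_cases h0 : ∃ y, A *ᵥ y = ε • y ∧ X.wt a ⬝ᵥ y ≠ 0
    · obtain ⟨y, -, h1, h3⟩ := h.lv a ha (fun i j e => by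
        by_cases hij : i = j
        · exact ha.ne_zero (by rw [e, hij, sub_self])
        · exact hn ⟨i, j, hij, e⟩) h0
      exact ⟨y, h1, fun e => by rw [e] at h3; exact absurd (zero_dvd_iff.1 h3) (by norm_num)⟩
    · push Not at h0
      refine ⟨X.cor a, fun i j => by rw [map_sub, sub_dotProduct, h.orth ha h0, h.orth ha h0, sub_self], ?_⟩
      rw [show X.wt a ⬝ᵥ X.cor a = 2 from pr_self ha]
      norm_num

/-- the roots which are orthogonal to the split part are strongly orthogonal to the subsystem -/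
theorem Ks.X_le (h : Ks X l ε A b) (hl : l.Prime) (h2 : l ≠ 2) (ha : X.Rt a) (h0 : ∀ y, A *ᵥ y = ε • y → X.wt a ⬝ᵥ y = 0) :
    X.X a ≤ centralizer (X.S (CR b) : Set Y) := fun v hv => by
  have K := h.kb hl h2
  refine le_centralizer_iff.1 (RGD.Sup_le (K := centralizer ((zpowers v : Subgroup Y) : Set Y)) ?_) (mem_zpowers v)
  rintro _ ⟨i, j, e, rfl⟩ x hx
  have o : ∀ s t, X.wt (b s - b t) ⬝ᵥ X.cor a = 0 := fun s t => by
    rw [map_sub, sub_dotProduct, h.orth ha h0, h.orth ha h0, sub_self]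
  have a2 : X.wt a ⬝ᵥ X.cor a = 2 := pr_self ha
  have h3 := X.comm ha (K.rt_al e) (fun e' => by have := o i j; rw [← e', a2] at this; omega)
    (fun e' => by have := o j i; rw [← neg_sub, ← e', a2] at this; omega) hv hx
  have h4 : {c | Btwn X.cs X.h a (b i - b j) c} = ∅ := Set.eq_empty_of_forall_notMem fun c ⟨hc, n, s, t, hn, hs, ht0, e'⟩ => by
    have e1 : ∀ y, n * (X.wt c ⬝ᵥ y) = s * (X.wt a ⬝ᵥ y) + t * (X.wt (b i - b j) ⬝ᵥ y) := fun y => by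
      have := congrArg (fun z => X.wt z ⬝ᵥ y) e'
      simpa only [map_add, map_zsmul, add_dotProduct, smul_dotProduct, smul_eq_mul] using this
    obtain ⟨y, h5, h6, h7⟩ := h.lv c hc (fun i' j' e'' => by
      have := e1 (X.cor a)
      rw [e'', o, o, a2] at this
      omega) ⟨X.cor (b i), h.fx i, fun e'' => by
      have := e1 (X.cor (b i))
      rw [e'', h0 _ (h.fx i), map_sub, sub_dotProduct, K.dot, K.dot, if_pos rfl, if_neg e.symm] at this
      omega⟩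
    have := e1 y
    rw [h0 y h5, h6, mul_zero, mul_zero, add_zero, mul_eq_zero] at this
    rw [this.resolve_left hn.ne'] at h7
    exact absurd (zero_dvd_iff.1 h7) (by norm_num)
  rw [h4, show X.S ∅ = ⊥ from le_bot_iff.1 (RGD.Sup_le fun _ h => h.elim), mem_bot, commutatorElement_eq_one_iff_mul_comm] at h3
  rintro _ ⟨n, rfl⟩
  exact (Commute.zpow_left h3 n).eq

theorem Sb.sg (h : Sb X q d l ε A b) : ε = 1 ∨ ε = -1 := h.de.imp And.right And.right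

theorem Sb.kx (h : Sb X q d l ε A b) (hl : l.Prime) (hq : 0 < q) : Kx X l b ε (ε * q) where
  toKb := h.ks.kb hl h.l2
  sg := h.sg
  pos := by rcases h.sg with rfl | rfl <;> simpa using hq
  mx i := by rw [h.mx, smul_mulVec, h.ks.fx, smul_smul, mul_comm]

theorem Kx.pow {u : ℤ} (h : Kx X l b ε u) {m : ℕ} (hm : 0 < m) (ho : Odd m) : Kx (X.pow hm) l b ε (u ^ m) where
  lp := h.lp
  l2 := h.l2
  rt := h.rt
  one := h.one
  sep := h.sep
  sg := h.sg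
  pos := by
    have := pow_pos h.pos m
    rcases h.sg with rfl | rfl
    · rwa [mul_pow, one_pow] at this
    · rwa [mul_pow, ho.neg_one_pow] at this
  mx i := by
    change X.Mx ^ m *ᵥ X.cor (b i) = u ^ m • X.cor (b i)
    clear hm ho
    induction m with
    | zero => simp
    | succ m ih => rw [pow_succ', ← mulVec_mulVec, ih, mulVec_smul, h.mx, smul_smul, pow_succ]

end Sb

end Cfsg.Agent.BZ.K3
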