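import Cfsg.Agent.BZ.L.ResP
import Cfsg.Agent.BZ.L.Cs
import Cfsg.Agent.RC.B.Defs

/-!
# BZ / L / K3 : exceptional groups at the bad primes three and five, definitions and boxes (helper13)

The paper proofs are in `notes/BZ/f1-l3.md`.

* pure part : `Kg`, `Rho`, `BoxKb`;
* lattices : `Ud`, `PL`, `Md`, `Lt`, `Tv`, `CA`, `Ks`, `CB`, `CC`, `Lat`, `BoxLat`;
* groups : `LieP`, `BoxLieP`, `Gm`, `BoxGam`, `Hs`, `Cs'`, `BoxGe`, `BoxRho`, `BoxF`.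
-/

set_option autoImplicit false
set_option linter.unusedSectionVars false

namespace Cfsg.Agent.BZ.K3

open Cfsg Cfsg.Lie Subgroup Matrix Cfsg.Agent.HZ.Gen Cfsg.Agent.KM Cfsg.Agent.BZ.Lab Cfsg.Agent.BZ.L Cfsg.Agent.DL Cfsg.Agent.KM.Ht
  Cfsg.Agent.KM.Tor Cfsg.Agent.KZ.DatX Cfsg.Agent.Nodes.RGDChev
open Cfsg.Agent.TO.X.Cn (Pi1)

/-! ### the pure part -/

/-- `L = C(P)` lies in `M = C(P ⊓ C)`, and `M` is the central product of `H` and `C` up to an `l`-group -/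
structure Kg (l r : ℕ) {K : Type} [Group K] (P Z H C Q₁ : Subgroup K) : Prop where
  hc : H ≤ centralizer (C : Set K)
  int : IsPGroup l ↥(H ⊓ C)
  ic : H ⊓ C ≤ centralizer (centralizer (↑(P ⊓ C) : Set K) : Set K)
  cl : C ≤ centralizer (P : Set K)
  zc : Z ≤ C
  nH : centralizer (↑(P ⊓ C) : Set K) ≤ normalizer (H : Set K)
  nC : centralizer (↑(P ⊓ C) : Set K) ≤ normalizer (C : Set K)
  reg : ∀ y ∈ centralizer (↑(P ⊓ C) : Set K), ¬ l ∣ orderOf y → y ∈ H ⊔ C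
  qp : IsPGroup l Q₁
  qh : Q₁ ≤ H ⊓ centralizer (P : Set K)
  cq : ∀ y ∈ centralizer (↑(P ⊓ C) : Set K), y ∈ centralizer (Q₁ : Set K) → ¬ l ∣ orderOf y → y ∈ centralizer (P : Set K)
  tc : H ⊓ centralizer (P : Set K) ≤ centralizer (centralizer (P : Set K) : Set K)
  tr : ∀ y ∈ H ⊓ centralizer (P : Set K), (∃ j, y ^ r ^ j = 1) → y ∈ P
  lv : Lv l (centralizer (↑(P ⊓ C) : Set K))

/-- a member of the principal block of `H` of `r`-defect zero which is not trivial on `z` -/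
structure Rho (l r : ℕ) (M : Ideal AlgInt) {K : Type} [Group K] (Z H C : Subgroup K) (χ : IrrCharacter H) (z : H) : Prop where
  pr : χ ∈ principalBlock M H
  dz : (Nat.card H).factorization r = (charDegree (χ : H → ℂ)).factorization r
  ov : Ov (Z.subgroupOf H) (χ : H → ℂ)
  zc : (z : K) ∈ C
  ne : (χ : H → ℂ) z ≠ (χ : H → ℂ) 1
  cm : ∀ S : Sylow l H, z ∈ ⁅(S : Subgroup H), (S : Subgroup H)⁆

/-- `g - 1` is onto on the `l`-regular elements of `T` -/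
def On (l : ℕ) {K : Type} [Group K] (T : Subgroup K) (g : K) : Prop :=
  ∀ t ∈ T, ¬ l ∣ orderOf t → ∃ s ∈ T, ¬ l ∣ orderOf s ∧ t = g * s * g⁻¹ * s⁻¹

/-- [KB] a member of positive height in another series -/
def BoxKb : Prop :=
  ∀ {l r m n N : ℕ} {K : Type} [Group K] [Fintype K] {α : MulAut K} {M : Ideal AlgInt} {B : Set (IrrCharacter K)}
    {P Z H C Q₁ : Subgroup K} [Fintype (centralizer (P : Set K))] {β : MulAut (centralizer (P : Set K))}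
    {b : Set (IrrCharacter (centralizer (P : Set K)))}, Fr l r m n N K α → IsPModular l M →
    Top r M α B P (centralizer (P : Set K)).subtype β b → Z ≤ center K → IsPGroup l Z → Kg l r P Z H C Q₁ → StS α (P ⊓ C) →
    ∀ g ∈ normalizer (P : Set K), Stab (centralizer (P : Set K)).subtype b g → On l (H ⊓ centralizer (P : Set K)) g →
    ∀ (χ : IrrCharacter H) (z : H), Rho l r M Z H C χ z → ¬ HZr l Z B

/-! ### lattices -/

section Lat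

variable {R : Type} [Fintype R] [DecidableEq R]

/-- the cocharacters of the `Φ_d`-torus -/
def Ud (d : ℕ) (A : Matrix R R ℤ) (y : R → ℤ) : Prop := Polynomial.aeval A (Polynomial.cyclotomic d ℤ) *ᵥ y = 0

/-- the character `x` is trivial on the fixed `l`-elements of the torus -/
def Md (l : ℕ) (Q : ℤ) (A : Matrix R R ℤ) (x : R → ℤ) : Prop := ∃ c : ℤ, ¬ (l : ℤ) ∣ c ∧ ∃ x', c • x = x' ᵥ* (Q • A - 1)

end Lat

variable {p : ℕ} [Fact p.Prime] {k : Type} [Field k] [CharP k p] {Y : Type} [Group Y] {N : Type} [Fintype N]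
  [DecidableEq N] {ρ : Y →* GL N k} {F : MulAut Y} {G : Subgroup Y} [IsAlgClosed k] (X : Datum p ρ F G)

/-- the roots of the centraliser of the `Φ_d`-torus -/
def PL (d : ℕ) (A : Matrix X.R X.R ℤ) : Set (X.I → ℤ) := {a | X.Rt a ∧ ∀ y, Ud d A y → X.wt a ⬝ᵥ y = 0}

/-- `w` is trivial on the `Φ_d`-torus -/
def Tv (d : ℕ) (A : Matrix X.R X.R ℤ) (w : X.W) : Prop := ∀ y, Ud d A y → X.Wm w *ᵥ y = y

/-- **the input of the lattice lemma** -/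
structure Lt (l d : ℕ) (Q : ℤ) (A : Matrix X.R X.R ℤ) (Γ : Subgroup X.W) : Prop where
  ord : orderOf (Q : ZMod l) = d
  st : ∀ w ∈ Γ, ∀ y, Ud d A y → Ud d A (X.Wm w *ᵥ y) ∧ A *ᵥ (X.Wm w *ᵥ y) = X.Wm w *ᵥ (A *ᵥ y)
  orb : ∀ β : X.I → ℤ, (∀ a ∈ PL X d A, X.wt β ⬝ᵥ X.cor a = 0) →
    ∃ Δ ≤ Γ, ¬ l ∣ Δ.relIndex Γ ∧ ∀ w ∈ Δ, Md l Q A (X.wt β ᵥ* X.Wm w - X.wt β)

/-- case A : an `l'`-group -/
def CA (l d : ℕ) (A : Matrix X.R X.R ℤ) (Γ : Subgroup X.W) : Prop := ∃ Δ ≤ Γ, ¬ l ∣ Δ.relIndex Γ ∧ ∀ w ∈ Δ, Tv X d A w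

/-- the roots `b i - b j` form a subsystem of type `A (l - 1)` in the split part -/
structure Ks (l : ℕ) (ε : ℤ) (A : Matrix X.R X.R ℤ) (b : ZMod l → X.I → ℤ) : Prop where
  rt : ∀ i, X.Rt (b i)
  one : ∀ i j, i ≠ j → X.wt (b i) ⬝ᵥ X.cor (b j) = 1
  fx : ∀ i, A *ᵥ X.cor (b i) = ε • X.cor (b i)
  lv : ∀ a, X.Rt a → (∀ i j, a ≠ b i - b j) → (∃ y, A *ᵥ y = ε • y ∧ X.wt a ⬝ᵥ y ≠ 0) →
    ∃ y, A *ᵥ y = ε • y ∧ (∀ i j, X.wt (b i - b j) ⬝ᵥ y = 0) ∧ X.wt a ⬝ᵥ y ∣ 4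

/-- case B : a rotation of a subsystem of type `A (l - 1)` -/
def CB (l d : ℕ) (A : Matrix X.R X.R ℤ) (Γ : Subgroup X.W) : Prop :=
  ∃ (ε : ℤ) (b : ZMod l → X.I → ℤ), ((d = 1 ∧ ε = 1) ∨ (d = 2 ∧ ε = -1)) ∧ Ks X l ε A b ∧ ∃ w ∈ Γ, ∀ i, X.act w (b i) = b (i + 1)

/-- case C : the roots of the centraliser vanish on the `l`-part of the torus, the `l`-elements form a group of order `l` -/
def CC (l d : ℕ) (Q : ℤ) (A : Matrix X.R X.R ℤ) (Γ : Subgroup X.W) : Prop :=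
  (∀ a ∈ PL X d A, Md l Q A (X.wt a)) ∧ ∃ w₀ ∈ Γ, Tv X d A (w₀ ^ l) ∧
    ∀ w ∈ Γ, (∃ j : ℕ, Tv X d A (w ^ l ^ j)) → ∃ i : ℕ, Tv X d A (w * (w₀ ^ i)⁻¹)

/-- **the lattice lemma** for a type -/
def Lat {C : ChevalleyDatum} {n₀ : ℕ} {M₀ : CoxeterMatrix (Fin n₀)} (hp : IsType C n₀ M₀) (l : ℕ) : Prop :=
  AllD fun {_} _ _ _ _ _ _ _ _ _ _ _ _ _ X => ∀ (q n c d : ℕ) (Q : ℤ) (A : Matrix X.R X.R ℤ) (Γ : Subgroup X.W), Pi1 X 1 →
    (∀ v, Pp X {a | X.Rt a} v → v = 0) → RC.B.Ty X hp → 0 < q → Cs X q n c → X.Mx = (q : ℤ) • A → Lt X l d Q A Γ →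
    CA X l d A Γ ∨ CB X l d A Γ ∨ CC X l d Q A Γ

/-- [LAT] -/
structure BoxLat : Prop where
  g2 : Lat hpG2 3
  d4 : Lat hpD4 3
  f4 : Lat hpF4 3
  e6 : Lat hpE6 3
  e7 : Lat hpE7 3
  e8 : Lat hpE8 3
  e85 : Lat hpE8 5

/-! ### groups -/

/-- the output of the engine with the top pair -/
def LieP (l r m : ℕ) [Fintype ↥(GF (F ^ m) G)] (α : MulAut ↥(GF (F ^ m) G)) (M : Ideal AlgInt) (Z : Subgroup Y)
    (B : Set (IrrCharacter ↥(GF (F ^ m) G))) (D S : Subgroup ↥(GF (F ^ m) G)) : Prop :=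
  IsDefectGroup l M B D ∧ Ou l (Pt F G m l Z) D (Pt F G m r X.T) (Pt F G m l X.T) S ∧
    ∃ (_ : Fintype ↥(centralizer (Pt F G m r X.T : Set ↥(GF (F ^ m) G))))
      (β : MulAut ↥(centralizer (Pt F G m r X.T : Set ↥(GF (F ^ m) G))))
      (b : Set (IrrCharacter ↥(centralizer (Pt F G m r X.T : Set ↥(GF (F ^ m) G))))),
      Top r M α B (Pt F G m r X.T) (centralizer (Pt F G m r X.T : Set ↥(GF (F ^ m) G))).subtype β b ∧
        ∀ g ∈ S, Stab (centralizer (Pt F G m r X.T : Set ↥(GF (F ^ m) G))).subtype b g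

/-- [LIE+] -/
def BoxLieP : Prop := Unif fun {_} _ _ _ _ {Y} _ _ _ _ _ {F} {G} _ X _ _ l r m _ α M =>
  ∀ (Z : Subgroup Y) (B : Set (IrrCharacter ↥(GF (F ^ m) G))), Z ≤ Zc X {a | X.Rt a} → IsPBlock M B → StB α B →
    HZr l (Pt F G m l Z) B → ∃ y, ∃ (hy : y ∈ G) (hN : y⁻¹ * F y ∈ X.NN) (D S : Subgroup ↥(GF (F ^ m) G)),
      LieP (X.conj hy hN) l r m α M Z B D S

/-- `Γ` is the image of `S` in the Weyl group -/
def Gm (r m : ℕ) (S : Subgroup ↥(GF (F ^ m) G)) (Γ : Subgroup X.W) : Prop :=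
  ∀ w, w ∈ Γ ↔ ∃ s ∈ S, ∃ x ∈ X.cen (Subtype.val '' (Pt F G m r X.T : Set ↥(GF (F ^ m) G))), X.Rp w (x * s)

/-- [GAM] from the output of the engine to the lattice, and back in the cases A and C -/
def BoxGam : Prop := Unif fun {_} _ _ _ _ {Y} _ _ _ _ _ {F} {G} _ X q d l r m _ _ _ =>
  ∀ (A : Matrix X.R X.R ℤ) (Z : Subgroup Y) (D S : Subgroup ↥(GF (F ^ m) G)), X.Mx = (q : ℤ) • A → l ≠ 2 → Pi1 X 1 →
    Z = Zc X {a | X.Rt a} → Ou l (Pt F G m l Z) D (Pt F G m r X.T) (Pt F G m l X.T) S →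
    ∃ Γ, Gm X r m S Γ ∧ Lt X l d ((q : ℤ) ^ m) A Γ ∧ (CA X l d A Γ ∨ CC X l d ((q : ℤ) ^ m) A Γ → ⁅D, D⁆ ≤ Pt F G m l Z)

/-- the fixed points in the subgroup of type `A (l - 1)` -/
def Hs (m : ℕ) {l : ℕ} (b : ZMod l → X.I → ℤ) : Subgroup ↥(GF (F ^ m) G) :=
  (X.S {a | ∃ i j, i ≠ j ∧ a = b i - b j}).subgroupOf (GF (F ^ m) G)

/-- the fixed points in its centraliser in the Levi subgroup -/
def Cn (r m : ℕ) {l : ℕ} (b : ZMod l → X.I → ℤ) : Subgroup ↥(GF (F ^ m) G) :=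
  centralizer (Pt F G m r X.T : Set ↥(GF (F ^ m) G)) ⊓
    (centralizer (X.S {a | ∃ i j, i ≠ j ∧ a = b i - b j} : Set Y)).subgroupOf (GF (F ^ m) G)

/-- the setting of the case B -/
structure Sb (q d l : ℕ) (ε : ℤ) (A : Matrix X.R X.R ℤ) (b : ZMod l → X.I → ℤ) : Prop where
  mx : X.Mx = (q : ℤ) • A
  l2 : l ≠ 2
  pi : Pi1 X 1
  de : (d = 1 ∧ ε = 1) ∨ (d = 2 ∧ ε = -1)
  ks : Ks X l ε A b

/-- [GE] the geometry in the case B -/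
def BoxGe : Prop := Unif fun {_} _ _ _ _ _ _ _ _ _ _ {F} {G} _ X q d l r m _ α _ =>
  ∀ (ε : ℤ) (A : Matrix X.R X.R ℤ) (b : ZMod l → X.I → ℤ), Sb X q d l ε A b →
    (∃ Q₁, Kg l r (Pt F G m r X.T) (Zl X m l) (Hs X m b) (Cn X r m b) Q₁) ∧ StS α (Pt F G m r X.T ⊓ Cn X r m b) ∧
      ∀ (s : ↥(GF (F ^ m) G)) (w : X.W), ∀ x ∈ X.cen (Subtype.val '' (Pt F G m r X.T : Set ↥(GF (F ^ m) G))), X.Rp w (x * s) →
        (∀ i, X.act w (b i) = b (i + 1)) → On l (Hs X m b ⊓ centralizer (Pt F G m r X.T : Set ↥(GF (F ^ m) G))) s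

/-- [RHO] the character in the case B -/
def BoxRho : Prop := Unif fun {_} _ _ _ _ _ _ _ _ _ _ _ _ _ X q d l r m _ _ M =>
  ∀ (ε : ℤ) (A : Matrix X.R X.R ℤ) (b : ZMod l → X.I → ℤ), Sb X q d l ε A b →
    ∃ (χ : IrrCharacter ↥(Hs X m b)) (z : ↥(Hs X m b)), Rho l r M (Zl X m l) (Hs X m b) (Cn X r m b) χ z

/-- **the target** : the block theorem for the simply connected data of a type -/
def BoxF {C : ChevalleyDatum} {n₀ : ℕ} {M₀ : CoxeterMatrix (Fin n₀)} (hp : IsType C n₀ M₀) (l : ℕ) : Prop :=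
  AllD fun {p} _ _ _ _ _ _ _ _ _ _ {F} {G} _ X => ∀ (q n c : ℕ) (M : Ideal AlgInt), l ≠ p → (∃ f, 0 < f ∧ q = p ^ f) → Cs X q n c →
    Pi1 X 1 → (∀ v, Pp X {a | X.Rt a} v → v = 0) → RC.B.Ty X hp → IsPModular l M → BZr l M ↥(GF (F ^ 1) G) (Zl X 1 l)

end Cfsg.Agent.BZ.K3
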