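import Cfsg.Agent.BZ.L.K3.Defs

/-!
# BZ / L / K3 : the types which are not simply laced (helper81)

`Ty2` is `RC.B.Ty` with the true coroots; `Lat2`, `BoxF2` are `Lat`, `BoxF` for `Ty2`.
-/

set_option autoImplicit false
set_option linter.unusedSectionVars false

namespace Cfsg.Agent.BZ.K3

open Cfsg Cfsg.Lie Subgroup Matrix Cfsg.Agent.KM Cfsg.Agent.BZ.L Cfsg.Agent.DL Cfsg.Agent.KM.Tor Cfsg.Agent.KZ.DatX
  Cfsg.Agent.Nodes.RGDChev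
open Cfsg.Agent.TO.X.Cn (Pi1)

variable {p : ℕ} [Fact p.Prime] {k : Type} [Field k] [CharP k p] {Y : Type} [Group Y] {N : Type} [Fintype N]
  [DecidableEq N] {ρ : Y →* GL N k} {F : MulAut Y} {G : Subgroup Y} [IsAlgClosed k] (X : Datum p ρ F G)

/-- the root system of `X` is that of `C` -/
def Ty2 {C : ChevalleyDatum} {n : ℕ} {M : CoxeterMatrix (Fin n)} (hp : IsType C n M) : Prop :=
  ∃ (Mx : Matrix (Fin n) (Fin n) ℤ) (X₀ : XF hp p k Mx) (e : (X.I → ℤ) ≃+ (Fin n → ℤ)),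
    (∀ a, X.Rt a ↔ X₀.D.Rt (e a)) ∧ ∀ a b, X.Rt b → X.wt a ⬝ᵥ X.cor b = e a ⬝ᵥ X₀.D.cor (e b)

theorem ty2_self {C : ChevalleyDatum} {n : ℕ} {M : CoxeterMatrix (Fin n)} {hp : IsType C n M} {Mx : Matrix (Fin n) (Fin n) ℤ}
    (X₀ : XF hp p k Mx) : Ty2 X₀.D hp := ⟨Mx, X₀, AddEquiv.refl _, fun _ => Iff.rfl, fun _ _ _ => rfl⟩

/-- the lattice lemma -/
def Lat2 {C : ChevalleyDatum} {n₀ : ℕ} {M₀ : CoxeterMatrix (Fin n₀)} (hp : IsType C n₀ M₀) (l : ℕ) : Prop :=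
  AllD fun {_} _ _ _ _ _ _ _ _ _ _ _ _ _ X => ∀ (q n c d : ℕ) (Q : ℤ) (A : Matrix X.R X.R ℤ) (Γ : Subgroup X.W), Pi1 X 1 →
    (∀ v, Pp X {a | X.Rt a} v → v = 0) → Ty2 X hp → 0 < q → Cs X q n c → X.Mx = (q : ℤ) • A → Lt X l d Q A Γ →
    CA X l d A Γ ∨ CB X l d A Γ ∨ CC X l d Q A Γ

/-- the target -/
def BoxF2 {C : ChevalleyDatum} {n₀ : ℕ} {M₀ : CoxeterMatrix (Fin n₀)} (hp : IsType C n₀ M₀) (l : ℕ) : Prop :=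
  AllD fun {p} _ _ _ _ _ _ _ _ _ _ {F} {G} _ X => ∀ (q n c : ℕ) (M : Ideal AlgInt), l ≠ p → (∃ f, 0 < f ∧ q = p ^ f) → Cs X q n c →
    Pi1 X 1 → (∀ v, Pp X {a | X.Rt a} v → v = 0) → Ty2 X hp → IsPModular l M → BZr l M ↥(GF (F ^ 1) G) (Zl X 1 l)

/-- the targets -/
structure AllF : Prop where
  g2 : BoxF2 hpG2 3
  d4 : BoxF hpD4 3
  f4 : BoxF2 hpF4 3
  e6 : BoxF hpE6 3
  e7 : BoxF hpE7 3
  e8 : BoxF hpE8 3
  e85 : BoxF hpE8 5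

end Cfsg.Agent.BZ.K3
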