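import Mathlib.Tactic.Ring
import Mathlib.Tactic.Linarith

/-!
# BZ / L / K3 : elements of order three of the Weyl group of type `E₆`, the finite checks (helper98)
-/

set_option autoImplicit false
set_option maxRecDepth 100000

namespace Cfsg.Agent.BZ.K3.E6C

/-- vectors -/
structure V where
  a : ℤ
  b : ℤ
  c : ℤ
  d : ℤ
  e : ℤ
  f : ℤ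
deriving DecidableEq

/-- the images of the simple roots -/
structure Mt where
  a : V
  b : V
  c : V
  d : V
  e : V
  f : V
deriving DecidableEq

/-- the form -/
def fm (x y : V) : ℤ := (2 * x.a - x.c) * y.a + (2 * x.b - x.d) * y.b + (2 * x.c - x.a - x.d) * y.c +
  (2 * x.d - x.b - x.c - x.e) * y.d + (2 * x.e - x.d - x.f) * y.e + (2 * x.f - x.e) * y.f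

/-- a row -/
def cb (x : V) (a b c d e f : ℤ) : ℤ := x.a * a + x.b * b + x.c * c + x.d * d + x.e * e + x.f * f

/-- the action -/
def ap (m : Mt) (x : V) : V :=
  ⟨cb x m.a.a m.b.a m.c.a m.d.a m.e.a m.f.a, cb x m.a.b m.b.b m.c.b m.d.b m.e.b m.f.b, cb x m.a.c m.b.c m.c.c m.d.c m.e.c m.f.c,
    cb x m.a.d m.b.d m.c.d m.d.d m.e.d m.f.d, cb x m.a.e m.b.e m.c.e m.d.e m.e.e m.f.e, cb x m.a.f m.b.f m.c.f m.d.f m.e.f m.f.f⟩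

/-- the product -/
def ml (m n : Mt) : Mt := ⟨ap m n.a, ap m n.b, ap m n.c, ap m n.d, ap m n.e, ap m n.f⟩

/-- the identity -/
def id6 : Mt := ⟨⟨1, 0, 0, 0, 0, 0⟩, ⟨0, 1, 0, 0, 0, 0⟩, ⟨0, 0, 1, 0, 0, 0⟩, ⟨0, 0, 0, 1, 0, 0⟩, ⟨0, 0, 0, 0, 1, 0⟩, ⟨0, 0, 0, 0, 0, 1⟩⟩

/-- the highest root -/
def th : V := ⟨1, 2, 2, 3, 2, 1⟩

/-- minus the second simple root -/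
def nb : V := ⟨0, -1, 0, 0, 0, 0⟩

/-- the roots -/
def RL : List V := [⟨-1, -2, -2, -3, -2, -1⟩, ⟨-1, -1, -2, -3, -2, -1⟩, ⟨-1, -1, -2, -2, -2, -1⟩, ⟨-1, -1, -2, -2, -1, -1⟩,
  ⟨-1, -1, -2, -2, -1, 0⟩, ⟨-1, -1, -1, -2, -2, -1⟩, ⟨-1, -1, -1, -2, -1, -1⟩, ⟨-1, -1, -1, -2, -1, 0⟩, ⟨-1, -1, -1, -1, -1, -1⟩,
  ⟨-1, -1, -1, -1, -1, 0⟩, ⟨-1, -1, -1, -1, 0, 0⟩, ⟨-1, 0, -1, -1, -1, -1⟩, ⟨-1, 0, -1, -1, -1, 0⟩, ⟨-1, 0, -1, -1, 0, 0⟩,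
  ⟨-1, 0, -1, 0, 0, 0⟩, ⟨-1, 0, 0, 0, 0, 0⟩, ⟨0, -1, -1, -2, -2, -1⟩, ⟨0, -1, -1, -2, -1, -1⟩, ⟨0, -1, -1, -2, -1, 0⟩,
  ⟨0, -1, -1, -1, -1, -1⟩, ⟨0, -1, -1, -1, -1, 0⟩, ⟨0, -1, -1, -1, 0, 0⟩, ⟨0, -1, 0, -1, -1, -1⟩, ⟨0, -1, 0, -1, -1, 0⟩,
  ⟨0, -1, 0, -1, 0, 0⟩, ⟨0, -1, 0, 0, 0, 0⟩, ⟨0, 0, -1, -1, -1, -1⟩, ⟨0, 0, -1, -1, -1, 0⟩, ⟨0, 0, -1, -1, 0, 0⟩,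
  ⟨0, 0, -1, 0, 0, 0⟩, ⟨0, 0, 0, -1, -1, -1⟩, ⟨0, 0, 0, -1, -1, 0⟩, ⟨0, 0, 0, -1, 0, 0⟩, ⟨0, 0, 0, 0, -1, -1⟩,
  ⟨0, 0, 0, 0, -1, 0⟩, ⟨0, 0, 0, 0, 0, -1⟩, ⟨0, 0, 0, 0, 0, 1⟩, ⟨0, 0, 0, 0, 1, 0⟩, ⟨0, 0, 0, 0, 1, 1⟩, ⟨0, 0, 0, 1, 0, 0⟩,
  ⟨0, 0, 0, 1, 1, 0⟩, ⟨0, 0, 0, 1, 1, 1⟩, ⟨0, 0, 1, 0, 0, 0⟩, ⟨0, 0, 1, 1, 0, 0⟩, ⟨0, 0, 1, 1, 1, 0⟩, ⟨0, 0, 1, 1, 1, 1⟩,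
  ⟨0, 1, 0, 0, 0, 0⟩, ⟨0, 1, 0, 1, 0, 0⟩, ⟨0, 1, 0, 1, 1, 0⟩, ⟨0, 1, 0, 1, 1, 1⟩, ⟨0, 1, 1, 1, 0, 0⟩, ⟨0, 1, 1, 1, 1, 0⟩,
  ⟨0, 1, 1, 1, 1, 1⟩, ⟨0, 1, 1, 2, 1, 0⟩, ⟨0, 1, 1, 2, 1, 1⟩, ⟨0, 1, 1, 2, 2, 1⟩, ⟨1, 0, 0, 0, 0, 0⟩, ⟨1, 0, 1, 0, 0, 0⟩,
  ⟨1, 0, 1, 1, 0, 0⟩, ⟨1, 0, 1, 1, 1, 0⟩, ⟨1, 0, 1, 1, 1, 1⟩, ⟨1, 1, 1, 1, 0, 0⟩, ⟨1, 1, 1, 1, 1, 0⟩, ⟨1, 1, 1, 1, 1, 1⟩,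
  ⟨1, 1, 1, 2, 1, 0⟩, ⟨1, 1, 1, 2, 1, 1⟩, ⟨1, 1, 1, 2, 2, 1⟩, ⟨1, 1, 2, 2, 1, 0⟩, ⟨1, 1, 2, 2, 1, 1⟩, ⟨1, 1, 2, 2, 2, 1⟩,
  ⟨1, 1, 2, 3, 2, 1⟩, ⟨1, 2, 2, 3, 2, 1⟩]

/-- the roots orthogonal to the highest root -/
def R0 : List V := [⟨-1, 0, -1, -1, -1, -1⟩, ⟨-1, 0, -1, -1, -1, 0⟩, ⟨-1, 0, -1, -1, 0, 0⟩, ⟨-1, 0, -1, 0, 0, 0⟩,
  ⟨-1, 0, 0, 0, 0, 0⟩, ⟨0, 0, -1, -1, -1, -1⟩, ⟨0, 0, -1, -1, -1, 0⟩, ⟨0, 0, -1, -1, 0, 0⟩, ⟨0, 0, -1, 0, 0, 0⟩,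
  ⟨0, 0, 0, -1, -1, -1⟩, ⟨0, 0, 0, -1, -1, 0⟩, ⟨0, 0, 0, -1, 0, 0⟩, ⟨0, 0, 0, 0, -1, -1⟩, ⟨0, 0, 0, 0, -1, 0⟩,
  ⟨0, 0, 0, 0, 0, -1⟩, ⟨0, 0, 0, 0, 0, 1⟩, ⟨0, 0, 0, 0, 1, 0⟩, ⟨0, 0, 0, 0, 1, 1⟩, ⟨0, 0, 0, 1, 0, 0⟩, ⟨0, 0, 0, 1, 1, 0⟩,
  ⟨0, 0, 0, 1, 1, 1⟩, ⟨0, 0, 1, 0, 0, 0⟩, ⟨0, 0, 1, 1, 0, 0⟩, ⟨0, 0, 1, 1, 1, 0⟩, ⟨0, 0, 1, 1, 1, 1⟩, ⟨1, 0, 0, 0, 0, 0⟩,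
  ⟨1, 0, 1, 0, 0, 0⟩, ⟨1, 0, 1, 1, 0, 0⟩, ⟨1, 0, 1, 1, 1, 0⟩, ⟨1, 0, 1, 1, 1, 1⟩]

/-- four elements of type `2 A₂` -/
def L0 : List Mt := [⟨⟨-1, 0, -1, 0, 0, 0⟩, ⟨1, 1, 2, 3, 2, 1⟩, ⟨1, 0, 0, 0, 0, 0⟩, ⟨-1, -1, -1, -2, -2, -1⟩, ⟨0, 0, 0, 0, 1, 0⟩,
  ⟨0, 0, 0, 0, 0, 1⟩⟩, ⟨⟨0, 0, 1, 0, 0, 0⟩, ⟨1, 1, 2, 3, 2, 1⟩, ⟨-1, 0, -1, 0, 0, 0⟩, ⟨0, -1, -1, -2, -2, -1⟩,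
  ⟨0, 0, 0, 0, 1, 0⟩, ⟨0, 0, 0, 0, 0, 1⟩⟩, ⟨⟨1, 0, 0, 0, 0, 0⟩, ⟨1, 1, 2, 3, 2, 1⟩, ⟨0, 0, 1, 0, 0, 0⟩, ⟨-1, -1, -2, -2, -1, 0⟩,
  ⟨0, 0, 0, 0, -1, -1⟩, ⟨0, 0, 0, 0, 1, 0⟩⟩, ⟨⟨1, 0, 0, 0, 0, 0⟩, ⟨1, 1, 2, 3, 2, 1⟩, ⟨0, 0, 1, 0, 0, 0⟩,
  ⟨-1, -1, -2, -2, -1, -1⟩, ⟨0, 0, 0, 0, 0, 1⟩, ⟨0, 0, 0, 0, -1, -1⟩⟩]

/-- the cube -/
def cu (m : Mt) : Mt := ml m (ml m m)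

/-- an element of order dividing nine which fixes no root -/
def Gd (m : Mt) : Prop := (∀ a ∈ RL, ap m a ≠ a) ∧ cu (cu m) = id6

instance Gd.dec (m : Mt) : Decidable (Gd m) := by unfold Gd; infer_instance

/-- the value `c` is taken -/
def Vl (c : ℤ) (m : Mt) : Prop := ∃ a ∈ RL, fm a (ap m a) = c

instance Vl.dec (c : ℤ) (m : Mt) : Decidable (Vl c m) := by unfold Vl; infer_instance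

/-- the conclusion for an element which fixes the highest root -/
def P1 (m : Mt) : Prop := m = id6 ∨ (Vl (-1) m ∧ (Vl 1 m ∨ ∀ n ∈ L0, Gd (ml n m) ∨ Gd (ml n (ml m m))))

instance P1.dec (m : Mt) : Decidable (P1 m) := by unfold P1; infer_instance

/-- the image of the second simple root -/
def hb (a c d e f : V) : V :=
  ⟨(1 - a.a - 2 * c.a - 3 * d.a - 2 * e.a - f.a) / 2, (2 - a.b - 2 * c.b - 3 * d.b - 2 * e.b - f.b) / 2,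
    (2 - a.c - 2 * c.c - 3 * d.c - 2 * e.c - f.c) / 2, (3 - a.d - 2 * c.d - 3 * d.d - 2 * e.d - f.d) / 2,
    (2 - a.e - 2 * c.e - 3 * d.e - 2 * e.e - f.e) / 2, (1 - a.f - 2 * c.f - 3 * d.f - 2 * e.f - f.f) / 2⟩

theorem chk1 : ∀ a ∈ R0, ∀ c ∈ R0, fm a c = -1 → ∀ d ∈ R0, fm c d = -1 → fm a d = 0 → ∀ e ∈ R0, fm d e = -1 → fm c e = 0 → fm a e = 0 →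
    ∀ f ∈ R0, fm e f = -1 → fm d f = 0 → fm c f = 0 → fm a f = 0 → cu ⟨a, hb a c d e f, c, d, e, f⟩ = id6 →
      P1 ⟨a, hb a c d e f, c, d, e, f⟩ := by
  decide +kernel

end Cfsg.Agent.BZ.K3.E6C
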