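import Cfsg.Agent.BZ.L.K3.E6C

/-!
# BZ / L / K3 : elements of order three of the Weyl group of type `E₆`, normal forms (helper98)
-/

set_option autoImplicit false
set_option maxRecDepth 100000

namespace Cfsg.Agent.BZ.K3.E6C

/-- the highest root minus the second simple root -/
def b0 : V := ⟨1, 1, 2, 3, 2, 1⟩

/-- the negative -/
def ng (x : V) : V := ⟨-x.a, -x.b, -x.c, -x.d, -x.e, -x.f⟩

/-- the roots orthogonal to `th` and `nb` -/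
def R1 : List V := [⟨-1, 0, -1, 0, 0, 0⟩, ⟨-1, 0, 0, 0, 0, 0⟩, ⟨0, 0, -1, 0, 0, 0⟩, ⟨0, 0, 0, 0, -1, -1⟩, ⟨0, 0, 0, 0, -1, 0⟩,
  ⟨0, 0, 0, 0, 0, -1⟩, ⟨0, 0, 0, 0, 0, 1⟩, ⟨0, 0, 0, 0, 1, 0⟩, ⟨0, 0, 0, 0, 1, 1⟩, ⟨0, 0, 1, 0, 0, 0⟩, ⟨1, 0, 0, 0, 0, 0⟩, ⟨1, 0, 1, 0, 0, 0⟩]

/-- the image of the branch node -/
def hd (a c e f : V) : V :=
  ⟨(-2 - a.a - 2 * c.a - 2 * e.a - f.a) / 3, (-3 - a.b - 2 * c.b - 2 * e.b - f.b) / 3, (-4 - a.c - 2 * c.c - 2 * e.c - f.c) / 3,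
    (-6 - a.d - 2 * c.d - 2 * e.d - f.d) / 3, (-4 - a.e - 2 * c.e - 2 * e.e - f.e) / 3, (-2 - a.f - 2 * c.f - 2 * e.f - f.f) / 3⟩

/-- the conclusion for an element which moves the highest root -/
def P0 (m : Mt) : Prop := Vl 1 m ∨ (∀ x ∈ RL, ap m x ≠ x) ∨ m ∈ L0

instance P0.dec (m : Mt) : Decidable (P0 m) := by unfold P0; infer_instance

theorem chk0 : ∀ a ∈ R1, ∀ c ∈ R1, fm a c = -1 → ∀ e ∈ R1, fm a e = 0 → fm c e = 0 → ∀ f ∈ R1, fm e f = -1 →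
    cu ⟨a, b0, c, hd a c e f, e, f⟩ = id6 → P0 ⟨a, b0, c, hd a c e f, e, f⟩ := by
  decide +kernel

theorem tab : ∀ x ∈ RL, (fm x th = 0 → x ∈ R0) ∧ (fm x nb = 1 → fm x th = 1 → x = b0) ∧ (fm x nb = 0 → fm x b0 = 0 → x ∈ R1) ∧
    ((∀ z ∈ RL, 3 ∣ fm x z - fm th z) → x = th) ∧
    (x = th ∨ x = nb ∨ x = b0 ∨ x = ng th ∨ x = ng nb ∨ x = ng b0 ∨ ∃ y ∈ RL, fm th y = 0 ∧ fm nb y = 0 ∧ fm x y ∣ 4) := by
  decide +kernel

theorem bas : id6.a ∈ RL ∧ id6.b ∈ RL ∧ id6.c ∈ RL ∧ id6.d ∈ RL ∧ id6.e ∈ RL ∧ id6.f ∈ RL ∧ th ∈ RL ∧ nb ∈ RL := by decide +kernel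

theorem ap_bas (m : Mt) : ap m id6.a = m.a ∧ ap m id6.b = m.b ∧ ap m id6.c = m.c ∧ ap m id6.d = m.d ∧ ap m id6.e = m.e ∧
    ap m id6.f = m.f := by
  simp [ap, cb, id6]

theorem fm_comm (x y : V) : fm x y = fm y x := by
  simp only [fm]
  ring

/-- isometries which keep the roots -/
structure Iso (m : Mt) : Prop where
  rt : ∀ x ∈ RL, ap m x ∈ RL
  fm : ∀ x ∈ RL, ∀ y ∈ RL, fm (ap m x) (ap m y) = fm x y

variable {m : Mt}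

theorem one (h : Iso m) (h3 : cu m = id6) (h1 : ap m th = th) : P1 m := by
  obtain ⟨ra, -, rc, rd, re, rf, rt, -⟩ := bas
  obtain ⟨ea, -, ec, ed, ee, ef⟩ := ap_bas m
  have k : ∀ x ∈ RL, fm x th = 0 → ap m x ∈ R0 := fun x hx e => (tab _ (h.rt x hx)).1 (by rw [← e, ← h.fm x hx th rt, h1])
  have hb' : m.b = hb m.a m.c m.d m.e m.f := by
    simp only [ap, cb, th, V.mk.injEq] at h1
    rcases hm : m.b with ⟨_, _, _, _, _, _⟩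
    simp only [hm] at h1
    simp only [hb, V.mk.injEq]
    omega
  have := chk1 _ (k _ ra rfl) _ (k _ rc rfl) (h.fm _ ra _ rc) _ (k _ rd rfl) (h.fm _ rc _ rd) (h.fm _ ra _ rd) _ (k _ re rfl)
    (h.fm _ rd _ re) (h.fm _ rc _ re) (h.fm _ ra _ re) _ (k _ rf rfl) (h.fm _ re _ rf) (h.fm _ rd _ rf) (h.fm _ rc _ rf) (h.fm _ ra _ rf)
  rw [ea, ec, ed, ee, ef, ← hb'] at this
  exact this h3

theorem zero (h : Iso m) (h3 : cu m = id6) (h1 : ap m th = nb) (h2 : fm (ap m nb) th = -1) : P0 m := by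
  obtain ⟨ra, rb, rc, -, re, rf, rt, -⟩ := bas
  obtain ⟨ea, eb, ec, -, ee, ef⟩ := ap_bas m
  have hb' : ap m id6.b = b0 := (tab _ (h.rt _ rb)).2.1 (h1 ▸ h.fm _ rb _ rt) (by
    simp only [ap, cb, fm, nb, th, id6] at h2 ⊢
    omega)
  have k : ∀ x ∈ RL, fm x th = 0 → fm x id6.b = 0 → ap m x ∈ R1 := fun x hx e e' => (tab _ (h.rt x hx)).2.2.1
    (by rw [← e, ← h.fm x hx th rt, h1]) (by rw [← e', ← h.fm x hx _ rb, hb'])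
  rw [eb] at hb'
  have hd' : m.d = hd m.a m.c m.e m.f := by
    simp only [ap, cb, th, nb, V.mk.injEq, hb', b0] at h1
    rcases hm : m.d with ⟨_, _, _, _, _, _⟩
    simp only [hm] at h1
    simp only [hd, V.mk.injEq]
    omega
  have := chk0 _ (k _ ra rfl rfl) _ (k _ rc rfl rfl) (h.fm _ ra _ rc) _ (k _ re rfl rfl) (h.fm _ ra _ re) (h.fm _ rc _ re) _
    (k _ rf rfl rfl) (h.fm _ re _ rf)
  rw [ea, ec, ee, ef, ← hb', ← hd'] at this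
  exact this h3

end Cfsg.Agent.BZ.K3.E6C
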