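import Cfsg.Agent.BZ.L.K3.E6T
import Cfsg.Agent.BZ.L.K3.LS

/-!
# BZ / L / K3 : tools for the case of a root in the fixed lattice, type `E₆` (helper98)
-/

set_option autoImplicit false
set_option linter.unusedSectionVars false
set_option maxHeartbeats 400000

namespace Cfsg.Agent.BZ.K3.E6T

open Cfsg Cfsg.Lie Subgroup Matrix Cfsg.Agent.DL Cfsg.Agent.KM Cfsg.Agent.KM.Tor Cfsg.Agent.BZ.K3.LS Cfsg.Agent.BZ.K3.Rd

set_option synthInstance.maxSize 2048 in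
theorem ex_ef : ∀ a b c d : Fin 6, a ≠ b → a ≠ c → a ≠ d → b ≠ c → b ≠ d → c ≠ d → ∃ e f : Fin 6, (a ≠ e ∧ b ≠ e ∧ c ≠ e ∧ d ≠ e) ∧
    (a ≠ f ∧ b ≠ f ∧ c ≠ f ∧ d ≠ f) ∧ e ≠ f ∧ ∀ x, x = a ∨ x = b ∨ x = c ∨ x = d ∨ x = e ∨ x = f := by
  decide +kernel

theorem ex_d : ∀ a b c : Fin 6, ∃ d, d ≠ a ∧ d ≠ b ∧ d ≠ c := by decide +kernel

/-- normal form of a permutation of order three -/
theorem nf3 (π : Equiv.Perm (Fin 6)) (h3 : ∀ i, π (π (π i)) = i) {a d : Fin 6} (ha : π a ≠ a) (h1 : d ≠ a) (h2 : d ≠ π a)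
    (h4 : d ≠ π (π a)) : ∃ τ : Equiv.Perm (Fin 6), τ 0 = a ∧ τ 3 = d ∧ π (τ 0) = τ 1 ∧ π (τ 1) = τ 2 ∧ π (τ 2) = τ 0 ∧
      ((π (τ 3) = τ 3 ∧ π (τ 4) = τ 4 ∧ π (τ 5) = τ 5) ∨ (π (τ 3) = τ 4 ∧ π (τ 4) = τ 5 ∧ π (τ 5) = τ 3)) := by
  have k : ∀ x, π x ≠ x → x ≠ π (π x) := fun x hx e => hx ((congrArg π e).trans (h3 x))
  have n : ∀ {x y}, x ≠ y → π x ≠ π y := fun h => π.injective.ne h
  by_cases hd : π d = d
  · obtain ⟨e, f, ⟨e1, e2, e3, e4⟩, ⟨f1, f2, f3, f4⟩, ef, al⟩ := ex_ef a (π a) (π (π a)) d ha.symm (k a ha) h1.symm (n ha.symm) h2.symm h4.symm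
    have o : ∀ x, a ≠ x → π a ≠ x → π (π a) ≠ x → d ≠ x → π x = e ∨ π x = f := fun x x1 x2 x3 x4 => by
      rcases al (π x) with h | h | h | h | h
      exacts [absurd (h.trans (h3 a).symm).symm (n x3), absurd h.symm (n x1), absurd h.symm (n x2), absurd (h.trans hd.symm).symm (n x4), h]
    have he : π e = e := (o e e1 e2 e3 e4).resolve_right fun h => by
      have hf : π f = e := (o f f1 f2 f3 f4).resolve_right fun h' => n ef (h.trans h'.symm)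
      exact ef (by simpa only [h, hf] using (h3 e).symm)
    exact ⟨Equiv.ofBijective _ (Finite.injective_iff_bijective.1 (inj6 ha.symm (k a ha) h1.symm e1 f1 (n ha.symm) h2.symm e2 f2 h4.symm e3 f3
      e4 f4 ef)), rfl, rfl, rfl, rfl, h3 a, Or.inl ⟨hd, he, (o f f1 f2 f3 f4).resolve_left fun h => n ef (he.trans h.symm)⟩⟩
  · have k1 : a ≠ π d := fun e => n h4 (e.symm.trans (h3 a).symm)
    have k2 : a ≠ π (π d) := fun e => n (n h2) (e.symm.trans (h3 a).symm)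
    exact ⟨Equiv.ofBijective _ (Finite.injective_iff_bijective.1 (inj6 ha.symm (k a ha) h1.symm k1 k2 (n ha.symm) h2.symm (n h1.symm) (n k1)
      h4.symm (n h2.symm) (n (n h1.symm)) (Ne.symm hd) (k d hd) (n (Ne.symm hd)))), rfl, rfl, rfl, rfl, h3 a, Or.inr ⟨rfl, rfl, h3 d⟩⟩

theorem cube_of (π : Equiv.Perm (Fin 6)) {j : ℕ} (h : ∀ i, (π ^ 3 ^ j) i = i) (i : Fin 6) : π (π (π i)) = i := by
  have h1 : Function.minimalPeriod π i ∣ 3 ^ j := Function.IsPeriodicPt.minimalPeriod_dvd (by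
    rw [Function.IsPeriodicPt, Function.IsFixedPt, ← Equiv.Perm.coe_pow, h])
  obtain ⟨e, -, h2⟩ := (Nat.dvd_prime_pow Nat.prime_three).1 h1
  have h3 : Function.minimalPeriod π i ≤ 6 := Function.minimalPeriod_le_card.trans (by simp)
  have h4 : e ≤ 1 := by
    by_contra h5
    have := Nat.pow_le_pow_right (show 0 < 3 by decide) (show 2 ≤ e by omega)
    omega
  exact (Function.isPeriodicPt_iff_minimalPeriod_dvd (n := 3)).2 (h2 ▸ (pow_dvd_pow 3 h4).trans (by simp))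

theorem mod3 {y : Fin 6 → ℤ} {s : ℤ} (h : ∑ i, y i * y i - s * s = 4) (h1 : 3 ∣ y 0 - y 1) (h2 : 3 ∣ y 0 - y 2) (h3 : 3 ∣ y 3 - y 4)
    (h4 : 3 ∣ y 3 - y 5) : False := by
  have e := congrArg (Int.cast : ℤ → ZMod 3) h
  have k : ∀ {a b : ℤ}, 3 ∣ a - b → (b : ZMod 3) = a := fun h => (ZMod.intCast_eq_intCast_iff_dvd_sub _ _ 3).2 h
  rw [Fin.sum_univ_six] at e
  push_cast at e
  rw [k h1, k h2, k h3, k h4] at e
  generalize (y 0 : ZMod 3) = a at e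
  generalize (y 3 : ZMod 3) = b at e
  generalize (s : ZMod 3) = c at e
  revert a b c
  decide

theorem sum_sg (x : Fin 6 → ℤ) (k l : Fin 6) : ∑ i, x i * sg k l i = x k - x l := by
  simp [sg, mul_sub, Finset.sum_sub_distrib]

theorem tau3 : ∀ τ : Fin 3 → Fin 3, Function.Injective τ → τ^[3] = τ ∨ (∀ b, τ b = b + 1) ∨ ∀ b, τ b = b + 2 := by decide +kernel

variable {p : ℕ} [Fact p.Prime] {k : Type} [Field k] [CharP k p] {Y : Type} [Group Y] {N : Type} [Fintype N]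
  [DecidableEq N] {ρ : Y →* GL N k} {F : MulAut Y} {G : Subgroup Y} [IsAlgClosed k] {X : Datum p ρ F G}
  {d n : ℕ} {Q ε : ℤ} {A : Matrix X.R X.R ℤ} {Γ : Subgroup X.W} {g : X.W}

/-- the action as an additive map -/
noncomputable def aw (w : X.W) : (X.I → ℤ) →+ (X.I → ℤ) := AddMonoidHom.mk' (X.act w) fun a b => by simp only [Datum.act, map_add]

theorem is_aw (w : X.W) : Is X (aw w) := ⟨fun _ ha => ha.act w, fun a _ _ hb => TW.pr_act w a hb⟩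

theorem exists_σ (h : Nf X A n) (hε : ε = 1 ∨ ε = -1) : ∃ σ, Is X σ ∧ ∀ β, X.wt (σ β) = ε • (X.wt β ᵥ* A) := by
  choose f hf using exists_wtA h
  have e : ∀ a, X.Rt a → f (X.g a) = a := fun a ha => X.wt_injective ((hf _).symm.trans (h.wt a ha))
  refine ⟨AddMonoidHom.mk' (fun β => ε • f β) fun a b => X.wt_injective ?_, ⟨fun a ha => ?_, fun a b ha hb => ?_⟩, fun β => ?_⟩
  · simp only [map_add, map_zsmul, ← hf, add_vecMul, smul_add]
  · obtain ⟨a, ha', rfl⟩ := X.g_surj ha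
    rw [AddMonoidHom.mk'_apply, e a ha']
    rcases hε with rfl | rfl
    exacts [by rwa [one_smul], by rw [neg_one_smul]; exact ha'.neg]
  · obtain ⟨a, ha', rfl⟩ := X.g_surj ha
    obtain ⟨b, hb', rfl⟩ := X.g_surj hb
    simp only [AddMonoidHom.mk'_apply]
    rw [e a ha', e b hb', ← h.cor b hb', dotProduct_mulVec, h.wt a ha']
    rcases hε with rfl | rfl
    exacts [by rw [one_smul, one_smul], by rw [neg_one_smul, neg_one_smul, X.cor_neg hb', map_neg, neg_dotProduct_neg]]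
  · rw [AddMonoidHom.mk'_apply, map_zsmul, hf]

namespace Mo

variable (m : Mo X)

theorem exists_sg {i j : Fin 6} (h : i ≠ j) : ∃ b, X.Rt b ∧ m.c b = sg i j ∧ m.s b = 0 :=
  let ⟨b, h1, h2⟩ := m.sur (sg i j) 0 (by simpa using sum_sg 1 i j)
  ⟨b, m.rt b i j h (congrFun h1), h1, h2⟩

theorem exists_one (i : Fin 6) : ∃ b, m.c b = Pi.single i 3 ∧ m.s b = 1 := m.sur _ 1 (by simp)

theorem s_one {θ : X.I → ℤ} (h : ∀ k, m.c θ k = 1) : m.s θ = 2 := by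
  have := m.sum θ
  simp [h] at this
  omega

theorem it {π : Equiv.Perm (Fin 6)} {e : ℤ}
    (h : ∀ β, m.s (X.act g β) = m.s β ∧ ∀ i, 2 * m.c (X.act g β) (π i) - m.s β = e * (2 * m.c β i - m.s β)) (n : ℕ) (β : X.I → ℤ) :
    m.s (X.act (g ^ n) β) = m.s β ∧ ∀ i, 2 * m.c (X.act (g ^ n) β) ((π ^ n) i) - m.s β = e ^ n * (2 * m.c β i - m.s β) := by
  induction n with
  | zero => simp [RC.B.Kit.act_one']
  | succ n ih =>
    rw [pow_succ' g, act_mul', (h _).1]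
    refine ⟨ih.1, fun i => ?_⟩
    have := (h (X.act (g ^ n) β)).2 ((π ^ n) i)
    rw [ih.1, ih.2] at this
    rw [pow_succ' π, Equiv.Perm.mul_apply, this]
    ring

/-- a three-element is a permutation of order three -/
theorem inner {θ : X.I → ℤ} (hθ : ∀ k, m.c θ k = 1) (h : X.act g θ = θ) {j : ℕ} (hj : g ^ 3 ^ j = 1) : ∃ π : Equiv.Perm (Fin 6),
    (∀ i, π (π (π i)) = i) ∧ ∀ β, m.s (X.act g β) = m.s β ∧ ∀ i, m.c (X.act g β) (π i) = m.c β i := by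
  obtain ⟨π, e, h1, h2⟩ := m.cls (aw g) θ (is_aw g) hθ h
  have h3 : ∀ i, e = 1 ∧ (π ^ 3 ^ j) i = i := fun i => by
    obtain ⟨b, k1, k2⟩ := m.exists_one i
    have := (m.it h2 (3 ^ j) b).2 i
    rw [hj, RC.B.Kit.act_one', k1, k2, Pi.single_eq_same, Pi.single_apply] at this
    rcases h1 with rfl | rfl
    · exact ⟨rfl, by_contra fun e => by simp [e] at this⟩
    · rw [Odd.neg_one_pow (Odd.pow (by decide))] at this
      split_ifs at this <;> omega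
  refine ⟨π, cube_of π fun i => (h3 i).2, fun β => ⟨(h2 β).1, fun i => ?_⟩⟩
  have := (h2 β).2 i
  rw [(h3 i).1] at this
  change 2 * m.c (X.act g β) (π i) - _ = _ at this
  omega

/-- the test vector `θ + u` -/
theorem test (h : Nf X A n) (hd : (d = 1 ∧ ε = 1) ∨ (d = 2 ∧ ε = -1)) (hQ : 3 ∣ ε * Q - 1) (L : Lt X 3 d Q A Γ) (hg : g ∈ Γ) {j : ℕ}
    (hj : g ^ 3 ^ j = 1) (hs : ∀ β, m.s (X.act g β) = m.s β) {u v : X.I → ℤ} (hu : X.Rt u) (hv : X.Rt v) (huv : X.wt u ⬝ᵥ X.cor v = 0)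
    (hM : u + v ∈ LinearMap.ker (ei X ε A)) : ∃ y ∈ LinearMap.ker (ei X ε A), ∑ i, m.c y i * m.c y i - m.s y * m.s y = 4 ∧
      ∀ k l, 3 ∣ m.c (X.act g y) k - m.c y k - (m.c (X.act g y) l - m.c y l) := by
  obtain ⟨w, hw, h1⟩ := fix3 h hd hQ L hg hj hM
  refine ⟨_, act_mem h hd L (inv_mem hw) _ hM, ?_, fun k l => ?_⟩
  · have e1 := (m.pr _ _ (hu.act w⁻¹)).symm.trans (TW.pr_self (hu.act w⁻¹))
    have e2 := (m.pr _ _ (hv.act w⁻¹)).symm.trans (TW.pr_self (hv.act w⁻¹))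
    have e3 := (m.pr _ _ (hv.act w⁻¹)).symm.trans ((TW.pr_act w⁻¹ u hv).trans huv)
    simp only [Datum.act, map_add, Pi.add_apply, Fin.sum_univ_six] at e1 e2 e3 ⊢
    linear_combination e1 + e2 + 2 * e3
  · by_cases e : k = l
    · simp [e]
    obtain ⟨b, hb, k1, k2⟩ := m.exists_sg e
    have e1 := m.pr (X.act g (X.act w⁻¹ (u + v)) - X.act w⁻¹ (u + v)) b hb
    rw [k1, k2, sum_sg, mul_zero, sub_zero, map_sub m.c, Pi.sub_apply, Pi.sub_apply] at e1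
    have e2 := TW.pr_act w (X.act g (X.act w⁻¹ (u + v)) - X.act w⁻¹ (u + v)) hb
    rw [show X.act w (_ - _) = _ from map_sub (aw w) _ _] at e2
    change X.wt (X.act w _ - X.act w _) ⬝ᵥ _ = X.wt _ ⬝ᵥ _ at e2
    rw [act_act_inv, ← act_mul', ← act_mul'] at e2
    rw [← e1, ← e2]
    exact Finset.dvd_sum fun r _ => (h1 r).mul_right _

include m in
theorem of_tv (h : Nf X A n) (hd : (d = 1 ∧ ε = 1) ∨ (d = 2 ∧ ε = -1)) (ht : Tv X d A g) {β : X.I → ℤ}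
    (hβ : β ∈ LinearMap.ker (ei X ε A)) : X.act g β = β := by
  have hε : ε * ε = 1 := by rcases hd with ⟨-, rfl⟩ | ⟨-, rfl⟩ <;> rfl
  have h1 := ht _ ((ud_iff hd).2 (h.ka_eig hε (mem_ei.1 hβ)))
  rw [Wm_ka', ← sub_eq_zero, ← map_sub, ← map_sub] at h1
  have h2 := fun c hc => ka_zero (X := X) (x := X.wt (X.act g β - β)) (by rw [h1, dotProduct_zero]) (c := c) hc
  rw [← sub_eq_zero]
  generalize X.act g β - β = z at h2
  have h3 : ∀ i, m.c z i = m.c z 0 := fun i => by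
    by_cases e : i = 0
    · rw [e]
    obtain ⟨b, hb, k1, k2⟩ := m.exists_sg e
    have := (h2 b hb).symm.trans (m.pr z b hb)
    rw [k1, k2, sum_sg] at this
    omega
  obtain ⟨θ, k1, k2⟩ := m.sur 1 2 (by simp)
  have h4 := (h2 θ (m.th θ (congrFun k1))).symm.trans (m.pr z θ (m.th θ (congrFun k1)))
  have h5 := m.sum z
  simp only [k1, k2, Pi.one_apply, mul_one, Fin.sum_univ_six, h3 1, h3 2, h3 3, h3 4, h3 5] at h4 h5
  exact m.inj z 0 fun i => by rw [h3, map_zero, Pi.zero_apply]; omega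

end Mo

end Cfsg.Agent.BZ.K3.E6T
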