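import Cfsg.Agent.BZ.L.K3.E6S

/-!
# BZ / L / K3 : the model of `E₆` with the symmetric group on six letters (helper98)

`E6T.Mo X` : coordinates `c`, `s` of the root lattice; the isometries which fix the root `(1, …, 1)` are permutations up to sign.
-/

set_option autoImplicit false
set_option linter.unusedSectionVars false
set_option maxHeartbeats 400000
set_option maxRecDepth 100000

namespace Cfsg.Agent.BZ.K3.E6T

open Cfsg Cfsg.Lie Subgroup Matrix Cfsg.Agent.DL Cfsg.Agent.KM Cfsg.Agent.KM.Tor Cfsg.Agent.KZ.DatX Cfsg.Agent.Nodes.RGDChev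
  Cfsg.Agent.Tits.Roots Cfsg.Agent.BZ.K3.E6C Cfsg.Agent.BZ.K3.E6S Cfsg.Agent.RC.B
open Cfsg.Agent.H931.KC (hr)

/-- the six coordinates -/
def cc (x : V) : Fin 6 → ℤ := ![x.a, x.c - x.a, x.d - x.c, x.e - x.d + x.b, x.f - x.e + x.b, x.b - x.f]

/-- `e i - e j` -/
def sg (i j k : Fin 6) : ℤ := (if k = i then 1 else 0) - if k = j then 1 else 0

theorem tabE : (∀ x ∈ R0, x.b = 0 ∧ ∃ i j : Fin 6, i ≠ j ∧ ∀ k, cc x k = sg i j k) ∧
    (∀ i j : Fin 6, i ≠ j → ∃ x ∈ RL, ∀ k, cc x k = sg i j k) ∧ ∀ k, cc th k = 1 := by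
  decide +kernel

theorem tabS : ∀ i j k l : Fin 6, ∑ m, sg i j m * sg k l m = sg i j k - sg i j l ∧ (i ≠ j → k ≠ l →
    (sg i j k - sg i j l = -1 → (j = k ∧ i ≠ l) ∨ (i = l ∧ j ≠ k)) ∧ (sg i j k - sg i j l = 0 → i ≠ k ∧ i ≠ l ∧ j ≠ k ∧ j ≠ l)) := by
  decide +kernel

theorem sg_neg (i j k : Fin 6) : sg i j k = -1 * sg j i k := by
  simp only [sg]
  ring

theorem fm_cc (x y : V) : fm x y = ∑ i, cc x i * cc y i - x.b * y.b := by
  simp [fm, cc, Fin.sum_univ_six]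
  ring

theorem cc_inj {x y : V} (h : ∀ k, cc x k = cc y k) : x = y := by
  have h0 := h 0
  have h1 := h 1
  have h2 := h 2
  have h3 := h 3
  have h4 := h 4
  have h5 := h 5
  cases x
  cases y
  simp [cc] at h0 h1 h2 h3 h4 h5 ⊢
  omega

theorem cc_ap (m : Mt) (x : V) (k : Fin 6) : cc (ap m x) k =
    x.a * cc m.a k + x.b * cc m.b k + x.c * cc m.c k + x.d * cc m.d k + x.e * cc m.e k + x.f * cc m.f k := by
  fin_cases k <;> simp [cc, ap, cb] <;> ring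

theorem inj6 {a b c d e f : Fin 6} (h1 : a ≠ b) (h2 : a ≠ c) (h3 : a ≠ d) (h4 : a ≠ e) (h5 : a ≠ f) (h6 : b ≠ c) (h7 : b ≠ d) (h8 : b ≠ e)
    (h9 : b ≠ f) (h10 : c ≠ d) (h11 : c ≠ e) (h12 : c ≠ f) (h13 : d ≠ e) (h14 : d ≠ f) (h15 : e ≠ f) :
    Function.Injective ![a, b, c, d, e, f] :=
  List.nodup_ofFn.1 (by simp [*])

theorem perm {m : Mt} (h : E6C.Iso m) (h1 : ap m th = th) : ∃ (p : Fin 6 → Fin 6) (ε : ℤ), Function.Injective p ∧ (ε = 1 ∨ ε = -1) ∧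
    ∀ x, (ap m x).b = x.b ∧ ∀ i, 2 * cc (ap m x) (p i) - x.b = ε * (2 * cc x i - x.b) := by
  obtain ⟨ra, -, rc, rd, re, rf, rt, -⟩ := bas
  obtain ⟨ea, -, ec, ed, ee, ef⟩ := ap_bas m
  have k : ∀ x ∈ RL, fm x th = 0 → (ap m x).b = 0 ∧ ∃ i j : Fin 6, i ≠ j ∧ ∀ k, cc (ap m x) k = sg i j k := fun x hx e =>
    tabE.1 _ ((tab _ (h.rt x hx)).1 (by rw [← e, ← h.fm x hx th rt, h1]))
  have k' : ∀ x ∈ RL, ∀ y ∈ RL, ∀ {i j k l}, (ap m x).b = 0 → (∀ n, cc (ap m x) n = sg i j n) → (∀ n, cc (ap m y) n = sg k l n) →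
      sg i j k - sg i j l = fm x y := fun x hx y hy i j k l e1 e2 e3 => by
    rw [← h.fm x hx y hy, fm_cc, e1, zero_mul, sub_zero, ← (tabS i j k l).1]
    simp only [e2, e3]
  obtain ⟨a0, i0, j0, n0, c0⟩ := k _ ra rfl
  obtain ⟨a1, i1, j1, n1, c1⟩ := k _ rc rfl
  obtain ⟨a2, i2, j2, n2, c2⟩ := k _ rd rfl
  obtain ⟨a3, i3, j3, n3, c3⟩ := k _ re rfl
  obtain ⟨a4, i4, j4, n4, c4⟩ := k _ rf rfl
  have p01 := ((tabS ..).2 n0 n1).1 (k' _ ra _ rc a0 c0 c1)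
  have p12 := ((tabS ..).2 n1 n2).1 (k' _ rc _ rd a1 c1 c2)
  have p23 := ((tabS ..).2 n2 n3).1 (k' _ rd _ re a2 c2 c3)
  have p34 := ((tabS ..).2 n3 n4).1 (k' _ re _ rf a3 c3 c4)
  have p02 := ((tabS ..).2 n0 n2).2 (k' _ ra _ rd a0 c0 c2)
  have p03 := ((tabS ..).2 n0 n3).2 (k' _ ra _ re a0 c0 c3)
  have p04 := ((tabS ..).2 n0 n4).2 (k' _ ra _ rf a0 c0 c4)
  have p13 := ((tabS ..).2 n1 n3).2 (k' _ rc _ re a1 c1 c3)
  have p14 := ((tabS ..).2 n1 n4).2 (k' _ rc _ rf a1 c1 c4)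
  have p24 := ((tabS ..).2 n2 n4).2 (k' _ rd _ rf a2 c2 c4)
  rw [ea] at a0 c0
  rw [ec] at a1 c1
  rw [ed] at a2 c2
  rw [ee] at a3 c3
  rw [ef] at a4 c4
  obtain ⟨p, ε, hp, hε, d0, d1, d2, d3, d4⟩ : ∃ (p : Fin 6 → Fin 6) (ε : ℤ), Function.Injective p ∧ (ε = 1 ∨ ε = -1) ∧
      (∀ k, cc m.a k = ε * sg (p 0) (p 1) k) ∧ (∀ k, cc m.c k = ε * sg (p 1) (p 2) k) ∧ (∀ k, cc m.d k = ε * sg (p 2) (p 3) k) ∧
      (∀ k, cc m.e k = ε * sg (p 3) (p 4) k) ∧ ∀ k, cc m.f k = ε * sg (p 4) (p 5) k := by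
    rcases p01 with ⟨rfl, q01⟩ | ⟨rfl, q01⟩
    · obtain ⟨rfl, q12⟩ := p12.resolve_right fun h => p02.2.2.2 h.1
      obtain ⟨rfl, q23⟩ := p23.resolve_right fun h => p13.2.2.2 h.1
      obtain ⟨rfl, q34⟩ := p34.resolve_right fun h => p24.2.2.2 h.1
      exact ⟨![i0, j0, j1, j2, j3, j4], 1, inj6 n0 q01 p02.2.1 p03.2.1 p04.2.1 n1 q12 p13.2.1 p14.2.1 n2 q23 p24.2.1 n3 q34 n4,
        Or.inl rfl, fun k => (c0 k).trans (one_mul _).symm, fun k => (c1 k).trans (one_mul _).symm,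
        fun k => (c2 k).trans (one_mul _).symm, fun k => (c3 k).trans (one_mul _).symm, fun k => (c4 k).trans (one_mul _).symm⟩
    · obtain ⟨rfl, q12⟩ := p12.resolve_left fun h => p02.1 h.1
      obtain ⟨rfl, q23⟩ := p23.resolve_left fun h => p13.1 h.1
      obtain ⟨rfl, q34⟩ := p34.resolve_left fun h => p24.1 h.1
      exact ⟨![j0, i0, i1, i2, i3, i4], -1, inj6 n0.symm q01 p02.2.2.1 p03.2.2.1 p04.2.2.1 n1.symm q12 p13.2.2.1 p14.2.2.1 n2.symm q23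
        p24.2.2.1 n3.symm q34 n4.symm, Or.inr rfl, fun k => (c0 k).trans (sg_neg ..), fun k => (c1 k).trans (sg_neg ..),
        fun k => (c2 k).trans (sg_neg ..), fun k => (c3 k).trans (sg_neg ..), fun k => (c4 k).trans (sg_neg ..)⟩
  have hs : ∀ a b i, sg (p a) (p b) (p i) = sg a b i := fun a b i => by simp only [sg, hp.eq_iff]
  refine ⟨p, ε, hp, hε, fun x => ⟨?_, fun i => ?_⟩⟩
  · have := congrArg V.b h1
    simp only [ap, cb, th, a0, a1, a2, a3, a4] at this ⊢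
    rw [show m.b.b = 1 by omega]
    ring
  · have e := cc_ap m th (p i)
    rw [h1, tabE.2.2] at e
    rw [cc_ap]
    simp only [d0, d1, d2, d3, d4, hs, th] at e ⊢
    generalize cc m.b (p i) = u at e
    fin_cases i <;> simp [sg, cc] at e ⊢ <;> linear_combination -x.b * e

variable {p : ℕ} [Fact p.Prime] {k : Type} [Field k] [CharP k p] {Y : Type} [Group Y] {N : Type} [Fintype N]
  [DecidableEq N] {ρ : Y →* GL N k} {F : MulAut Y} {G : Subgroup Y} [IsAlgClosed k] (X : Datum p ρ F G)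

/-- isometries of the root system -/
structure Is (φ : (X.I → ℤ) →+ (X.I → ℤ)) : Prop where
  rt : ∀ a, X.Rt a → X.Rt (φ a)
  pr : ∀ a b, X.Rt a → X.Rt b → X.wt (φ a) ⬝ᵥ X.cor (φ b) = X.wt a ⬝ᵥ X.cor b

/-- **the model** -/
structure Mo where
  c : (X.I → ℤ) →+ (Fin 6 → ℤ)
  s : (X.I → ℤ) →+ ℤ
  sum : ∀ β, ∑ i, c β i = 3 * s β
  inj : ∀ β β', (∀ i, c β i = c β' i) → β = β'
  sur : ∀ (x : Fin 6 → ℤ) (t : ℤ), ∑ i, x i = 3 * t → ∃ β, c β = x ∧ s β = t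
  pr : ∀ β b, X.Rt b → X.wt β ⬝ᵥ X.cor b = ∑ i, c β i * c b i - s β * s b
  rt : ∀ β i j, i ≠ j → (∀ k, c β k = sg i j k) → X.Rt β
  th : ∀ β, (∀ k, c β k = 1) → X.Rt β
  cls : ∀ φ θ, Is X φ → (∀ k, c θ k = 1) → φ θ = θ → ∃ (π : Equiv.Perm (Fin 6)) (ε : ℤ), (ε = 1 ∨ ε = -1) ∧
    ∀ β, s (φ β) = s β ∧ ∀ i, 2 * c (φ β) (π i) - s β = ε * (2 * c β i - s β)

variable {X}

/-- renumbering -/
def Mo.re (m : Mo X) (τ : Equiv.Perm (Fin 6)) : Mo X where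
  c := AddMonoidHom.mk' (fun β i => m.c β (τ i)) fun a b => by rw [map_add]; rfl
  s := m.s
  sum β := (Equiv.sum_comp τ (m.c β)).trans (m.sum β)
  inj β β' h := m.inj β β' fun i => by simpa using h (τ.symm i)
  sur x t h :=
    let ⟨β, h1, h2⟩ := m.sur (fun i => x (τ.symm i)) t ((Equiv.sum_comp τ.symm x).trans h)
    ⟨β, funext fun i => by simp [h1], h2⟩
  pr β b hb := (m.pr β b hb).trans (congrArg (· - m.s β * m.s b) (Equiv.sum_comp τ fun i => m.c β i * m.c b i).symm)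
  rt β i j hij h := m.rt β (τ i) (τ j) (τ.injective.ne hij) fun k => by
    simpa [sg, Equiv.symm_apply_eq] using h (τ.symm k)
  th β h := m.th β fun k => by simpa using h (τ.symm k)
  cls φ θ h1 h2 h3 :=
    let ⟨π, ε, k1, k2⟩ := m.cls φ θ h1 (fun k => by simpa using h2 (τ.symm k)) h3
    ⟨τ⁻¹ * π * τ, ε, k1, fun β => ⟨(k2 β).1, fun i => by simpa using (k2 β).2 (τ i)⟩⟩

theorem Mo.re_c (m : Mo X) (τ : Equiv.Perm (Fin 6)) (β : X.I → ℤ) (i : Fin 6) : (m.re τ).c β i = m.c β (τ i) := rfl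

variable {Mx : Matrix (Fin 6) (Fin 6) ℤ} {X₀ : XF hpE6 p k Mx} (K : Kit X X₀)

/-- the matrix of an additive map -/
noncomputable def ma (φ : (X.I → ℤ) →+ (X.I → ℤ)) : Mt :=
  ⟨ev K (φ (K.e.symm (sr 0))), ev K (φ (K.e.symm (sr 1))), ev K (φ (K.e.symm (sr 2))),
    ev K (φ (K.e.symm (sr 3))), ev K (φ (K.e.symm (sr 4))), ev K (φ (K.e.symm (sr 5)))⟩

theorem ap_ma (φ : (X.I → ℤ) →+ (X.I → ℤ)) (a : X.I → ℤ) : ap (ma K φ) (ev K a) = ev K (φ a) := by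
  obtain ⟨x, rfl⟩ := K.e.symm.surjective a
  have h : K.e (φ (K.e.symm x)) = ∑ i, x i • K.e (φ (K.e.symm (sr i))) := by
    conv_lhs => rw [sum_sr x]
    simp only [map_sum, map_zsmul]
  simp only [ev, tv, ma, ap, cb, h, Fin.sum_univ_six, Pi.add_apply, Pi.smul_apply, smul_eq_mul, AddEquiv.apply_symm_apply]

/-- the model of a kit -/
noncomputable def mo : Mo X where
  c := AddMonoidHom.mk' (fun β => cc (ev K β)) fun a b => funext fun i => by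
    fin_cases i <;> simp [cc, ev, tv] <;> ring
  s := AddMonoidHom.mk' (fun β => (ev K β).b) fun a b => by simp [ev, tv]
  sum β := by
    show ∑ i, cc (ev K β) i = 3 * (ev K β).b
    simp [cc, Fin.sum_univ_six]
    ring
  inj β β' h := ev_inj K (cc_inj h)
  sur x t h := by
    rw [Fin.sum_univ_six] at h
    refine ⟨K.e.symm ![x 0, t, x 0 + x 1, x 0 + x 1 + x 2, x 0 + x 1 + x 2 + x 3 - t, t - x 5], funext fun i => ?_, by simp [ev, tv]⟩
    fin_cases i <;> simp [cc, ev, tv] <;> omega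
  pr β b hb := (fm_ev K β hb).symm.trans (fm_cc _ _)
  rt β i j hij h := by
    obtain ⟨x, hx, e⟩ := tabE.2.1 i j hij
    obtain ⟨a, ha, rfl⟩ := of_rl K hx
    exact ev_inj K (cc_inj fun k => (e k).trans (h k).symm) ▸ ha
  th β h := by
    obtain ⟨a, ha, e⟩ := of_rl K bas.2.2.2.2.2.2.1
    exact ev_inj K (e.trans (cc_inj fun k => (tabE.2.2 k).trans (h k).symm)) ▸ ha
  cls φ θ h1 h2 h3 := by
    have e : ev K θ = th := cc_inj fun k => (h2 k).trans (tabE.2.2 k).symm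
    have hI : E6C.Iso (ma K φ) := by
      refine ⟨fun x hx => ?_, fun x hx y hy => ?_⟩
      · obtain ⟨a, ha, rfl⟩ := of_rl K hx
        exact ap_ma K φ a ▸ rl K (h1.rt a ha)
      · obtain ⟨a, ha, rfl⟩ := of_rl K hx
        obtain ⟨b, hb, rfl⟩ := of_rl K hy
        rw [ap_ma, ap_ma, fm_ev K _ (h1.rt b hb), fm_ev K _ hb, h1.pr a b ha hb]
    obtain ⟨π, ε, k1, k2, k3⟩ := perm hI (by rw [← e, ap_ma, h3])
    exact ⟨Equiv.ofBijective π (Finite.injective_iff_bijective.1 k1), ε, k2, fun β => by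
      have := k3 (ev K β)
      rwa [ap_ma] at this⟩

include K in
theorem exists_mo (H : Ok X chevE6 6 1) {θ : X.I → ℤ} (h : X.Rt θ) : ∃ m : Mo X, ∀ k, m.c θ k = 1 := by
  obtain ⟨u, hu⟩ := K.one H h
  exact ⟨mo (K.tw H.sl u), fun k => (congrArg (cc · k) ((congrArg tv hu).trans vec_RL.2.2.1)).trans (tabE.2.2 k)⟩

include K in
/-- two roots which are congruent modulo three are equal -/
theorem root_eq (H : Ok X chevE6 6 1) {a b : X.I → ℤ} (ha : X.Rt a) (hb : X.Rt b) (h : ∀ r, 3 ∣ X.wt (b - a) r) : b = a := by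
  obtain ⟨u, hu⟩ := K.one H ha
  generalize K.tw H.sl u = K' at hu
  have h3 : ev K' a = th := (congrArg tv hu).trans vec_RL.2.2.1
  refine ev_inj K' (((tab _ (rl K' hb)).2.2.2.1 fun z hz => ?_).trans h3.symm)
  obtain ⟨c, hc, rfl⟩ := of_rl K' hz
  rw [← h3, fm_ev K' _ hc, fm_ev K' _ hc, ← sub_dotProduct, ← map_sub]
  exact Finset.dvd_sum fun r _ => (h r).mul_right _

end Cfsg.Agent.BZ.K3.E6T
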