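import Cfsg.Agent.BZ.L.K3.Defs
import Cfsg.Agent.BZ.Lab.Main
import Cfsg.Agent.S5001
import Cfsg.Agent.S4438
import Cfsg.Agent.S4652

/-!
# BZ / L / K3 : the box `BoxKb` from the character of the intermediate Levi subgroup (helper42)

* `Kb.top_up` : the block of a top pair induces the block, if `C(P)` is a centraliser of an `l`-group;
* `Kb.cen_triv` : a member of height zero over the principal block of a normal subgroup;
* `Kb.BoxChi`, `boxKb_of`.
-/

set_option autoImplicit false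
set_option linter.unusedSectionVars false
set_option linter.style.haveILetI false

namespace Cfsg.Agent.BZ.K3

open Cfsg Subgroup Cfsg.Agent.HZ.Gen Cfsg.Agent.KM Cfsg.Agent.BZ.Lab Cfsg.Agent.BZ.L Cfsg.Agent.Characters.Core Cfsg.Agent.Blocks
  Cfsg.Agent.Blocks.Basic Cfsg.Agent.Blocks.Local
open scoped commutatorElement

namespace Kb

variable {l r m n N : ℕ} {K L : Type} [Group K] [Fintype K] [Group L] [Fintype L] {α : MulAut K} {β : MulAut L} {ι : L →* K}
  {M : Ideal AlgInt} {B : Set (IrrCharacter K)} {P : Subgroup K} {b : Set (IrrCharacter L)}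

/-- **the block of a top pair induces the block** -/
theorem top_up (h : Fr l r m n N K α) (hM : IsPModular l M) (T : Top r M α B P ι β b) (hv : Lv l (centralizer (P : Set K))) :
    ∀ ψ ∈ b, ∀ ξ ∈ B, Up l M ι (ψ : L → ℂ) (ξ : K → ℂ) := by
  intro φ hφ ξ hξ
  have : Fact r.Prime := ⟨h.rp⟩
  have := isPrime_of_isPModular hM
  have e := T.emb
  have hs : StS α ((Zs l L).map ι) := (zs_st β).map e
  have hLC : ∀ y, ι y ∈ centralizer (((Zs l L).map ι : Subgroup K) : Set K) := by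
    rintro y _ ⟨t, ht, rfl⟩
    rw [← map_mul, ← map_mul, mem_center_iff.1 ht.1 y]
  have hF : Fx l α ((Zs l L).map ι) := ⟨zs_p.map ι, by rintro _ ⟨y, -, rfl⟩; exact hLC y, by
    rintro _ ⟨t, ht, rfl⟩
    rw [← e.cm, boxSt.grp (h.toGl.sub e) _ zs_p (zs_st β) t ht]⟩
  have hQ : (Zs l L).map ι ≤ centralizer (P : Set K) := T.rg ▸ map_le_range ι _
  generalize hQ' : (Zs l L).map ι = Q at hs hLC hF hQ
  letI := Fintype.ofFinite (centralizer (Q : Set K))
  have hPC : P ≤ (centralizer (Q : Set K)).subtype.range := by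
    rw [range_subtype]
    exact fun x hx q hq => (hQ hq x hx).symm
  let κ : L →* centralizer (Q : Set K) := ι.codRestrict _ hLC
  have eκ : Emb κ β hs.cen.res := ⟨fun a b h4 => e.inj (congrArg Subtype.val h4), fun y => Subtype.ext (e.cm y)⟩
  have hκ : κ.range = centralizer ((P.comap (centralizer (Q : Set K)).subtype : Subgroup _) : Set (centralizer (Q : Set K))) := by
    rw [cen_comap (subtype_injective _) hPC, ← T.rg]
    ext c
    exact ⟨fun ⟨y, h4⟩ => ⟨y, congrArg Subtype.val h4⟩, fun ⟨y, h4⟩ => ⟨y, Subtype.ext h4⟩⟩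
  have ha : ∀ y, ¬ l ∣ orderOf y → y ∈ κ.range := fun y hy => by
    obtain ⟨R, h2, h3, h4⟩ := hv
    obtain ⟨x, hx⟩ : (y : K) ∈ ι.range := T.rg ▸ h4 y (fun q hq => y.2 q (by
      obtain ⟨t, rfl⟩ : q ∈ ι.range := T.rg ▸ fun x hx => (h3 (h.bg.ab' T.rp hx) q hq).symm
      refine hQ' ▸ ⟨t, ⟨mem_center_iff.2 fun x => e.inj ?_, (h2 ⟨_, hq⟩).imp fun k hk => e.inj ?_⟩, rfl⟩
      · rw [map_mul, map_mul]
        exact (h3 (T.rg ▸ ⟨x, rfl⟩ : ι x ∈ centralizer (P : Set K)) _ hq).symm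
      · rw [map_pow, map_one]
        exact congrArg Subtype.val hk)) (by rwa [orderOf_coe])
    exact ⟨x, Subtype.ext hx⟩
  obtain ⟨η, h1, T'⟩ := boxY (κ' := MonoidHom.id L) h hM T hF hQ hs.cen.emb (range_subtype _) eκ hκ (fun _ => rfl) φ (T.sb φ hφ)
    ⟨φ, hφ, boxUp.nrm hM Function.injective_id (fun y _ => ⟨y, rfl⟩) (by
      show classInner (φ : L → ℂ) φ ≠ 0
      rw [classInner_irr_self φ.2]
      exact one_ne_zero)⟩
  obtain ⟨ξ', h2, ψ', h3, h4⟩ := T'.lnk
  exact boxUp.trans hM eκ.inj (boxUp.congr hM (sameBlock_symm h3) (sameBlock_symm h2) (boxUp.nrm hM eκ.inj ha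
    (rs_all boxSt (h.sub hs.cen.emb) T'.rp eκ.inj hκ ha (T'.sB ξ' h2) ▸ h4))) (subtype_injective _) (h1 ξ hξ)

/-- **a member of height zero over the principal block of a normal subgroup** is trivial on the central commutators -/
theorem cen_triv (hM : IsPModular l M) {H : Type} [Group H] [Fintype H] {j : H →* L} (hj : Function.Injective j) [j.range.Normal]
    {χ : IrrCharacter H} (hχ : χ ∈ principalBlock M H) {η : IrrCharacter L} (h0 : classInner ((η : L → ℂ) ∘ j) χ ≠ 0)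
    (hz : blockHeight l (blockOf M (η : L → ℂ)) (η : L → ℂ) = 0) {z : H} (h1 : j z ∈ Zs l L)
    (h2 : ∀ S : Sylow l H, z ∈ ⁅(S : Subgroup H), (S : Subgroup H)⁆) : (χ : H → ℂ) z = (χ : H → ℂ) 1 := by
  classical
  have : Fact l.Prime := ⟨hM.1⟩
  have := isPrime_of_isPModular hM
  letI := Fintype.ofFinite j.range
  let e := MonoidHom.ofInjective hj
  let S : Sylow l H := default
  have hB : IsPBlock M (principalBlock M H) := ⟨⟨_, Characters.Linear.isIrrCharacter_hom (1 : H →* ℂˣ)⟩, rfl⟩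
  have h3 := H649.isDefectGroup_blkMap (e := e) ((S4652.result l M hM _).2 ⟨S, rfl⟩)
  have h4 : (S : Subgroup H).map e.toMonoidHom = ((S : Subgroup H).map j).subgroupOf j.range := by
    ext y
    obtain ⟨x, rfl⟩ := e.surjective y
    exact (mem_map_iff_mem e.injective).trans (mem_map_iff_mem hj).symm
  obtain ⟨D, hD, h5⟩ := S4438.result l M hM j.range _ (H649.isPBlock_blkMap hB) _ (map_le_range j _) (h4 ▸ h3) _
    (isPBlock_blockOf (M := M) η) ⟨η, sameBlock_refl _, _, H649.irrMap_mem_blkMap.2 hχ, by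
      rw [← Characters.Clifford.classInner_comp_mulEquiv e]
      rwa [show (H649.irrMap e χ : j.range → ℂ) ∘ e = χ from funext (H649.irrMap_apply' e χ)]⟩
  obtain ⟨ω, hω⟩ := exists_omega η.2 (Zs l L).subtype fun a => a.2.1
  have h6 := cen_le_defect hM (isPBlock_blockOf (M := M) η) hD zs_le zs_p
  obtain ⟨μ, hμ⟩ := S5001.result l M hM _ (isPBlock_blockOf (M := M) η) D hD _ zs_le zs_p h6 ω η (sameBlock_refl _)
    (fun a => by rw [mul_comm, ← hω, mul_one]; rfl) hz
  have h7 : ∀ x : S, j x ∈ D := fun x => (h5.ge ⟨x, x.2, rfl⟩).1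
  let ν : S →* ℂˣ := μ.comp ((j.comp (S : Subgroup H).subtype).codRestrict D h7)
  have h8 := h2 S
  rw [← map_subtype_commutator] at h8
  obtain ⟨x, hx, rfl⟩ := h8
  have h9 : ω ⟨_, h1⟩ = 1 := (hμ ⟨_, h1⟩).symm.trans (Abelianization.commutator_subset_ker ν hx)
  have h10 : (S : Subgroup H).subtype x ∈ center H := mem_center_iff.2 fun y => hj (by
    rw [map_mul, map_mul, mem_center_iff.1 h1.1])
  obtain ⟨ω', hω'⟩ := exists_omega χ.2 (center H).subtype fun a => a.2
  have h11 := inner_shift (a := 1) (fun y => by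
    have := hω ⟨_, h1⟩ (j y)
    rw [h9] at this
    rw [Function.comp_apply, map_mul]
    exact this) (hω' ⟨_, h10⟩) h0
  have h12 := hω' ⟨_, h10⟩ 1
  rw [one_mul, ← map_one (starRingEnd ℂ)] at h11
  rwa [mul_one, (starRingEnd ℂ).injective h11, one_mul] at h12

variable {Z H C Q₁ : Subgroup K}

theorem le_M : centralizer (P : Set K) ≤ centralizer (↑(P ⊓ C) : Set K) := centralizer_le (SetLike.coe_subset_coe.2 inf_le_left)

theorem h_le (G : Kg l r P Z H C Q₁) : H ≤ centralizer (↑(P ⊓ C) : Set K) :=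
  G.hc.trans (centralizer_le (SetLike.coe_subset_coe.2 inf_le_right))

theorem lv_L (G : Kg l r P Z H C Q₁) : Lv l (centralizer (P : Set K)) := by
  obtain ⟨R, h1, h2, h3⟩ := G.lv
  have h4 : Q₁ ≤ centralizer (R : Set K) := (G.qh.trans inf_le_left).trans ((h_le G).trans h2)
  refine ⟨R ⊔ Q₁, h1.to_sup_of_normal_left' G.qp (h4.trans (Subgroup.centralizer_le_normalizer _)), ?_, fun y hy hl => ?_⟩
  · exact le_centralizer_iff.1 (sup_le (le_centralizer_iff.1 (le_M.trans h2)) (G.qh.trans G.tc))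
  · exact G.cq y (h3 y (centralizer_le (SetLike.coe_subset_coe.2 le_sup_left) hy) hl)
      (centralizer_le (SetLike.coe_subset_coe.2 le_sup_right) hy) hl

/-- the character of the intermediate Levi subgroup -/
def BoxChi : Prop :=
  ∀ {l r : ℕ} {K : Type} [Group K] [Fintype K] {M : Ideal AlgInt} {P Z H C Q₁ : Subgroup K} [Fintype H]
    {b : Set (IrrCharacter (centralizer (P : Set K)))}, IsPModular l M → (G : Kg l r P Z H C Q₁) → r.Prime → l ≠ r → IsPGroup r P →
    P ≤ centralizer (P : Set K) → Z ≤ center K → IsPGroup l Z → IsPBlock M b →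
    (∀ ψ ∈ b, Tight r (centralizer (P : Set K)).subtype P (ψ : centralizer (P : Set K) → ℂ)) →
    ∀ g ∈ normalizer (P : Set K), Stab (centralizer (P : Set K)).subtype b g → On l (H ⊓ centralizer (P : Set K)) g →
    ∀ (χ : IrrCharacter H) (z : H), Rho l r M Z H C χ z → ∃ ψ ∈ b, ∃ η : IrrCharacter (centralizer (↑(P ⊓ C) : Set K)),
      Up l M (inclusion (le_M (P := P) (C := C))) (ψ : centralizer (P : Set K) → ℂ) (η : centralizer (↑(P ⊓ C) : Set K) → ℂ) ∧
      Tight r (centralizer (↑(P ⊓ C) : Set K)).subtype (P ⊓ C) (η : centralizer (↑(P ⊓ C) : Set K) → ℂ) ∧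
      Ov (Z.subgroupOf _) (η : centralizer (↑(P ⊓ C) : Set K) → ℂ) ∧
      classInner ((η : centralizer (↑(P ⊓ C) : Set K) → ℂ) ∘ inclusion (h_le G)) χ ≠ 0

end Kb

open Kb in
/-- **[KB]** -/
theorem boxKb_of (hX : BoxChi) : BoxKb := by
  intro l r m n N K _ _ α M B P Z H C Q₁ _ β b h hM T hZ pZ G hs g hg sg og χ z R hz
  have : Fact r.Prime := ⟨h.rp⟩
  have := isPrime_of_isPModular hM
  letI := Fintype.ofFinite H
  letI := Fintype.ofFinite (centralizer (↑(P ⊓ C) : Set K))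
  obtain ⟨ψ, hψ, η, h1, h2, h3, h4⟩ := hX hM G h.rp h.ne T.rp (h.bg.ab' T.rp) hZ pZ T.hb
    (fun ψ hψ => (boxOs.all h hM T ψ hψ).1) g hg sg og χ z R
  obtain ⟨ξ₀, h5⟩ := isPBlock_nonempty T.hB
  obtain ⟨χ₀, h6⟩ := boxUp.ex hM (subtype_injective _) (by rw [range_subtype]; exact G.lv) η
  have h7 : Up l M (centralizer (↑(P ⊓ C) : Set K)).subtype η.1 ξ₀.1 := boxUp.congr hM (sameBlock_refl _)
    (boxUp.uniq hM (boxUp.trans hM (inclusion_injective _) h1 (subtype_injective _) h6) (top_up h hM T (lv_L G) ψ hψ ξ₀ h5)) h6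
  have hP : IsPGroup r ↥(P ⊓ C) := T.rp.to_inf_left
  obtain ⟨ξ, h8, h9⟩ := Lab.exists_over boxSt boxUf boxCur hM h hP hs hs.cen.emb (range_subtype _) G.lv (T.sB ξ₀ h5) h7
  have h10 : ξ ∈ B := isPBlock_eq_blockOf T.hB h5 ▸ h8
  have h11 := hz ξ h10 fun y hy => by
    have h12 := cen_rs boxSt h hP hs.cen.emb (range_subtype _) (T.sB ξ h10) h9 (z := ⟨y, center_le_centralizer _ (hZ hy)⟩) (hZ hy)
    rwa [h3 _ hy, div_self (irr_one_ne_zero η.2), div_eq_one_iff_eq (irr_one_ne_zero ξ.2)] at h12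
  rw [isPBlock_eq_blockOf T.hB h10] at h11
  have h12 := (crit_of boxSt boxUf boxCur boxOrb hM h hP hs hs.cen.emb (range_subtype _) G.lv (T.sB ξ h10)
    (boxUp.congr hM (sameBlock_refl _) h8 h7) h9 h2 h11).1
  haveI : (inclusion (h_le G)).range.Normal := by
    rw [inclusion_range]
    exact normal_subgroupOf_of_le_normalizer G.nH
  obtain ⟨k, e⟩ := G.int ⟨z, z.2, R.zc⟩
  exact R.ne (cen_triv hM (inclusion_injective _) R.pr h4 h12 ⟨mem_center_iff.2 fun y => Subtype.ext (G.ic ⟨z.2, R.zc⟩ y y.2),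
    k, Subtype.ext (congrArg Subtype.val e :)⟩ R.cm)

end Cfsg.Agent.BZ.K3
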