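import Cfsg.Agent.BZ.L.K3.RhoD
import Cfsg.Agent.BZ.L.K3.RhoW
import Cfsg.Agent.BZ.L.W1

/-!
# BZ / L / K3 : `BoxRho` from its halves (helper13)
-/

set_option autoImplicit false
set_option linter.unusedSectionVars false

namespace Cfsg.Agent.BZ.K3

open Cfsg Cfsg.Lie Subgroup Matrix Cfsg.Agent.HZ.Gen Cfsg.Agent.KM Cfsg.Agent.BZ.Lab Cfsg.Agent.BZ.L Cfsg.Agent.DL Cfsg.Agent.KM.Ht
  Cfsg.Agent.KM.Tor
open scoped commutatorElement Pointwise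

namespace Rq

theorem comm_pow {H : Type} [Group H] {n t : H} (h : ⁅n, t⁆ ∈ center H) (a : ℕ) : ⁅n ^ a, t⁆ = ⁅n, t⁆ ^ a := by
  induction a with
  | zero => rw [pow_zero, pow_zero, commutatorElement_one_left]
  | succ a ih =>
    rw [pow_succ ⁅n, t⁆, ← ih, show ⁅n ^ (a + 1), t⁆ = n ^ a * ⁅n, t⁆ * (n ^ a)⁻¹ * ⁅n ^ a, t⁆ by
      simp only [commutatorElement_def, pow_succ]; group, mem_center_iff.1 h, mul_inv_cancel_right, mem_center_iff.1 h]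

/-- a central commutator of order `l` is a commutator in every Sylow subgroup -/
theorem cm_of {H : Type} [Group H] [Finite H] {l : ℕ} (hl : l.Prime) {n t : H} (h : ⁅n, t⁆ ∈ center H) (h1 : ⁅n, t⁆ ^ l = 1)
    (S : Sylow l H) : ⁅n, t⁆ ∈ ⁅(S : Subgroup H), (S : Subgroup H)⁆ := by
  have := Fact.mk hl
  obtain ⟨a, c, h2, h3⟩ := Nat.exists_eq_pow_mul_and_not_dvd (Nat.card_pos (α := H)).ne' l hl.ne_one
  have h4 : ∀ x : H, IsPGroup l (zpowers (x ^ c ^ (l - 1))) := fun x => IsPGroup.of_card_dvd_pow (n := a) (by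
    rw [Nat.card_zpowers, orderOf_dvd_iff_pow_eq_one, ← pow_mul, ← orderOf_dvd_iff_pow_eq_one]
    refine (orderOf_dvd_natCard x).trans (h3 ▸ ?_)
    rw [mul_comm]
    exact mul_dvd_mul_right (dvd_pow_self c (Nat.sub_ne_zero_of_lt hl.one_lt)) _)
  have h5 : ⁅n, t⁆ ^ c ^ (l - 1) = ⁅n, t⁆ := by
    rw [← Nat.totient_prime hl, pow_eq_pow_of_modEq (Nat.ModEq.pow_totient (hl.coprime_iff_not_dvd.2 h2).symm) h1, pow_one]
  have h6 : ⁅n ^ c ^ (l - 1), t⁆ = ⁅n, t⁆ := by rw [comm_pow h, h5]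
  have h7 : ⁅n ^ c ^ (l - 1), t ^ c ^ (l - 1)⁆ = ⁅n, t⁆ := by
    rw [← commutatorElement_inv, comm_pow (by rw [← commutatorElement_inv, h6]; exact inv_mem h), ← inv_pow, commutatorElement_inv, h6, h5]
  generalize ⁅n, t⁆ = z at h h1 h7 ⊢
  have hn := h4 n
  have ht := h4 t
  generalize n ^ c ^ (l - 1) = x at h7 hn
  generalize t ^ c ^ (l - 1) = y at h7 ht
  have hz : IsPGroup l (zpowers z) := IsPGroup.of_card_dvd_pow (n := 1) (by
    rwa [Nat.card_zpowers, pow_one, orderOf_dvd_iff_pow_eq_one])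
  have : (zpowers z).Normal := ⟨fun v hv g => by rwa [mem_center_iff.1 (zpowers_le.2 h hv), mul_inv_cancel_right]⟩
  have h8 := hn.to_sup_of_normal_right' (ht.to_sup_of_normal_right hz) (zpowers_le.2 (mem_normalizer_fintype fun v hv =>
    (sup_le (zpowers_le.2 ?_) (zpowers_le.2 ?_) : zpowers y ⊔ zpowers z ≤ (zpowers y ⊔ zpowers z).comap (MulAut.conj x).toMonoidHom) hv))
  · obtain ⟨S₀, h9⟩ := h8.exists_le_sylow
    obtain ⟨g, rfl⟩ := MulAction.exists_smul_eq H S₀ S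
    have h10 : ∀ v ∈ S₀, g * v * g⁻¹ ∈ ((g • S₀ : Sylow l H) : Subgroup H) := fun v hv =>
      Sylow.coe_subgroup_smul (g := g) (P := S₀) ▸ smul_mem_pointwise_smul v (MulAut.conj g) _ hv
    rw [← mul_inv_cancel_right z g, ← mem_center_iff.1 h, ← h7, conjugate_commutatorElement]
    exact commutator_mem_commutator (h10 _ (h9 (mem_sup_left (mem_zpowers x)))) (h10 _ (h9 (mem_sup_right (mem_sup_left (mem_zpowers y)))))
  · show x * y * x⁻¹ ∈ zpowers y ⊔ zpowers z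
    rw [← inv_mul_cancel_right (x * y * x⁻¹) y, ← commutatorElement_def, h7]
    exact mul_mem (mem_sup_right (mem_zpowers z)) (mem_sup_left (mem_zpowers y))
  · show x * z * x⁻¹ ∈ zpowers y ⊔ zpowers z
    rw [mem_center_iff.1 h, mul_inv_cancel_right]
    exact mem_sup_right (mem_zpowers z)

theorem sg_dvd {s d : ℕ} (hs : s.Prime) {ε x : ℤ} (h : orderOf (x : ZMod s) = d) (de : (d = 1 ∧ ε = 1) ∨ (d = 2 ∧ ε = -1)) :
    (s : ℤ) ∣ ε * x - 1 := by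
  have := Fact.mk hs
  rw [← ZMod.intCast_zmod_eq_zero_iff_dvd, Int.cast_sub, Int.cast_mul, Int.cast_one, sub_eq_zero]
  rcases de with ⟨rfl, rfl⟩ | ⟨rfl, rfl⟩
  · rw [orderOf_eq_one_iff.1 h, Int.cast_one, one_mul]
  · have h1 : (x : ZMod s) = 1 ∨ (x : ZMod s) = -1 := by rw [← mul_self_eq_one_iff, ← sq, ← h, pow_orderOf_eq_one]
    rw [h1.resolve_left fun e => by rw [e, orderOf_one] at h; omega]
    simp

end Rq

open Rq in
/-- **[RHO] from its halves** -/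
theorem boxRho_of (hL : BoxRhL) (hP : BoxRhP) : BoxRho := by
  intro p _ q d l n c hq
  refine (Lg.prime.and (Lg.gt (l + 2))).mono ?_
  rintro m ⟨hm, m1⟩ r hr k _ _ Y _ N _ _ ρ F G _ X - _ n' N' α M - hM ε A b sb
  have : NeZero l := ⟨hq.lp.ne_zero⟩
  have := Fact.mk hr.rp
  have m2 := hr.mr
  have mo := hm.odd_of_ne_two (by omega)
  obtain ⟨f, f0, hf⟩ := hq.pq
  have d0 : 0 < d := by rcases sb.de with ⟨rfl, -⟩ | ⟨rfl, -⟩ <;> norm_num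
  have K := (sb.kx hq.lp (hf ▸ pow_pos (Fact.out : p.Prime).pos f)).pow hm.pos mo
  have h1 : (l : ℤ) ∣ (ε * q) ^ m - 1 := by
    have h2 := hq.dl
    rw [if_neg sb.l2, ← Int.cast_natCast] at h2
    exact (sg_dvd hq.lp h2 sb.de).trans (by simpa using sub_dvd_pow_sub_pow (ε * q) 1 m)
  have h2 : (r : ℤ) ∣ (ε * q) ^ m - 1 := by
    have h3 : ε ^ m = ε := by
      rcases sb.sg with rfl | rfl
      exacts [one_pow _, mo.neg_one_pow]
    rw [mul_pow, h3]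
    refine sg_dvd hr.rp ?_ sb.de
    rw [Int.cast_pow, Int.cast_natCast, orderOf_pow' _ hm.ne_zero, hr.ord, Nat.gcd_eq_right (dvd_mul_left m d), Nat.mul_div_cancel _ hm.pos]
  have h3 : r ≠ p := by
    rintro rfl
    have h4 := hr.ord
    rw [hf, Nat.cast_pow, ZMod.natCast_self, zero_pow f0.ne', orderOf_zero] at h4
    exact (Nat.mul_pos d0 hm.pos).ne h4
  obtain ⟨χ, c1, c2, c3⟩ := hL (X.pow hm.pos) l r b ε _ M K h1 hr.rp h2 (by omega) hq.ne h3 hM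
  have hC : X.T ⊔ X.S (CR b) ≤ G := sup_le X.T_le_G (X.S_le_G K.rtC)
  have : Finite ↥(GF (F ^ m) (X.T ⊔ X.S (CR b))) := Finite.of_injective _ (inclusion_injective (K := GF (F ^ m) G) (inf_le_inf_right _ hC))
  let φ : ↥(Hs X m b) →* ↥(GF (F ^ m) (X.T ⊔ X.S (CR b))) :=
    ((GF (F ^ m) G).subtype.comp (Hs X m b).subtype).codRestrict _ fun x => ⟨mem_sup_right x.2, x.1.2.2⟩
  have hφ : ∀ g : GF (F ^ m) (X.T ⊔ X.S (CR b)), (g : Y) ∈ X.S (CR b) → g ∈ φ.range := fun g hg => ⟨⟨⟨g, hC g.2.1, g.2.2⟩, hg⟩, rfl⟩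
  have hZ : (Zc X (CR b)).subgroupOf (GF (F ^ m) (X.T ⊔ X.S (CR b))) ≤ center _ := fun z hz =>
    mem_center_iff.2 fun g => Subtype.ext (K.comm_Zc g.2.1 hz).symm
  have inj : Function.Injective φ := fun x y e => Subtype.ext (Subtype.ext (show (φ x : Y) = φ y from congrArg Subtype.val e))
  obtain ⟨ψ, s1, s2, s3⟩ := hP φ _ χ hM hr.rp (by omega) inj ⟨by
      rintro _ ⟨x, rfl⟩ g
      exact hφ _ (((sup_le (X.T_le_normalizer K.rtC) le_normalizer : X.T ⊔ X.S (CR b) ≤ normalizer (X.S (CR b) : Set Y)) g.2.1 _).1 x.2)⟩ hZ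
    (fun g => by
      obtain ⟨s, hs, z, hz, e⟩ := K.cen_dec g.2.1
      obtain ⟨e1, e2, e3⟩ := K.pow_dec hs (K.Zc_cen hz) (e ▸ g.2.2)
      rw [show g ^ l = ⟨s ^ l, mem_sup_right (pow_mem hs l), e1⟩ * ⟨z ^ l, mem_sup_left (pow_mem hz.1 l), e2⟩ from
        Subtype.ext ((congrArg (· ^ l) e).trans e3)]
      exact mul_mem (mem_sup_left (hφ _ (pow_mem hs l))) (mem_sup_right (pow_mem hz l))) c1
    fun x x1 ⟨j, x2⟩ => c2 _ x.2 (fun e => x1 (inj (e.trans φ.map_one.symm))) ⟨j, (φ.map_pow x _).symm.trans ((congrArg φ x2).trans φ.map_one)⟩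
  obtain ⟨x, x1, y, y1, x2, y2, z1, z2⟩ := K.exists_z h1 hq.ne
  let x' : Hs X m b := ⟨⟨x, X.S_le_G K.rtC x1, x2⟩, x1⟩
  let y' : Hs X m b := ⟨⟨y, X.S_le_G K.rtC y1, y2⟩, y1⟩
  have z3 : ⁅x', y'⁆ ^ l = 1 := Subtype.ext (Subtype.ext (K.Zc_pow z1 ⁅x', y'⁆.2))
  refine ⟨ψ, ⁅x', y'⁆, s1, s2, fun z hz => ?_, ⟨fun g hg => Subtype.ext (X.T_comm ((W1.mem_Pt X le_rfl).1 hg).1 z1.1), K.Zc_cen z1⟩,
    fun e => z2 ((c3 _ z1 ⟨1, (φ.map_pow _ _).symm.trans ((congrArg φ ((pow_one l).symm ▸ z3)).trans φ.map_one)⟩).1 ((s3 _ (hZ z1)).1 e)),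
    cm_of hq.lp (mem_center_iff.2 fun g => Subtype.ext (Subtype.ext (K.Zc_cen z1 _ g.2))) z3⟩
  obtain ⟨z4, j, z5⟩ := (W1.mem_Pt X (S := Zc X {a | X.Rt a}) fun _ h => h.1).1 hz
  have z6 : ((φ z : GF (F ^ m) (X.T ⊔ X.S (CR b))) : Y) ∈ Zc X (CR b) := ⟨z4.1, fun a ha => z4.2 a (K.rtC a ha)⟩
  exact (s3 z (hZ z6)).2 ((c3 _ z6 ⟨j, Subtype.ext (show ((z : GF (F ^ m) G) : Y) ^ l ^ j = 1 from congrArg Subtype.val z5)⟩).2 (z4.2 _ (K.rt 0)))

end Cfsg.Agent.BZ.K3
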