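import Cfsg.Agent.BZ.L.K3.Bas

/-!
# BZ / L / K3 : the halves of `BoxRho` (helper13)
-/

set_option autoImplicit false

namespace Cfsg.Agent.BZ.K3

open Cfsg Cfsg.Lie Subgroup Cfsg.Agent.DL Cfsg.Agent.KM.Ht Cfsg.Agent.KM.Tor

/-- [RHO-DL] the Deligne-Lusztig character of the Levi subgroup -/
def BoxRhL : Prop := AllD fun {p} _ _ _ _ {Y} _ _ _ _ _ {F} {_} _ X => ∀ (l r : ℕ) (b : ZMod l → X.I → ℤ) (ε u : ℤ) (M : Ideal AlgInt),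
  Kx X l b ε u → (l : ℤ) ∣ u - 1 → r.Prime → (r : ℤ) ∣ u - 1 → r ≠ l → l ≠ p → r ≠ p → IsPModular l M →
  ∃ χ : IrrCharacter ↥(GF F (X.T ⊔ X.S (CR b))), χ ∈ principalBlock M ↥(GF F (X.T ⊔ X.S (CR b))) ∧
    (∀ h : ↥(GF F (X.T ⊔ X.S (CR b))), (h : Y) ∈ X.S (CR b) → h ≠ 1 → (∃ j, h ^ r ^ j = 1) → (χ : ↥(GF F (X.T ⊔ X.S (CR b))) → ℂ) h = 0) ∧
    ∀ z : ↥(GF F (X.T ⊔ X.S (CR b))), (z : Y) ∈ Zc X (CR b) → (∃ j, z ^ l ^ j = 1) →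
      ((χ : ↥(GF F (X.T ⊔ X.S (CR b))) → ℂ) z = (χ : ↥(GF F (X.T ⊔ X.S (CR b))) → ℂ) 1 ↔ X.χ (b 0) z = 1)

/-- [RHO-P] the descent to a normal subgroup -/
def BoxRhP : Prop :=
  ∀ {l r : ℕ} {M : Ideal AlgInt} {Γ H : Type} [Group Γ] [Finite Γ] [Group H] (φ : H →* Γ) (Z : Subgroup Γ) (χ : IrrCharacter Γ),
    IsPModular l M → r.Prime → r ≠ l → Function.Injective φ → φ.range.Normal → Z ≤ center Γ → (∀ g : Γ, g ^ l ∈ φ.range ⊔ Z) →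
    χ ∈ principalBlock M Γ → (∀ h : H, h ≠ 1 → (∃ j, h ^ r ^ j = 1) → (χ : Γ → ℂ) (φ h) = 0) →
    ∃ ψ : IrrCharacter H, ψ ∈ principalBlock M H ∧ (Nat.card H).factorization r = (charDegree (ψ : H → ℂ)).factorization r ∧
      ∀ z : H, φ z ∈ center Γ → ((ψ : H → ℂ) z = (ψ : H → ℂ) 1 ↔ (χ : Γ → ℂ) (φ z) = (χ : Γ → ℂ) 1)

end Cfsg.Agent.BZ.K3
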